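import Mathlib
import Cfsg.Prelude.Def_Balance
import Cfsg.Agent.Lib.Coprime.Generation
import Cfsg.Agent.Lib.PSolvable.Core

/-!
Solvable signalizer functors: the family of members, generation, and the transitivity theorem on
maximal `q`-members with its corollaries.
-/

set_option autoImplicit false
set_option linter.style.haveILetI false

open Pointwise
open CfsgLib.Coprime

namespace CfsgLib.Signalizer

variable {G : Type*} [Group G] {p : ℕ} {A : Subgroup G} {θ : G → Subgroup G}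

theorem le_normalizer_of_forall {A U : Subgroup G} (h : ∀ b ∈ A, ∀ u ∈ U, b * u * b⁻¹ ∈ U) :
    A ≤ Subgroup.normalizer (U : Set G) := by
  intro b hb
  rw [Subgroup.mem_normalizer_iff]
  intro u
  refine ⟨h b hb u, fun hu => ?_⟩
  have := h b⁻¹ (inv_mem hb) _ hu
  simpa [mul_assoc] using this

theorem forall_of_le_normalizer {A U : Subgroup G} (h : A ≤ Subgroup.normalizer (U : Set G)) :
    ∀ b ∈ A, ∀ u ∈ U, b * u * b⁻¹ ∈ U := fun _ hb u hu =>
  (Subgroup.mem_normalizer_iff.mp (h hb) u).mp hu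

theorem exists_ne_one_of_ne_bot {H : Subgroup G} (h : H ≠ ⊥) : ∃ x ∈ H, x ≠ 1 := by
  by_contra h'
  push Not at h'
  exact h (eq_bot_iff.mpr fun x hx => Subgroup.mem_bot.mpr (h' x hx))

theorem coprime_card [Finite G] [Fact p.Prime] (hA : Cfsg.IsElementaryAbelian p A) {U : Subgroup G}
    (hU : ¬ p ∣ Nat.card U) : (Nat.card A).Coprime (Nat.card U) :=
  PSolvable.coprime_card_of_isPGroup
    (fun a => ⟨1, Subtype.ext (by rw [pow_one]; exact hA.2 a a.2)⟩)
    ((Nat.Prime.coprime_iff_not_dvd Fact.out).mpr hU).symm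

theorem mem_normalizer_family {U : Subgroup G} (hU : U ∈ Cfsg.signalizerFamily p A θ) :
    A ≤ Subgroup.normalizer (U : Set G) :=
  le_normalizer_of_forall hU.2.2.1

theorem theta_mem_family (hθ : Cfsg.IsSolvableSignalizerFunctor p A θ) {a : G} (ha : a ∈ A)
    (ha1 : a ≠ 1) : θ a ∈ Cfsg.signalizerFamily p A θ :=
  ⟨hθ.2 a ha ha1, hθ.1.2.1 a ha ha1, hθ.1.2.2.1 a ha ha1, fun b hb hb1 => hθ.1.2.2.2 a ha ha1 b hb hb1⟩

theorem mem_family_of_le [Finite G] {U V : Subgroup G} (hV : V ∈ Cfsg.signalizerFamily p A θ)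
    (hUV : U ≤ V) (hU : A ≤ Subgroup.normalizer (U : Set G)) :
    U ∈ Cfsg.signalizerFamily p A θ :=
  ⟨isSolvable_of_le hUV hV.1, fun h => hV.2.1 (h.trans (Subgroup.card_dvd_of_le hUV)),
    forall_of_le_normalizer hU, fun a ha ha1 => (inf_le_inf_right _ hUV).trans (hV.2.2.2 a ha ha1)⟩

theorem sup_mem_family [Finite G] [Fact p.Prime] (hA : Cfsg.IsElementaryAbelian p A)
    {X Y : Subgroup G} (hX : X ∈ Cfsg.signalizerFamily p A θ)
    (hY : Y ∈ Cfsg.signalizerFamily p A θ) (hn : Y ≤ Subgroup.normalizer (X : Set G)) :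
    X ⊔ Y ∈ Cfsg.signalizerFamily p A θ := by
  have hXA := mem_normalizer_family hX
  have hYA := mem_normalizer_family hY
  obtain ⟨hsX, hpX, -, hcX⟩ := hX
  obtain ⟨hsY, hpY, -, hcY⟩ := hY
  refine ⟨isSolvable_sup_of_le_normalizer hsX hsY hn, ?_,
    forall_of_le_normalizer (le_normalizer_sup_of_le hXA hYA), fun a ha ha1 => ?_⟩
  · intro h
    rcases (Nat.Prime.dvd_mul (Fact.out : p.Prime)).mp
      (card_sup_mul_card_inf hn ▸ Dvd.dvd.mul_right h _) with h | h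
    · exact hpX h
    · exact hpY h
  · have hZA : Subgroup.zpowers a ≤ A := Subgroup.zpowers_le.mpr ha
    intro k hk
    obtain ⟨hk1, hk2⟩ := Subgroup.mem_inf.mp hk
    have h := inf_centralizer_le_sup (hZA.trans hXA) (hZA.trans hYA) hn
      ((coprime_card hA hpX).coprime_dvd_left (Subgroup.card_dvd_of_le hZA))
      (Or.inl (Group.isSolvable_of_comm fun u v => mul_comm' u v))
      (Subgroup.mem_inf.mpr ⟨hk1, mem_centralizer_singleton_zpowers hk2⟩)
    refine (sup_le ?_ ?_ : _ ⊔ _ ≤ θ a) h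
    · exact le_trans (inf_le_inf_left _ (Subgroup.centralizer_le (by simp))) (hcX a ha ha1)
    · exact le_trans (inf_le_inf_left _ (Subgroup.centralizer_le (by simp))) (hcY a ha ha1)

/-! ### The subgroups `θ(B)` -/

theorem signalizerInf_eq (hθ : Cfsg.IsSignalizerFunctor p A θ) {B : Subgroup G} (hB : B ≤ A)
    {b : G} (hb : b ∈ B) (hb1 : b ≠ 1) :
    Cfsg.signalizerInf B θ = θ b ⊓ Subgroup.centralizer (B : Set G) := by
  apply le_antisymm
  · refine le_inf (iInf_le (fun a : {a : G // a ∈ B ∧ a ≠ 1} => θ a) ⟨b, hb, hb1⟩) fun x hx c hc => ?_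
    rcases eq_or_ne c 1 with rfl | hc1
    · simp
    · exact hθ.1 c (hB hc) hc1 (iInf_le (fun a : {a : G // a ∈ B ∧ a ≠ 1} => θ a) ⟨c, hc, hc1⟩ hx)
        c rfl
  · refine le_iInf fun c => le_trans (inf_le_inf_left _ (Subgroup.centralizer_le ?_))
      (hθ.2.2.2 b (hB hb) hb1 c (hB c.2.1) c.2.2)
    simpa using c.2.1

theorem signalizerInf_mem_family [Finite G] (hθ : Cfsg.IsSolvableSignalizerFunctor p A θ)
    (hA : Cfsg.IsElementaryAbelian p A) {B : Subgroup G} (hB : B ≤ A) (hB1 : B ≠ ⊥) :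
    Cfsg.signalizerInf B θ ∈ Cfsg.signalizerFamily p A θ := by
  obtain ⟨b, hb, hb1⟩ := exists_ne_one_of_ne_bot hB1
  rw [signalizerInf_eq hθ.1 hB hb hb1]
  refine mem_family_of_le (theta_mem_family hθ (hB hb) hb1) inf_le_left
    (le_normalizer_inf_of_le (mem_normalizer_family (theta_mem_family hθ (hB hb) hb1)) ?_)
  intro a ha
  refine Subgroup.le_normalizer fun c hc => ?_
  exact congrArg Subtype.val (hA.1.is_comm.comm (⟨c, hB hc⟩ : A) ⟨a, ha⟩)

theorem inf_centralizer_le_signalizerInf {U : Subgroup G}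
    (hU : U ∈ Cfsg.signalizerFamily p A θ) {B : Subgroup G} (hB : B ≤ A) :
    U ⊓ Subgroup.centralizer (B : Set G) ≤ Cfsg.signalizerInf B θ :=
  le_iInf fun c => le_trans (inf_le_inf_left _ (Subgroup.centralizer_le (by simpa using c.2.1)))
    (hU.2.2.2 c (hB c.2.1) c.2.2)

/-! ### A common fixed point outside the intersection -/

theorem exists_normalizer_not_le [Finite G] {q : ℕ} [Fact q.Prime] {D Q : Subgroup G}
    (hQ : IsPGroup q Q) (hDQ : D ≤ Q) (hne : ¬ Q ≤ D) :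
    ¬ Subgroup.normalizer (D : Set G) ⊓ Q ≤ D := by
  intro hle
  haveI := hQ.isNilpotent
  have hlt : D.subgroupOf Q < ⊤ := lt_top_iff_ne_top.mpr fun he =>
    hne (Subgroup.subgroupOf_eq_top.mp he)
  obtain ⟨x, hx, hxD⟩ := SetLike.exists_of_lt (Group.normalizerCondition_of_isNilpotent _ hlt)
  refine hxD (hle (Subgroup.mem_inf.mpr ⟨?_, x.2⟩))
  rw [mem_normalizer_iff_conj_smul]
  have h := congrArg (Subgroup.map Q.subtype) (mem_normalizer_iff_conj_smul.mp hx)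
  rwa [map_conj_smul, Subgroup.map_subgroupOf_eq_of_le hDQ] at h

/-- With rank at least three, some `a ≠ 1` has fixed points outside `D` in both `S₁` and `S₂`. -/
theorem exists_common_fixed [Finite G] [hp : Fact p.Prime] (hA : Cfsg.IsElementaryAbelian p A)
    (hA3 : p ^ 3 ≤ Nat.card A) {D S₁ S₂ : Subgroup G}
    (h₁ : (Nat.card A).Coprime (Nat.card S₁)) (h₂ : (Nat.card A).Coprime (Nat.card S₂))
    (hA₁ : A ≤ Subgroup.normalizer (S₁ : Set G)) (hA₂ : A ≤ Subgroup.normalizer (S₂ : Set G))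
    (hD₁ : ¬ S₁ ≤ D) (hD₂ : ¬ S₂ ≤ D) :
    ∃ a ∈ A, a ≠ 1 ∧ ¬ S₁ ⊓ Subgroup.centralizer ({a} : Set G) ≤ D ∧
      ¬ S₂ ⊓ Subgroup.centralizer ({a} : Set G) ≤ D := by
  obtain ⟨B, hBA, hBidx, hB⟩ : ∃ B ≤ A, B.relIndex A ≤ p ∧
      ¬ S₁ ⊓ Subgroup.centralizer (B : Set G) ≤ D := by
    by_contra hne
    push Not at hne
    exact hD₁ (le_of_hyperplane_centralizer_le hA.1 hA.2
      (le_trans (Nat.pow_le_pow_right hp.out.pos (by norm_num)) hA3) hA₁ h₁ hne)
  have hBcard : p < Nat.card B := by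
    have h3 := relIndex_mul_card_inf B A
    rw [inf_eq_left.mpr hBA] at h3
    have h4 : p ^ 3 ≤ p * Nat.card B := hA3.trans (h3 ▸ Nat.mul_le_mul_right _ hBidx)
    rw [pow_succ'] at h4
    have h5 := Nat.le_of_mul_le_mul_left h4 hp.out.pos
    nlinarith [hp.out.two_le]
  haveI : IsMulCommutative B :=
    ⟨⟨fun u v => Subtype.ext (congrArg Subtype.val
      (hA.1.is_comm.comm (⟨u, hBA u.2⟩ : A) ⟨v, hBA v.2⟩) :)⟩⟩
  obtain ⟨x, hxB, hx1, hx2⟩ : ∃ x ∈ B, x ≠ 1 ∧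
      ¬ S₂ ⊓ Subgroup.centralizer ({x} : Set G) ≤ D := by
    by_contra hne
    push Not at hne
    exact hD₂ (le_of_centralizer_le
      (not_isCyclic_of_exponent (fun a ha => hA.2 a (hBA ha)) hp.out.pos hBcard)
      (hBA.trans hA₂) (h₂.coprime_dvd_left (Subgroup.card_dvd_of_le hBA)) hne)
  exact ⟨x, hBA hxB, hx1, fun h => hB ((inf_le_inf_left _
    (Subgroup.centralizer_le (by simpa using hxB))).trans h), hx2⟩

/-! ### Transitivity -/

/-- `Q` is a maximal `q`-member. -/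
def IsMaxQMember (p q : ℕ) (A : Subgroup G) (θ : G → Subgroup G) (Q : Subgroup G) : Prop :=
  Q ∈ Cfsg.signalizerFamily p A θ ∧ IsPGroup q Q ∧
    ∀ R ∈ Cfsg.signalizerFamily p A θ, IsPGroup q R → Q ≤ R → R = Q

theorem exists_isMaxQMember [Finite G] {q : ℕ} {U : Subgroup G}
    (hU : U ∈ Cfsg.signalizerFamily p A θ) (hUq : IsPGroup q U) :
    ∃ Q, IsMaxQMember p q A θ Q ∧ U ≤ Q := by
  obtain ⟨Q, hUQ, hQ⟩ := Finite.exists_le_maximal
    (p := fun R : Subgroup G => R ∈ Cfsg.signalizerFamily p A θ ∧ IsPGroup q R) (a := U) ⟨hU, hUq⟩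
  exact ⟨Q, ⟨hQ.prop.1, hQ.prop.2, fun R hR hRq hle => le_antisymm (hQ.2 ⟨hR, hRq⟩ hle) hle⟩, hUQ⟩

theorem mem_centralizer_singleton_of_inf {x a : G} (hθ : Cfsg.IsSignalizerFunctor p A θ)
    (hx : x ∈ Cfsg.signalizerInf A θ) (ha : a ∈ A) : a * x = x * a := by
  rcases eq_or_ne a 1 with rfl | ha1
  · simp
  · exact hθ.1 a ha ha1 (iInf_le (fun a : {a : G // a ∈ A ∧ a ≠ 1} => θ a) ⟨a, ha, ha1⟩ hx) a rfl

theorem conj_smul_theta (hθ : Cfsg.IsSignalizerFunctor p A θ) {c a : G}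
    (hc : c ∈ Cfsg.signalizerInf A θ) (ha : a ∈ A) (ha1 : a ≠ 1) : MulAut.conj c • θ a = θ a :=
  conj_smul_eq_of_mem (iInf_le (fun a : {a : G // a ∈ A ∧ a ≠ 1} => θ a) ⟨a, ha, ha1⟩ hc)

theorem conj_mem_family [Finite G] (hθ : Cfsg.IsSignalizerFunctor p A θ) {c : G}
    (hc : c ∈ Cfsg.signalizerInf A θ) {U : Subgroup G} (hU : U ∈ Cfsg.signalizerFamily p A θ) :
    MulAut.conj c • U ∈ Cfsg.signalizerFamily p A θ := by
  have hcomm : ∀ b ∈ A, MulAut.conj b • (MulAut.conj c • U) = MulAut.conj c • U := fun b hb => by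
    rw [← mul_smul, ← map_mul, mem_centralizer_singleton_of_inf hθ hc hb, map_mul, mul_smul,
      conj_smul_eq_self_of_mem_normalizer (mem_normalizer_family hU hb)]
  refine ⟨isSolvable_conj_smul hU.1, by rw [card_conj_smul]; exact hU.2.1,
    forall_of_le_normalizer fun b hb => mem_normalizer_iff_conj_smul.mpr (hcomm b hb),
    fun a ha ha1 x hx => ?_⟩
  obtain ⟨hx1, hx2⟩ := Subgroup.mem_inf.mp hx
  have hca := mem_centralizer_singleton_of_inf hθ hc ha
  rw [← conj_smul_theta hθ hc ha ha1, mem_conj_smul_iff]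
  refine hU.2.2.2 a ha ha1 (Subgroup.mem_inf.mpr ⟨mem_conj_smul_iff.mp hx1, ?_⟩)
  have hc' : c ∈ Subgroup.centralizer ({a} : Set G) :=
    Subgroup.mem_centralizer_singleton_iff.mpr hca.symm
  exact mul_mem (mul_mem (inv_mem hc') hx2) hc'

theorem isMaxQMember_conj [Finite G] {q : ℕ} (hθ : Cfsg.IsSignalizerFunctor p A θ) {c : G}
    (hc : c ∈ Cfsg.signalizerInf A θ) {Q : Subgroup G} (hQ : IsMaxQMember p q A θ Q) :
    IsMaxQMember p q A θ (MulAut.conj c • Q) := by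
  refine ⟨conj_mem_family hθ hc hQ.1, hQ.2.1.map _, fun R hR hRq hle => ?_⟩
  have h : MulAut.conj c⁻¹ • R = Q := by
    refine hQ.2.2 _ (conj_mem_family hθ (inv_mem hc) hR) (hRq.map _) fun x hx => ?_
    rw [mem_conj_smul_iff, inv_inv]
    exact hle (conj_mem_conj_smul hx)
  rw [← h, ← mul_smul, ← map_mul, mul_inv_cancel, map_one, one_smul]

/-- Maximal `q`-members are conjugate under `θ(A)`. -/
theorem isMaxQMember_transitive [Finite G] [hp : Fact p.Prime] {q : ℕ} [hq : Fact q.Prime]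
    (hA : Cfsg.IsElementaryAbelian p A) (hA3 : p ^ 3 ≤ Nat.card A)
    (hθ : Cfsg.IsSolvableSignalizerFunctor p A θ) :
    ∀ Q₁ Q₂, IsMaxQMember p q A θ Q₁ → IsMaxQMember p q A θ Q₂ →
      ∃ c ∈ Cfsg.signalizerInf A θ, MulAut.conj c • Q₁ = Q₂ := by
  suffices ∀ n, ∀ Q₁ Q₂, IsMaxQMember p q A θ Q₁ → IsMaxQMember p q A θ Q₂ →
      Nat.card G - Nat.card ↥(Q₁ ⊓ Q₂) = n →
      ∃ c ∈ Cfsg.signalizerInf A θ, MulAut.conj c • Q₁ = Q₂ from
    fun Q₁ Q₂ h1 h2 => this _ Q₁ Q₂ h1 h2 rfl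
  intro n
  induction n using Nat.strong_induction_on with
  | _ n IH =>
  intro Q₁ Q₂ h1 h2 hn
  set D := Q₁ ⊓ Q₂ with hD
  by_cases hD1 : Q₁ ≤ Q₂
  · exact ⟨1, one_mem _, by rw [map_one, one_smul]; exact (h1.2.2 Q₂ h2.1 h2.2.1 hD1).symm⟩
  by_cases hD2 : Q₂ ≤ Q₁
  · exact ⟨1, one_mem _, by rw [map_one, one_smul]; exact h2.2.2 Q₁ h1.1 h1.2.1 hD2⟩
  have hQA1 := mem_normalizer_family h1.1
  have hQA2 := mem_normalizer_family h2.1
  have hDA : A ≤ Subgroup.normalizer (D : Set G) := le_normalizer_inf_of_le hQA1 hQA2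
  set N := Subgroup.normalizer (D : Set G) with hN
  have hNA : A ≤ Subgroup.normalizer (N : Set G) := hDA.trans Subgroup.le_normalizer
  have hm : ∀ {Q : Subgroup G}, IsMaxQMember p q A θ Q → N ⊓ Q ∈ Cfsg.signalizerFamily p A θ :=
    fun hQ => mem_family_of_le hQ.1 inf_le_right
      (le_normalizer_inf_of_le hNA (mem_normalizer_family hQ.1))
  obtain ⟨a, ha, ha1, hx1, hx2⟩ := exists_common_fixed (D := D) hA hA3
    (coprime_card hA (hm h1).2.1) (coprime_card hA (hm h2).2.1)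
    (mem_normalizer_family (hm h1)) (mem_normalizer_family (hm h2))
    (exists_normalizer_not_le h1.2.1 inf_le_left fun h => hD1 (h.trans inf_le_right))
    (exists_normalizer_not_le h2.2.1 inf_le_right fun h => hD2 (h.trans inf_le_left))
  set X := Subgroup.centralizer ({a} : Set G) with hX
  have hAX : A ≤ X := fun b hb z hz => by
    rw [Set.mem_singleton_iff] at hz; subst hz
    exact congrArg Subtype.val (hA.1.is_comm.comm (⟨z, ha⟩ : A) ⟨b, hb⟩)
  set L := θ a ⊓ N with hL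
  have hLA : A ≤ Subgroup.normalizer (L : Set G) :=
    le_normalizer_inf_of_le (mem_normalizer_family (theta_mem_family hθ ha ha1)) hNA
  have hLm : L ∈ Cfsg.signalizerFamily p A θ :=
    mem_family_of_le (theta_mem_family hθ ha ha1) inf_le_left hLA
  have hcopL := coprime_card hA hLm.2.1
  have hU : ∀ {Q : Subgroup G}, IsMaxQMember p q A θ Q → N ⊓ Q ⊓ X ≤ L ∧
      IsPGroup q ↥(N ⊓ Q ⊓ X) ∧
      A ≤ Subgroup.normalizer ((N ⊓ Q ⊓ X : Subgroup G) : Set G) := fun {Q} hQ =>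
    ⟨le_inf ((inf_le_inf_right X inf_le_right).trans (hQ.1.2.2.2 a ha ha1))
      (inf_le_left.trans inf_le_left), hQ.2.1.to_le (inf_le_left.trans inf_le_right),
     le_normalizer_inf_of_le (mem_normalizer_family (hm hQ)) (hAX.trans Subgroup.le_normalizer)⟩
  obtain ⟨hU1, hU1q, hU1A⟩ := hU h1
  obtain ⟨hU2, hU2q, hU2A⟩ := hU h2
  haveI := hA.1
  have hsA : Group.IsSolvable A ∨ Group.IsSolvable L := Or.inr hLm.1
  obtain ⟨T₁, hT₁, hT₁A⟩ := exists_invariant_sylow_ge hLA hcopL hsA hU1 hU1q hU1A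
  obtain ⟨T₂, hT₂, hT₂A⟩ := exists_invariant_sylow_ge hLA hcopL hsA hU2 hU2q hU2A
  obtain ⟨c, hc, hce⟩ := invariant_sylow_conj hLA hcopL hsA T₁ T₂ hT₁A hT₂A
  have hcinf : (c : G) ∈ Cfsg.signalizerInf A θ :=
    (inf_centralizer_le_signalizerInf hLm le_rfl) (Subgroup.mem_inf.mpr ⟨c.2, hc⟩)
  have hcD : MulAut.conj (c : G) • D = D :=
    conj_smul_eq_self_of_mem_normalizer (Subgroup.mem_inf.mp c.2).2
  set T := (T₂ : Subgroup L).map L.subtype with hT
  have hTc : MulAut.conj (c : G) • (T₁ : Subgroup L).map L.subtype = T := by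
    rw [hT, ← hce, map_subtype_conj_smul_sylow]
  have hU1c : MulAut.conj (c : G) • (N ⊓ Q₁ ⊓ X) ≤ T := hTc ▸ Subgroup.map_mono hT₁
  have hTm : T ∈ Cfsg.signalizerFamily p A θ :=
    mem_family_of_le hLm (Subgroup.map_subtype_le _) hT₂A
  have hTN : T ≤ Subgroup.normalizer (D : Set G) := (Subgroup.map_subtype_le _).trans inf_le_right
  have hDm : D ∈ Cfsg.signalizerFamily p A θ := mem_family_of_le h1.1 inf_le_left hDA
  have hDT : IsPGroup q ↥(D ⊔ T) := by
    rw [sup_comm]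
    exact IsPGroup.to_sup_of_normal_right' (T₂.2.map _) (h1.2.1.to_le inf_le_left) hTN
  obtain ⟨R, hR, hRle⟩ := exists_isMaxQMember (sup_mem_family hA hDm hTm hTN) hDT
  have hQ1c := isMaxQMember_conj hθ.1 hcinf h1
  have big : ∀ {Q U : Subgroup G}, D ≤ Q → U ≤ Q → U ≤ D ⊔ T → ¬ U ≤ D →
      Nat.card G - Nat.card ↥(Q ⊓ R) < n := by
    intro Q U hDQ hUQ hUT hUD
    have hlt : Nat.card D < Nat.card ↥(Q ⊓ R) := by
      refine lt_of_le_of_ne (Subgroup.card_le_of_le (le_inf hDQ (le_sup_left.trans hRle))) fun he => ?_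
      have h3 := Subgroup.eq_of_le_of_card_ge (le_inf hDQ (le_sup_left.trans hRle)) he.ge
      exact hUD (h3 ▸ le_inf hUQ (hUT.trans hRle))
    have := Subgroup.card_le_card_group (Q ⊓ R)
    omega
  have hb1 : Nat.card G - Nat.card ↥(MulAut.conj (c : G) • Q₁ ⊓ R) < n := by
    refine big (U := MulAut.conj (c : G) • (N ⊓ Q₁ ⊓ X))
      (hcD ▸ Subgroup.map_mono inf_le_left) (Subgroup.map_mono (inf_le_left.trans inf_le_right))
      (hU1c.trans le_sup_right) fun h => hx1 fun u hu => ?_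
    have h3 := h (conj_mem_conj_smul (g := (c : G)) hu)
    rw [← hcD, mem_conj_smul_iff] at h3
    simpa [mul_assoc] using h3
  have hb2 : Nat.card G - Nat.card ↥(Q₂ ⊓ R) < n :=
    big (U := N ⊓ Q₂ ⊓ X) inf_le_right (inf_le_left.trans inf_le_right)
      (hT₂.trans le_sup_right) hx2
  obtain ⟨d, hd, hde⟩ := IH _ hb1 _ R hQ1c hR rfl
  obtain ⟨e, he, hee⟩ := IH _ hb2 Q₂ R h2 hR rfl
  refine ⟨e⁻¹ * d * c, mul_mem (mul_mem (inv_mem he) hd) hcinf, ?_⟩
  rw [map_mul, map_mul, mul_smul, mul_smul, hde, ← hee, ← mul_smul, ← map_mul, inv_mul_cancel,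
    map_one, one_smul]

/-- A maximal `q`-member meets every member in a Sylow `q`-subgroup, up to `θ(A)`. -/
theorem exists_conj_inter_sylow [Finite G] [hp : Fact p.Prime] {q : ℕ} [hq : Fact q.Prime]
    (hA : Cfsg.IsElementaryAbelian p A) (hA3 : p ^ 3 ≤ Nat.card A)
    (hθ : Cfsg.IsSolvableSignalizerFunctor p A θ) {Q H : Subgroup G}
    (hQ : IsMaxQMember p q A θ Q) (hH : H ∈ Cfsg.signalizerFamily p A θ) :
    ∃ c ∈ Cfsg.signalizerInf A θ, ∃ S : Sylow q H,
      (S : Subgroup H).map H.subtype = MulAut.conj c • Q ⊓ H := by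
  obtain ⟨S, hS⟩ := exists_invariant_sylow (mem_normalizer_family hH) (coprime_card hA hH.2.1)
    (Or.inr hH.1) q
  set T := (S : Subgroup H).map H.subtype with hT
  obtain ⟨R, hR, hTR⟩ := exists_isMaxQMember (q := q)
    (mem_family_of_le hH (Subgroup.map_subtype_le _) hS) (S.2.map _)
  obtain ⟨c, hc, hce⟩ := isMaxQMember_transitive hA hA3 hθ Q R hQ hR
  refine ⟨c, hc, S, le_antisymm (le_inf (hce ▸ hTR) (Subgroup.map_subtype_le _)) ?_⟩
  rw [hce]
  have h1 : (R ⊓ H).subgroupOf H = (S : Subgroup H) := by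
    refine S.3 ((hR.2.1.to_le inf_le_left).comap_of_injective _ H.subtype_injective) fun x hx => ?_
    exact Subgroup.mem_inf.mpr ⟨hTR (Subgroup.mem_map_of_mem H.subtype hx), x.2⟩
  rw [← h1, Subgroup.map_subgroupOf_eq_of_le inf_le_right]

/-- A maximal `q`-member contains a Sylow `q`-subgroup of each `θ(B)`. -/
theorem exists_sylow_signalizerInf [Finite G] [hp : Fact p.Prime] {q : ℕ} [hq : Fact q.Prime]
    (hA : Cfsg.IsElementaryAbelian p A) (hA3 : p ^ 3 ≤ Nat.card A)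
    (hθ : Cfsg.IsSolvableSignalizerFunctor p A θ) {Q B : Subgroup G}
    (hQ : IsMaxQMember p q A θ Q) (hB : B ≤ A) (hB1 : B ≠ ⊥) :
    ∃ S : Sylow q ↥(Cfsg.signalizerInf B θ),
      (S : Subgroup ↥(Cfsg.signalizerInf B θ)).map (Cfsg.signalizerInf B θ).subtype
        = Q ⊓ Subgroup.centralizer (B : Set G) := by
  set H := Cfsg.signalizerInf B θ with hHdef
  obtain ⟨c, hc, S, hS⟩ := exists_conj_inter_sylow hA hA3 hθ hQ
    (signalizerInf_mem_family hθ hA hB hB1)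
  have hcH : c ∈ H := Subgroup.mem_iInf.mpr fun b =>
    iInf_le (fun a : {a : G // a ∈ A ∧ a ≠ 1} => θ a) ⟨b, hB b.2.1, b.2.2⟩ hc
  have hcB : c ∈ Subgroup.centralizer (B : Set G) := fun b hb =>
    mem_centralizer_singleton_of_inf hθ.1 hc (hB hb)
  refine ⟨(⟨c, hcH⟩ : H)⁻¹ • S, ?_⟩
  rw [map_subtype_conj_smul_sylow, hS]
  obtain ⟨b, hb, hb1⟩ := exists_ne_one_of_ne_bot hB1
  ext x
  rw [mem_conj_smul_iff, Subgroup.coe_inv, inv_inv, Subgroup.mem_inf, Subgroup.mem_inf,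
    mem_conj_smul_iff, show c⁻¹ * (c * x * c⁻¹) * c = x by group]
  refine and_congr_right fun hxQ => ⟨fun hx => ?_, fun hx => ?_⟩
  · have hxH : x ∈ H := by
      have := mul_mem (mul_mem (inv_mem hcH) hx) hcH
      simpa [mul_assoc] using this
    rw [hHdef, signalizerInf_eq hθ.1 hB hb hb1] at hxH
    exact (Subgroup.mem_inf.mp hxH).2
  · exact mul_mem (mul_mem hcH (inf_centralizer_le_signalizerInf hQ.1 hB
      (Subgroup.mem_inf.mpr ⟨hxQ, hx⟩))) (inv_mem hcH)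

/-- A solvable functor with all values `q`-groups is complete. -/
theorem complete_of_single_prime [Finite G] [hp : Fact p.Prime] {q : ℕ} [hq : Fact q.Prime]
    (hA : Cfsg.IsElementaryAbelian p A) (hA3 : p ^ 3 ≤ Nat.card A)
    (hθ : Cfsg.IsSolvableSignalizerFunctor p A θ) (h : ∀ a ∈ A, a ≠ 1 → IsPGroup q (θ a)) :
    Cfsg.IsCompleteSignalizerFunctor p A θ := by
  obtain ⟨b, hb, hb1⟩ : ∃ b ∈ A, b ≠ 1 := by
    refine exists_ne_one_of_ne_bot fun h => ?_
    rw [h, Subgroup.card_bot] at hA3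
    nlinarith [hp.out.two_le, Nat.pow_le_pow_left hp.out.two_le 3]
  obtain ⟨Q, hQ, -⟩ := exists_isMaxQMember (theta_mem_family hθ hb hb1) (h b hb hb1)
  refine ⟨hθ.1, Q, hQ.1.2.2.1, hQ.1.2.1, fun a ha ha1 =>
    le_antisymm (hQ.1.2.2.2 a ha ha1) ?_⟩
  obtain ⟨R, hR, hRa⟩ := exists_isMaxQMember (theta_mem_family hθ ha ha1) (h a ha ha1)
  obtain ⟨c, hc, hce⟩ := isMaxQMember_transitive hA hA3 hθ R Q hR hQ
  refine le_inf ?_ (hθ.1.1 a ha ha1)
  rw [← conj_smul_theta hθ.1 hc ha ha1, ← hce]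
  exact Subgroup.map_mono hRa

theorem le_iSup_inter [Finite G] [hp : Fact p.Prime] (hA : Cfsg.IsElementaryAbelian p A)
    {X : Subgroup G} (hX : X ∈ Cfsg.signalizerFamily p A θ) {B : Subgroup G} (hB : B ≤ A)
    (hB2 : p ^ 2 ≤ Nat.card B) :
    X = ⨆ D : {D : Subgroup G // D ≤ B ∧ D.relIndex B = p},
      X ⊓ Cfsg.signalizerInf (D : Subgroup G) θ := by
  refine le_antisymm ?_ (iSup_le fun _ => inf_le_left)
  have hBc : IsMulCommutative B :=
    ⟨⟨fun u v => Subtype.ext (congrArg Subtype.val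
      (hA.1.is_comm.comm (⟨u, hB u.2⟩ : A) ⟨v, hB v.2⟩) :)⟩⟩
  refine le_of_hyperplane_centralizer_le hBc (fun a ha => hA.2 a (hB ha)) hB2
    (hB.trans (mem_normalizer_family hX))
    ((coprime_card hA hX.2.1).coprime_dvd_left (Subgroup.card_dvd_of_le hB)) fun D hD hidx => ?_
  obtain ⟨n, hn⟩ := IsPGroup.iff_card.mp (show IsPGroup p B from fun b =>
    ⟨1, Subtype.ext (by rw [pow_one]; exact hA.2 b (hB b.2))⟩)
  have hdvd : D.relIndex B ∣ p ^ n := hn ▸ Subgroup.relIndex_dvd_card D B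
  obtain ⟨m, -, hm⟩ := (Nat.dvd_prime_pow hp.out).mp hdvd
  have hstep : ∀ D₀, D₀ ≤ D → D₀.relIndex B = p →
      X ⊓ Subgroup.centralizer (D : Set G) ≤
        ⨆ D : {D : Subgroup G // D ≤ B ∧ D.relIndex B = p},
          X ⊓ Cfsg.signalizerInf (D : Subgroup G) θ := fun D₀ h0 h1 =>
    le_iSup_of_le ⟨D₀, h0.trans hD, h1⟩ (le_inf inf_le_left
      ((inf_le_inf_left _ (Subgroup.centralizer_le h0)).trans
        (inf_centralizer_le_signalizerInf hX (h0.trans (hD.trans hB)))))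
  rw [hm] at hidx
  rcases m with _ | m
  · rw [pow_zero, Subgroup.relIndex_eq_one] at hm
    obtain ⟨D₀, hD₀, hD₀le⟩ := Sylow.exists_subgroup_card_pow_prime (G := B) p (n := n - 1)
      (hn ▸ pow_dvd_pow p (by omega)) |>.imp fun K hK => And.intro hK (Subgroup.map_subtype_le K)
    refine hstep (D₀.map B.subtype) (hD₀le.trans hm) ?_
    rw [Subgroup.relIndex, Subgroup.subgroupOf,
      Subgroup.comap_map_eq_self_of_injective B.subtype_injective]
    have h5 := D₀.card_mul_index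
    rw [hD₀, hn] at h5
    have hn1 : n = (n - 1) + 1 := by
      have : n ≠ 0 := by
        rintro rfl
        rw [hn, pow_zero] at hB2
        nlinarith [hp.out.two_le]
      omega
    rw [hn1, Nat.add_sub_cancel, pow_succ] at h5
    exact Nat.eq_of_mul_eq_mul_left (pow_pos hp.out.pos _) h5
  · rcases m with _ | m
    · exact hstep D le_rfl (by rw [hm, pow_one])
    · exfalso
      have := Nat.pow_lt_pow_right hp.out.one_lt (show 1 < m + 1 + 1 by omega)
      rw [pow_one] at this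
      omega

end CfsgLib.Signalizer
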