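import Mathlib
import Cfsg.Agent.Lib.Signalizer.Basic
import Cfsg.Agent.Lib.PSolvable.Constrained
import Cfsg.Agent.Lib.Transfer.Basic

/-!
Equivariance of `O_{p'}(C(a))`, and balance when the centralizer is `p`-constrained.
-/

set_option autoImplicit false
set_option linter.style.haveILetI false

open CfsgLib.Coprime

namespace CfsgLib.Signalizer

variable {G : Type*} [Group G] [Finite G] {p : ℕ}

theorem le_centralizerPPrimeCore {N : Subgroup G} {d : G}
    (hN : N ≤ Subgroup.centralizer ({d} : Set G))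
    (hn : Subgroup.centralizer ({d} : Set G) ≤ Subgroup.normalizer (N : Set G))
    (hc : (Nat.card N).Coprime p) : N ≤ Cfsg.centralizerPPrimeCore p d := by
  haveI : (N.subgroupOf (Subgroup.centralizer ({d} : Set G))).Normal :=
    Subgroup.normal_subgroupOf_of_le_normalizer hn
  have h1 : N.subgroupOf (Subgroup.centralizer ({d} : Set G)) ≤
      Cfsg.pPrimeCore p ↥(Subgroup.centralizer ({d} : Set G)) := le_sSup
    ⟨inferInstance, by rwa [Nat.card_congr (Subgroup.subgroupOfEquivOfLe hN).toEquiv]⟩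
  have h2 := Subgroup.map_mono (f := (Subgroup.centralizer ({d} : Set G)).subtype) h1
  rwa [Subgroup.map_subgroupOf_eq_of_le hN] at h2

theorem coprime_centralizerPPrimeCore [Fact p.Prime] (c : G) :
    (Nat.card (Cfsg.centralizerPPrimeCore p c)).Coprime p := by
  rw [Cfsg.centralizerPPrimeCore, Subgroup.card_map_of_injective (Subgroup.subtype_injective _)]
  exact Transfer.pPrimeCore_coprime p

theorem centralizerPPrimeCore_normalized (c : G) :
    Subgroup.centralizer ({c} : Set G) ≤
      Subgroup.normalizer (Cfsg.centralizerPPrimeCore p c : Set G) := by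
  haveI := Transfer.pPrimeCore_normal p ↥(Subgroup.centralizer ({c} : Set G))
  have := Subgroup.le_normalizer_map (Subgroup.centralizer ({c} : Set G)).subtype
    (H := Cfsg.pPrimeCore p ↥(Subgroup.centralizer ({c} : Set G)))
  rwa [Subgroup.normalizer_eq_top_iff.mpr inferInstance, ← MonoidHom.range_eq_map,
    Subgroup.range_subtype] at this

theorem map_conj_centralizerPPrimeCore_le [Fact p.Prime] (c g : G) :
    (Cfsg.centralizerPPrimeCore p c).map (MulAut.conj g).toMonoidHom ≤
      Cfsg.centralizerPPrimeCore p (g * c * g⁻¹) := by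
  have hC : ∀ u, u ∈ Subgroup.centralizer ({g * c * g⁻¹} : Set G) ↔
      g⁻¹ * u * g ∈ Subgroup.centralizer ({c} : Set G) := by
    intro u
    rw [Subgroup.mem_centralizer_singleton_iff, Subgroup.mem_centralizer_singleton_iff]
    constructor <;> intro h
    · calc g⁻¹ * u * g * c = g⁻¹ * (u * (g * c * g⁻¹)) * g := by group
        _ = g⁻¹ * (g * c * g⁻¹ * u) * g := by rw [h]
        _ = c * (g⁻¹ * u * g) := by group
    · calc u * (g * c * g⁻¹) = g * (g⁻¹ * u * g * c) * g⁻¹ := by group
        _ = g * (c * (g⁻¹ * u * g)) * g⁻¹ := by rw [h]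
        _ = g * c * g⁻¹ * u := by group
  refine le_centralizerPPrimeCore ?_ (le_normalizer_of_forall fun u hu n hn => ?_) ?_
  · rintro _ ⟨n, hn, rfl⟩
    refine (hC _).mpr ?_
    show g⁻¹ * (g * n * g⁻¹) * g ∈ _
    rw [show g⁻¹ * (g * n * g⁻¹) * g = n by group]
    exact Subgroup.map_subtype_le _ hn
  · obtain ⟨m, hm, rfl⟩ := hn
    refine ⟨_, forall_of_le_normalizer (centralizerPPrimeCore_normalized c) _ ((hC u).mp hu) m hm, ?_⟩
    show g * (g⁻¹ * u * g * m * (g⁻¹ * u * g)⁻¹) * g⁻¹ = u * (g * m * g⁻¹) * u⁻¹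
    group
  · rw [Subgroup.card_map_of_injective (MulEquiv.injective _)]
    exact coprime_centralizerPPrimeCore c

theorem centralizerPPrimeCore_conj (p : ℕ) [Fact p.Prime] (c g : G) :
    Cfsg.centralizerPPrimeCore p (g * c * g⁻¹) =
      (Cfsg.centralizerPPrimeCore p c).map (MulAut.conj g).toMonoidHom := by
  refine le_antisymm (fun u hu => ?_) (map_conj_centralizerPPrimeCore_le c g)
  have h1 : g⁻¹ * u * g ∈ Cfsg.centralizerPPrimeCore p (g⁻¹ * (g * c * g⁻¹) * g⁻¹⁻¹) :=
    map_conj_centralizerPPrimeCore_le (g * c * g⁻¹) g⁻¹ ⟨u, hu, by simp⟩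
  rw [show g⁻¹ * (g * c * g⁻¹) * g⁻¹⁻¹ = c by group] at h1
  refine ⟨_, h1, ?_⟩
  show g * (g⁻¹ * u * g) * g⁻¹ = u
  group

theorem centralizerPPrimeCore_balance_of_pow [hp : Fact p.Prime] {a b : G} {n : ℕ}
    (hab : a * b = b * a) (hap : a ^ p ^ n = 1)
    (hcon : Cfsg.IsPConstrained p ↥(Subgroup.centralizer ({b} : Set G))) :
    Cfsg.centralizerPPrimeCore p a ⊓ Subgroup.centralizer ({b} : Set G) ≤
      Cfsg.centralizerPPrimeCore p b := by
  set C := Subgroup.centralizer ({b} : Set G) with hC
  have haC : a ∈ C := Subgroup.mem_centralizer_singleton_iff.mpr hab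
  set D := Cfsg.centralizerPPrimeCore p a ⊓ C with hD
  have hDC : D ≤ C := inf_le_right
  have hDa : ∀ d ∈ D, d * a = a * d := fun d hd =>
    Subgroup.mem_centralizer_singleton_iff.mp (Subgroup.map_subtype_le _ hd.1)
  set P : Subgroup C := Subgroup.zpowers ⟨a, haC⟩ with hP
  have h1 : D.subgroupOf C ≤ Cfsg.pPrimeCore p C := by
    refine PSolvable.le_pPrimeCore_of_le_normalizer hcon (P := P) ?_ ?_ ?_ ?_
    · rintro ⟨g, k, rfl⟩
      refine ⟨n, Subtype.ext (Subtype.ext ?_)⟩
      show (a ^ k) ^ p ^ n = 1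
      rw [← zpow_natCast, ← zpow_mul, mul_comm, zpow_mul, zpow_natCast, hap, one_zpow]
    · rw [Nat.card_congr (Subgroup.subgroupOfEquivOfLe hDC).toEquiv]
      exact (coprime_centralizerPPrimeCore a).coprime_dvd_left
        (Subgroup.card_dvd_of_le inf_le_left)
    · intro d hd
      refine Subgroup.centralizer_le_normalizer _ ?_
      rintro _ ⟨k, rfl⟩
      exact ((show Commute (⟨a, haC⟩ : C) d from Subtype.ext (hDa d hd).symm).zpow_left k).eq
    · refine le_normalizer_of_forall fun g hg d hd => ?_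
      obtain ⟨k, hk⟩ := (Subgroup.mem_normalizer_iff.mp hg _).mp (Subgroup.mem_zpowers _)
      have hk' : (a : G) ^ k = (g : G) * a * (g : G)⁻¹ := congrArg Subtype.val hk
      have hle : Subgroup.centralizer ({a} : Set G) ≤
          Subgroup.centralizer ({(g : G) * a * (g : G)⁻¹} : Set G) := fun u hu => by
        refine Subgroup.mem_centralizer_singleton_iff.mpr ?_
        rw [← hk']
        exact ((show Commute u a from Subgroup.mem_centralizer_singleton_iff.mp hu).zpow_right k).eq
      have hcard : Nat.card ↥(Subgroup.centralizer ({(g : G) * a * (g : G)⁻¹} : Set G)) ≤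
          Nat.card ↥(Subgroup.centralizer ({a} : Set G)) := by
        refine Nat.card_le_card_of_injective (fun u => ⟨(g : G)⁻¹ * u * g, ?_⟩) fun u v huv => ?_
        · refine Subgroup.mem_centralizer_singleton_iff.mpr ?_
          have := Subgroup.mem_centralizer_singleton_iff.mp u.2
          calc (g : G)⁻¹ * u * g * a
              = (g : G)⁻¹ * ((u : G) * ((g : G) * a * (g : G)⁻¹)) * g := by group
            _ = (g : G)⁻¹ * ((g : G) * a * (g : G)⁻¹ * u) * g := by rw [this]
            _ = a * ((g : G)⁻¹ * u * g) := by group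
        · simpa using congrArg Subtype.val huv
      have heqC := Subgroup.eq_of_le_of_card_ge hle hcard
      have heqθ : Cfsg.centralizerPPrimeCore p ((g : G) * a * (g : G)⁻¹) ≤
          Cfsg.centralizerPPrimeCore p a :=
        le_centralizerPPrimeCore (heqC.symm ▸ Subgroup.map_subtype_le _)
          (heqC.symm ▸ centralizerPPrimeCore_normalized _) (coprime_centralizerPPrimeCore _)
      refine Subgroup.mem_inf.mpr ⟨heqθ (map_conj_centralizerPPrimeCore_le a g ⟨d, hd.1, rfl⟩), ?_⟩
      exact mul_mem (mul_mem g.2 d.2) (inv_mem g.2)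
  have h2 := Subgroup.map_mono (f := C.subtype) h1
  rwa [Subgroup.map_subgroupOf_eq_of_le hDC] at h2

theorem centralizerPPrimeCore_balance [Fact p.Prime] {a b : G} (hab : a * b = b * a)
    (hap : a ^ p = 1) (hcon : Cfsg.IsPConstrained p ↥(Subgroup.centralizer ({b} : Set G))) :
    Cfsg.centralizerPPrimeCore p a ⊓ Subgroup.centralizer ({b} : Set G) ≤
      Cfsg.centralizerPPrimeCore p b :=
  centralizerPPrimeCore_balance_of_pow (n := 1) hab (by rwa [pow_one]) hcon

end CfsgLib.Signalizer
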