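import Mathlib
import Cfsg.Agent.Lib.PSolvable.Omega
import Cfsg.Agent.Lib.Coprime.Action

/-!
Fixed-point arguments for the solvable signalizer functor theorem: if `⟨i⟩` of prime order acts
fixed-point-freely on `W`, and `W` centralizes the fixed points of `i` on a coprime abelian module,
then `W` acts trivially (and a relative version with a second operator `r`).
-/

set_option autoImplicit false
set_option linter.style.haveILetI false

open CfsgLib.Coprime
open scoped commutatorElement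

namespace CfsgLib.Signalizer

section Module

variable {M : Type*} [CommGroup M] [Finite M]

/-- The points of `M` fixed by a group of automorphisms. -/
def fixedSubgroup (W : Subgroup (MulAut M)) : Subgroup M where
  carrier := {m | ∀ u ∈ W, u m = m}
  one_mem' := fun u _ => map_one u
  mul_mem' := fun ha hb u hu => by rw [map_mul, ha u hu, hb u hu]
  inv_mem' := fun ha u hu => by rw [map_inv, ha u hu]

theorem prod_mem_fixedSubgroup (W : Subgroup (MulAut M)) [Fintype W] (x : M) :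
    ∏ w : W, (w : MulAut M) x ∈ fixedSubgroup W := by
  intro u hu
  rw [map_prod]
  exact Fintype.prod_equiv (Equiv.mulLeft ⟨u, hu⟩) _ _ (fun w => rfl)

/-- `∏ u⁻¹ s u` is fixed when `s` has no fixed points on `W`. -/
theorem prod_twist_mem_fixedSubgroup (W : Subgroup (MulAut M)) [Fintype W] (s : MulAut M)
    (hs : ∀ u ∈ W, s * u * s⁻¹ ∈ W) (hC : ∀ u ∈ W, s * u = u * s → u = 1) (m : M) :
    ∏ u : W, (u : MulAut M)⁻¹ (s ((u : MulAut M) m)) ∈ fixedSubgroup W := by
  let f : W → W := fun u => ⟨(u : MulAut M)⁻¹ * (s * u * s⁻¹),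
    mul_mem (inv_mem u.2) (hs u u.2)⟩
  have hf : Function.Injective f := by
    intro u v huv
    have h1 : (u : MulAut M)⁻¹ * (s * u * s⁻¹) = (v : MulAut M)⁻¹ * (s * v * s⁻¹) :=
      congrArg Subtype.val huv
    have h2 : s * ((u : MulAut M) * (v : MulAut M)⁻¹) =
        ((u : MulAut M) * (v : MulAut M)⁻¹) * s := by
      calc s * ((u : MulAut M) * (v : MulAut M)⁻¹)
          = (u : MulAut M) * ((u : MulAut M)⁻¹ * (s * u * s⁻¹)) *
              (s * (v : MulAut M)⁻¹ * s⁻¹) * s := by group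
        _ = (u : MulAut M) * ((v : MulAut M)⁻¹ * (s * v * s⁻¹)) *
              (s * (v : MulAut M)⁻¹ * s⁻¹) * s := by rw [h1]
        _ = ((u : MulAut M) * (v : MulAut M)⁻¹) * s := by group
    exact Subtype.ext (mul_inv_eq_one.mp (hC _ (mul_mem u.2 (inv_mem v.2)) h2))
  have heq : ∀ u : W, (u : MulAut M)⁻¹ (s ((u : MulAut M) m)) = (f u : MulAut M) (s m) := by
    intro u
    simp [f]
  rw [Finset.prod_congr rfl fun u _ => heq u,
    Fintype.prod_equiv (Equiv.ofBijective f (Finite.injective_iff_bijective.mp hf))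
      (fun u => (f u : MulAut M) (s m)) (fun w => (w : MulAut M) (s m)) fun u => rfl]
  exact prod_mem_fixedSubgroup W _

/-- The norm map of `i`. -/
def normMap (p : ℕ) (i : MulAut M) (m : M) : M := ∏ k ∈ Finset.range p, (i ^ k) m

theorem apply_normMap {p : ℕ} {i : MulAut M} (hi : i ^ p = 1) (m : M) :
    i (normMap p i m) = normMap p i m := by
  unfold normMap
  rw [map_prod]
  have h1 : ∀ k, i ((i ^ k) m) = (i ^ (k + 1)) m := fun k => by rw [pow_succ', MulAut.mul_apply]
  rw [Finset.prod_congr rfl fun k _ => h1 k]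
  rcases p with _ | q
  · simp
  · rw [Finset.prod_range_succ, hi, Finset.prod_range_succ' (fun k => (i ^ k) m) q, pow_zero]

theorem pow_mem_normalizes {W : Subgroup (MulAut M)} {i : MulAut M}
    (hi : ∀ u ∈ W, i * u * i⁻¹ ∈ W) : ∀ k : ℕ, ∀ u ∈ W, i ^ k * u * (i ^ k)⁻¹ ∈ W := by
  intro k
  induction k with
  | zero => simp
  | succ k ih =>
    intro u hu
    have h := hi _ (ih u hu)
    rw [show i ^ (k + 1) * u * (i ^ (k + 1))⁻¹ = i * (i ^ k * u * (i ^ k)⁻¹) * i⁻¹ by
      rw [pow_succ']; group]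
    exact h

theorem fixed_of_pow {p : ℕ} [hp : Fact p.Prime] {G : Type*} [Group G] {i u : G} (hi : i ^ p = 1)
    {k : ℕ} (hk : k < p) (hk0 : k ≠ 0) (h : i ^ k * u = u * i ^ k) : i * u = u * i := by
  have hc : Commute (i ^ k) u := h
  have hcop : (orderOf i).Coprime k := by
    refine Nat.Coprime.coprime_dvd_left (orderOf_dvd_of_pow_eq_one hi) ?_
    exact (hp.out.coprime_iff_not_dvd).mpr fun hd => by
      have := Nat.le_of_dvd (Nat.pos_of_ne_zero hk0) hd
      omega
  obtain ⟨j, hj⟩ := exists_pow_eq_self_of_coprime hcop.symm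
  have := hc.pow_left j
  rw [hj] at this
  exact this

theorem pow_card_mem_fixedSubgroup {p : ℕ} [hp : Fact p.Prime] (W : Subgroup (MulAut M))
    [Fintype W] (i : MulAut M) (hi : i ^ p = 1) (hWi : ∀ u ∈ W, i * u * i⁻¹ ∈ W)
    (hCi : ∀ u ∈ W, i * u = u * i → u = 1) (m : M)
    (h : ∏ u : W, (u : MulAut M)⁻¹ (normMap p i ((u : MulAut M) m)) ∈ fixedSubgroup W) :
    m ^ Fintype.card W ∈ fixedSubgroup W := by
  have h0 : (∏ u : W, (u : MulAut M)⁻¹ (normMap p i ((u : MulAut M) m))) =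
      ∏ k ∈ Finset.range p, ∏ u : W, (u : MulAut M)⁻¹ ((i ^ k) ((u : MulAut M) m)) := by
    unfold normMap
    rw [Finset.prod_comm]
    exact Finset.prod_congr rfl fun u _ => map_prod _ _ _
  rw [h0, ← Finset.mul_prod_erase _ _ (Finset.mem_range.mpr hp.out.pos)] at h
  have h1 : (∏ u : W, (u : MulAut M)⁻¹ ((i ^ 0) ((u : MulAut M) m))) = m ^ Fintype.card W := by
    simp [Finset.prod_const]
  rw [h1] at h
  refine (Subgroup.mul_mem_cancel_right _ (Subgroup.prod_mem _ fun k hk => ?_)).mp h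
  obtain ⟨hk0, hk⟩ := Finset.mem_erase.mp hk
  exact prod_twist_mem_fixedSubgroup W _ (pow_mem_normalizes hWi k)
    (fun u hu he => hCi u hu (fixed_of_pow hi (Finset.mem_range.mp hk) hk0 he)) m

theorem eq_bot_of_pow_card (W : Subgroup (MulAut M)) [Fintype W]
    (hcop : (Nat.card W).Coprime (Nat.card M))
    (h : ∀ m : M, m ^ Fintype.card W ∈ fixedSubgroup W) : W = ⊥ := by
  rw [eq_bot_iff]
  intro u hu
  rw [Subgroup.mem_bot]
  ext m
  have h1 : (u m) ^ Nat.card W = m ^ Nat.card W := by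
    rw [← map_pow, Nat.card_eq_fintype_card]
    exact h m u hu
  have h2 : orderOf (m⁻¹ * u m) ∣ Nat.card W :=
    orderOf_dvd_of_pow_eq_one (by rw [mul_pow, inv_pow, h1, inv_mul_cancel])
  have h3 := Nat.eq_one_of_dvd_coprimes hcop h2 (orderOf_dvd_natCard _)
  rw [orderOf_eq_one_iff, inv_mul_eq_one] at h3
  simpa using h3.symm

/-- A fixed-point-free `i` of order `p` on `W`, with `W` trivial on the fixed points of `i`. -/
theorem eq_bot_of_fixed {p : ℕ} [Fact p.Prime] (W : Subgroup (MulAut M)) (i : MulAut M)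
    (hi : i ^ p = 1) (hWi : ∀ u ∈ W, i * u * i⁻¹ ∈ W) (hCi : ∀ u ∈ W, i * u = u * i → u = 1)
    (hcop : (Nat.card W).Coprime (Nat.card M))
    (hfix : ∀ m, i m = m → m ∈ fixedSubgroup W) : W = ⊥ := by
  classical
  haveI := Fintype.ofFinite W
  refine eq_bot_of_pow_card W hcop fun m => pow_card_mem_fixedSubgroup W i hi hWi hCi m ?_
  refine Subgroup.prod_mem _ fun u _ => ?_
  have h1 := hfix _ (apply_normMap hi ((u : MulAut M) m))
  rw [h1 _ (inv_mem u.2)]
  exact h1

/-- The relative version: `r` commutes with `i`, has no fixed points on `W`, and moves the fixed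
points of `i` only inside the fixed points of `W`. -/
theorem eq_bot_of_relative {p : ℕ} [hp : Fact p.Prime] (W : Subgroup (MulAut M)) (i r : MulAut M)
    (hi : i ^ p = 1) (hir : i * r = r * i) (hWi : ∀ u ∈ W, i * u * i⁻¹ ∈ W)
    (hWr : ∀ u ∈ W, r * u * r⁻¹ ∈ W) (hCi : ∀ u ∈ W, i * u = u * i → u = 1)
    (hCr : ∀ u ∈ W, r * u = u * r → u = 1) (hr : (orderOf r).Coprime p)
    (hcop : (Nat.card W).Coprime (Nat.card M))
    (hfix : ∀ m, i m = m → (r m)⁻¹ * m ∈ fixedSubgroup W) : W = ⊥ := by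
  classical
  haveI := Fintype.ofFinite W
  refine eq_bot_of_pow_card W hcop fun m => pow_card_mem_fixedSubgroup W i hi hWi hCi m ?_
  have h1 : ∏ u : W, (u : MulAut M)⁻¹ (r (normMap p i ((u : MulAut M) m))) ∈ fixedSubgroup W := by
    have h0 : (∏ u : W, (u : MulAut M)⁻¹ (r (normMap p i ((u : MulAut M) m)))) =
        ∏ k ∈ Finset.range p, ∏ u : W, (u : MulAut M)⁻¹ ((r * i ^ k) ((u : MulAut M) m)) := by
      unfold normMap
      rw [Finset.prod_comm]
      refine Finset.prod_congr rfl fun u _ => ?_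
      rw [map_prod, map_prod]
      rfl
    rw [h0]
    refine Subgroup.prod_mem _ fun k _ => prod_twist_mem_fixedSubgroup W _ (fun u hu => ?_)
      (fun u hu he => hCr u hu ?_) m
    · rw [show r * i ^ k * u * (r * i ^ k)⁻¹ = r * (i ^ k * u * (i ^ k)⁻¹) * r⁻¹ by group]
      exact hWr _ (pow_mem_normalizes hWi k u hu)
    · have hc : Commute ((r * i ^ k) ^ p) u := (show Commute (r * i ^ k) u from he).pow_left p
      rw [((show Commute i r from hir).symm.pow_right k).mul_pow, ← pow_mul, mul_comm k p, pow_mul,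
        hi, one_pow, mul_one] at hc
      obtain ⟨j, hj⟩ := exists_pow_eq_self_of_coprime hr.symm
      have := hc.pow_left j
      rw [hj] at this
      exact this
  have h2 : ∏ u : W, (u : MulAut M)⁻¹
      ((r (normMap p i ((u : MulAut M) m)))⁻¹ * normMap p i ((u : MulAut M) m))
        ∈ fixedSubgroup W := by
    refine Subgroup.prod_mem _ fun u _ => ?_
    have h3 := hfix _ (apply_normMap hi ((u : MulAut M) m))
    rw [h3 _ (inv_mem u.2)]
    exact h3
  have h4 := mul_mem h1 h2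
  rw [← Finset.prod_mul_distrib] at h4
  simpa using h4

end Module

section Group

variable {G : Type*} [Group G] [Finite G]

theorem isMulCommutative_frattini_quotient {v : ℕ} [Fact v.Prime] {K : Type*} [Group K] [Finite K]
    (hK : IsPGroup v K) : ∀ x y : K ⧸ frattini K, x * y = y * x := by
  intro x y
  obtain ⟨x, rfl⟩ := QuotientGroup.mk'_surjective (frattini K) x
  obtain ⟨y, rfl⟩ := QuotientGroup.mk'_surjective (frattini K) y
  rw [← map_mul, ← map_mul, QuotientGroup.mk'_apply, QuotientGroup.mk'_apply, QuotientGroup.eq,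
    show (x * y)⁻¹ * (y * x) = ⁅y⁻¹, x⁻¹⁆ by rw [commutatorElement_def]; group]
  exact (PSolvable.commutator_le_frattini hK).1
    (Subgroup.commutator_mem_commutator (Subgroup.mem_top _) (Subgroup.mem_top _))

/-- The action of the normalizer of `V` on `V / Φ(V)`. -/
noncomputable def frattiniAct (V : Subgroup G) :
    ↥(Subgroup.normalizer (V : Set G)) →* MulAut (↥V ⧸ frattini ↥V) :=
  MonoidHom.mk' (fun g => QuotientGroup.congr _ _ (V.normalizerMonoidHom g)
    (Subgroup.characteristic_iff_map_eq.mp inferInstance _)) fun g h => by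
    ext x
    obtain ⟨x, rfl⟩ := QuotientGroup.mk'_surjective (frattini ↥V) x
    simp only [map_mul, MulAut.mul_apply]
    rfl

theorem frattiniAct_mk (V : Subgroup G) (g : ↥(Subgroup.normalizer (V : Set G))) (x : ↥V) :
    frattiniAct V g (QuotientGroup.mk x) = QuotientGroup.mk (V.normalizerMonoidHom g x) :=
  rfl

theorem frattiniAct_eq_one {v : ℕ} [Fact v.Prime] {V W : Subgroup G} (hV : IsPGroup v V)
    (hWV : W ≤ Subgroup.normalizer (V : Set G)) (hWv : (Nat.card W).Coprime v)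
    (h : ∀ w : W, frattiniAct V ⟨w, hWV w.2⟩ = 1) : W ≤ Subgroup.centralizer (V : Set G) := by
  obtain ⟨n, hn⟩ := IsPGroup.iff_card.mp hV
  refine le_centralizer_of_frattini hWV ?_ fun w hw k hk => ?_
  · exact (hn ▸ hWv.pow_right n).coprime_dvd_right (Subgroup.card_subgroup_dvd_card _)
  · have h1 := congrArg (fun φ : MulAut (↥V ⧸ frattini ↥V) => φ (QuotientGroup.mk ⟨k, hk⟩))
      (h ⟨w, hw⟩)
    simp only [frattiniAct_mk, MulAut.one_apply, QuotientGroup.eq] at h1
    set φ := V.normalizerMonoidHom ⟨w, hWV hw⟩ ⟨k, hk⟩ with hφ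
    have h2 := (Subgroup.Normal.mem_comm (inferInstance : (frattini ↥V).Normal) h1)
    have h3 := inv_mem h2
    rw [mul_inv_rev, inv_inv] at h3
    exact ⟨_, h3, rfl⟩

/-- Fixed points on `V / Φ(V)` come from fixed points in `V`. -/
theorem exists_fixed_preimage {p v : ℕ} [Fact p.Prime] [Fact v.Prime] {V : Subgroup G}
    (i : ↥(Subgroup.normalizer (V : Set G))) (hi : (i : G) ^ p = 1) (hV : IsPGroup v V)
    (hpv : p.Coprime v) {m : ↥V ⧸ frattini ↥V} (hm : frattiniAct V i m = m) :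
    ∃ t : ↥V, (i : G) * t = t * i ∧ QuotientGroup.mk t = m := by
  obtain ⟨k, rfl⟩ := QuotientGroup.mk'_surjective (frattini ↥V) m
  rw [QuotientGroup.mk'_apply, frattiniAct_mk, QuotientGroup.eq] at hm
  set N := (frattini ↥V).map V.subtype with hN
  set Z := Subgroup.zpowers (i : G) with hZ
  have hZV : Z ≤ Subgroup.normalizer (V : Set G) := Subgroup.zpowers_le.mpr i.2
  obtain ⟨n, hn⟩ := IsPGroup.iff_card.mp hV
  have hcop : (Nat.card Z).Coprime (Nat.card V) := by
    rw [hn, hZ, Nat.card_zpowers]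
    exact (hpv.pow_right n).coprime_dvd_left (orderOf_dvd_of_pow_eq_one hi)
  have hNA : Z ≤ Subgroup.normalizer (N : Set G) :=
    PSolvable.le_normalizer_map_of_characteristic hZV _
  have hm' : (k : G)⁻¹ * ((i : G) * k * (i : G)⁻¹) ∈ N := by
    have h1 := inv_mem hm
    rw [mul_inv_rev, inv_inv] at h1
    exact ⟨_, h1, rfl⟩
  have hfix : ∀ a ∈ Z, (k : G)⁻¹ * (a * k * a⁻¹) ∈ N := by
    intro a ha
    let S : Subgroup G :=
      { carrier := {g | g ∈ Subgroup.normalizer (N : Set G) ∧ (k : G)⁻¹ * (g * k * g⁻¹) ∈ N}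
        one_mem' := ⟨one_mem _, by simp⟩
        mul_mem' := fun {a b} ha hb => ⟨mul_mem ha.1 hb.1, by
          have := mul_mem ha.2 ((Subgroup.mem_normalizer_iff.mp ha.1 _).mp hb.2)
          simpa [mul_assoc] using this⟩
        inv_mem' := fun {a} ha => ⟨inv_mem ha.1, by
          have := (Subgroup.mem_normalizer_iff.mp (inv_mem ha.1) _).mp (inv_mem ha.2)
          simpa [mul_assoc] using this⟩ }
    have hle : Z ≤ S := Subgroup.zpowers_le.mpr ⟨hNA (Subgroup.mem_zpowers _), hm'⟩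
    exact (hle ha).2
  obtain ⟨c, hc, hcN⟩ := exists_centralizer_mem_coset hZV hcop
    (Or.inl (Group.isSolvable_of_comm fun u v => mul_comm' u v)) (Subgroup.map_subtype_le _) hNA
    k.2 hfix
  obtain ⟨hcV, hcc⟩ := Subgroup.mem_inf.mp hc
  refine ⟨⟨c, hcV⟩, hcc _ (Subgroup.mem_zpowers _), (QuotientGroup.eq.mpr ?_).symm⟩
  obtain ⟨z, hz, hze⟩ := hcN
  have he : (k⁻¹ * ⟨c, hcV⟩ : ↥V) = z := Subtype.ext hze.symm
  rw [he]
  exact hz

theorem frattiniAct_fpf {V W : Subgroup G}
    (hWV : W ≤ Subgroup.normalizer (V : Set G)) (s : ↥(Subgroup.normalizer (V : Set G)))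
    (hsW : ∀ w ∈ W, (s : G) * w * (s : G)⁻¹ ∈ W) (hs : (orderOf (s : G)).Coprime (Nat.card W))
    (hC : ∀ w ∈ W, (s : G) * w = w * s → w = 1) :
    ∀ u ∈ (W.subgroupOf (Subgroup.normalizer (V : Set G))).map (frattiniAct V),
      frattiniAct V s * u = u * frattiniAct V s → u = 1 := by
  intro u hu hc
  set W' := W.subgroupOf (Subgroup.normalizer (V : Set G)) with hW'
  set Z := Subgroup.zpowers s with hZ
  have hZW : Z ≤ Subgroup.normalizer (W' : Set _) := by
    refine Subgroup.zpowers_le.mpr ((Subgroup.mem_normalizer_iff_map_conj_eq).mpr ?_)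
    refine Subgroup.eq_of_le_of_card_ge ?_ ?_
    · rintro _ ⟨w, hw, rfl⟩
      exact hsW _ hw
    · rw [Subgroup.card_map_of_injective (MulEquiv.injective _)]
  have hcop : (Nat.card Z).Coprime (Nat.card W') := by
    rw [hZ, Nat.card_zpowers, ← Subgroup.orderOf_coe,
      Nat.card_congr (Subgroup.subgroupOfEquivOfLe hWV).toEquiv]
    exact hs
  have h1 : u ∈ W'.map (frattiniAct V) ⊓ Subgroup.centralizer (Z.map (frattiniAct V) : Set _) := by
    refine Subgroup.mem_inf.mpr ⟨hu, ?_⟩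
    rw [hZ, MonoidHom.map_zpowers]
    exact mem_centralizer_singleton_zpowers
      (Subgroup.mem_centralizer_singleton_iff.mpr hc.symm)
  rw [← map_inf_centralizer hZW hcop
    (Or.inl (Group.isSolvable_of_comm fun u v => mul_comm' u v))] at h1
  obtain ⟨w, hw, rfl⟩ := h1
  obtain ⟨hwW, hwc⟩ := Subgroup.mem_inf.mp hw
  have := hC _ hwW (congrArg Subtype.val (hwc s (Subgroup.mem_zpowers s)))
  rw [show w = 1 from Subtype.ext this, map_one]

/-- A group `W` with a fixed-point-free `i` of order `p`, centralizing `C_V(i)`, centralizes the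
`v`-group `V`. -/
theorem le_centralizer_of_fpf {p v : ℕ} [Fact p.Prime] [Fact v.Prime] {V W : Subgroup G}
    (hV : IsPGroup v V) (hWV : W ≤ Subgroup.normalizer (V : Set G))
    (hWv : (Nat.card W).Coprime v) (hpv : p.Coprime v) (hpW : p.Coprime (Nat.card W))
    {i : G} (hi : i ^ p = 1) (hiV : i ∈ Subgroup.normalizer (V : Set G))
    (hiW : ∀ w ∈ W, i * w * i⁻¹ ∈ W) (hCW : ∀ w ∈ W, i * w = w * i → w = 1)
    (hCV : ∀ t ∈ V, i * t = t * i → ∀ w ∈ W, w * t = t * w) :
    W ≤ Subgroup.centralizer (V : Set G) := by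
  letI : CommGroup (↥V ⧸ frattini ↥V) :=
    { (inferInstance : Group (↥V ⧸ frattini ↥V)) with
      mul_comm := isMulCommutative_frattini_quotient hV }
  refine frattiniAct_eq_one hV hWV hWv fun w => ?_
  have hbot := eq_bot_of_fixed (p := p)
    ((W.subgroupOf (Subgroup.normalizer (V : Set G))).map (frattiniAct V))
    (frattiniAct V ⟨i, hiV⟩) ?_ ?_ ?_ ?_ ?_
  · exact (Subgroup.map_eq_bot_iff _).mp hbot (show (⟨(w : G), hWV w.2⟩ : ↥(Subgroup.normalizer
      (V : Set G))) ∈ W.subgroupOf _ from w.2)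
  · rw [← map_pow, show (⟨i, hiV⟩ : ↥(Subgroup.normalizer (V : Set G))) ^ p = 1 from
      Subtype.ext (by simpa using hi), map_one]
  · rintro _ ⟨w, hw, rfl⟩
    rw [← map_inv, ← map_mul, ← map_mul]
    exact Subgroup.mem_map_of_mem _ (hiW _ hw)
  · exact frattiniAct_fpf hWV ⟨i, hiV⟩ hiW
      (hpW.coprime_dvd_left (orderOf_dvd_of_pow_eq_one hi)) hCW
  · obtain ⟨n, hn⟩ := IsPGroup.iff_card.mp hV
    refine Nat.Coprime.coprime_dvd_left ?_ ((hn ▸ hWv.pow_right n).coprime_dvd_right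
      (Subgroup.card_quotient_dvd_card _))
    refine (Subgroup.card_map_dvd _ _).trans ?_
    rw [Nat.card_congr (Subgroup.subgroupOfEquivOfLe hWV).toEquiv]
  · intro m hm
    rintro _ ⟨u, hu, rfl⟩
    obtain ⟨t, ht, rfl⟩ := exists_fixed_preimage (p := p) (v := v) ⟨i, hiV⟩ hi hV hpv hm
    rw [frattiniAct_mk]
    congr 1
    refine Subtype.ext ?_
    show (u : G) * t * (u : G)⁻¹ = t
    rw [show (u : G) * t = t * u from hCV t t.2 ht (u : G) hu]
    group

/-- The relative version: `r` commutes with `i`, has no fixed points on `W`, and `[r, C_V(i)]` is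
centralized by `W`. -/
theorem le_centralizer_of_relative {p v : ℕ} [Fact p.Prime] [Fact v.Prime] {V W : Subgroup G}
    (hV : IsPGroup v V) (hWV : W ≤ Subgroup.normalizer (V : Set G))
    (hWv : (Nat.card W).Coprime v) (hpv : p.Coprime v) (hpW : p.Coprime (Nat.card W))
    {i r : G} (hi : i ^ p = 1) (hiV : i ∈ Subgroup.normalizer (V : Set G))
    (hrV : r ∈ Subgroup.normalizer (V : Set G)) (hir : i * r = r * i)
    (hiW : ∀ w ∈ W, i * w * i⁻¹ ∈ W) (hrW : ∀ w ∈ W, r * w * r⁻¹ ∈ W)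
    (hCW : ∀ w ∈ W, i * w = w * i → w = 1) (hCr : ∀ w ∈ W, r * w = w * r → w = 1)
    (hrp : (orderOf r).Coprime p) (hrWc : (orderOf r).Coprime (Nat.card W))
    (hCV : ∀ t ∈ V, i * t = t * i → ∀ w ∈ W,
      w * ((r * t * r⁻¹)⁻¹ * t) = ((r * t * r⁻¹)⁻¹ * t) * w) :
    W ≤ Subgroup.centralizer (V : Set G) := by
  letI : CommGroup (↥V ⧸ frattini ↥V) :=
    { (inferInstance : Group (↥V ⧸ frattini ↥V)) with
      mul_comm := isMulCommutative_frattini_quotient hV }
  refine frattiniAct_eq_one hV hWV hWv fun w => ?_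
  have hbot := eq_bot_of_relative (p := p)
    ((W.subgroupOf (Subgroup.normalizer (V : Set G))).map (frattiniAct V))
    (frattiniAct V ⟨i, hiV⟩) (frattiniAct V ⟨r, hrV⟩) ?_ ?_ ?_ ?_ ?_ ?_ ?_ ?_ ?_
  · exact (Subgroup.map_eq_bot_iff _).mp hbot (show (⟨(w : G), hWV w.2⟩ : ↥(Subgroup.normalizer
      (V : Set G))) ∈ W.subgroupOf _ from w.2)
  · rw [← map_pow, show (⟨i, hiV⟩ : ↥(Subgroup.normalizer (V : Set G))) ^ p = 1 from
      Subtype.ext (by simpa using hi), map_one]
  · rw [← map_mul, ← map_mul]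
    exact congrArg _ (Subtype.ext hir)
  · rintro _ ⟨w, hw, rfl⟩
    rw [← map_inv, ← map_mul, ← map_mul]
    exact Subgroup.mem_map_of_mem _ (hiW _ hw)
  · rintro _ ⟨w, hw, rfl⟩
    rw [← map_inv, ← map_mul, ← map_mul]
    exact Subgroup.mem_map_of_mem _ (hrW _ hw)
  · exact frattiniAct_fpf hWV ⟨i, hiV⟩ hiW
      (hpW.coprime_dvd_left (orderOf_dvd_of_pow_eq_one hi)) hCW
  · exact frattiniAct_fpf hWV ⟨r, hrV⟩ hrW hrWc hCr
  · refine hrp.coprime_dvd_left ((orderOf_map_dvd _ _).trans ?_)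
    rw [← Subgroup.orderOf_coe]
  · obtain ⟨n, hn⟩ := IsPGroup.iff_card.mp hV
    refine Nat.Coprime.coprime_dvd_left ?_ ((hn ▸ hWv.pow_right n).coprime_dvd_right
      (Subgroup.card_quotient_dvd_card _))
    refine (Subgroup.card_map_dvd _ _).trans ?_
    rw [Nat.card_congr (Subgroup.subgroupOfEquivOfLe hWV).toEquiv]
  · intro m hm
    rintro _ ⟨u, hu, rfl⟩
    obtain ⟨t, ht, rfl⟩ := exists_fixed_preimage (p := p) (v := v) ⟨i, hiV⟩ hi hV hpv hm
    rw [frattiniAct_mk, ← QuotientGroup.mk_inv, ← QuotientGroup.mk_mul, frattiniAct_mk]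
    congr 1
    refine Subtype.ext ?_
    show (u : G) * ((r * t * r⁻¹)⁻¹ * t) * (u : G)⁻¹ = (r * t * r⁻¹)⁻¹ * t
    rw [show (u : G) * ((r * t * r⁻¹)⁻¹ * t) = ((r * t * r⁻¹)⁻¹ * t) * u from
      hCV t t.2 ht (u : G) hu]
    group

end Group

end CfsgLib.Signalizer
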