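import Mathlib
import Cfsg.Agent.Lib.Signalizer.Engine
import Cfsg.Agent.Lib.PReduced.Largest
import Cfsg.Agent.Lib.Coprime.Generation
import Cfsg.Agent.Lib.PSolvable.Core
import Cfsg.Agent.Lib.Fitting.Basic

/-!
Membership in `O_x(X)` for solvable `X`, tested on the subgroups `O_v(X)` and `O_{x,v}(X)`.
-/

set_option autoImplicit false
set_option linter.style.haveILetI false

open CfsgLib.Coprime
open scoped commutatorElement

namespace CfsgLib.Signalizer

variable {G : Type*} [Group G]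

/-! ### `O_v` of a subgroup -/

theorem pCoreOf_le (v : ℕ) (X : Subgroup G) : Cfsg.pCoreOf v X ≤ X :=
  Subgroup.map_subtype_le _

theorem pCore_characteristic (v : ℕ) : (Cfsg.pCore v G).Characteristic :=
  Subgroup.characteristic_iff_map_le.mpr fun φ =>
    Fitting.le_pCore ((Fitting.pCore_normal v).map _ φ.surjective)
      ((Fitting.pCore_isPGroup v).map _)

theorem normalizer_le_normalizer_pCoreOf (v : ℕ) {A X : Subgroup G}
    (h : A ≤ Subgroup.normalizer (X : Set G)) :
    A ≤ Subgroup.normalizer (Cfsg.pCoreOf v X : Set G) := by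
  haveI := pCore_characteristic (G := ↥X) v
  exact PSolvable.le_normalizer_map_of_characteristic h _

theorem subgroupOf_pCoreOf (v : ℕ) (X : Subgroup G) :
    (Cfsg.pCoreOf v X).subgroupOf X = Cfsg.pCore v X :=
  Subgroup.comap_map_eq_self_of_injective X.subtype_injective _

theorem coprime_of_isPGroup [Finite G] {x v : ℕ} [Fact x.Prime] [Fact v.Prime] (hxv : x ≠ v)
    {U : Subgroup G} (hU : IsPGroup x U) : (Nat.card U).Coprime v := by
  obtain ⟨n, hn⟩ := IsPGroup.iff_card.mp hU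
  rw [hn]
  exact ((Nat.coprime_primes Fact.out Fact.out).mpr hxv).pow_left n

theorem inf_eq_bot_of_isPGroup [Finite G] {x v : ℕ} [Fact x.Prime] [Fact v.Prime] (hxv : x ≠ v)
    {U V : Subgroup G} (hU : IsPGroup x U) (hV : IsPGroup v V) : U ⊓ V = ⊥ :=
  inf_eq_bot_of_coprime_card (by
    obtain ⟨n, hn⟩ := IsPGroup.iff_card.mp hV
    rw [hn]
    exact (coprime_of_isPGroup hxv hU).pow_right n)

/-- An `x`-subgroup of a solvable group centralizing every `O_v` lies in `O_x`. -/
theorem le_pCore_of_centralizes [Finite G] [Group.IsSolvable G] {x : ℕ} [Fact x.Prime]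
    {U : Subgroup G} (hU : IsPGroup x U)
    (h : ∀ v : ℕ, v.Prime → U ≤ Subgroup.centralizer (Cfsg.pCore v G : Set G)) :
    U ≤ Cfsg.pCore x G := by
  haveI hFn := Fitting.fittingSubgroup_normal (G := G)
  haveI hF := Fitting.fittingSubgroup_isNilpotent (G := G)
  set F := Cfsg.fittingSubgroup G with hFdef
  have hsyl : ∀ (v : ℕ) (_ : v.Prime) (P : Sylow v F),
      (P : Subgroup F).map F.subtype ≤ Cfsg.pCore v G := by
    intro v hv P
    haveI := Fact.mk hv
    haveI : (P : Subgroup F).Characteristic := Sylow.characteristic_of_normal P inferInstance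
    exact Fitting.le_pCore ConjAct.normal_of_characteristic_of_normal (P.2.map _)
  have hUF : U ≤ F := by
    refine le_trans (fun u hu => ?_) PSolvable.centralizer_fittingSubgroup_le
    intro f hf
    have hle : F ≤ Subgroup.centralizer ({u} : Set G) := by
      have h1 : ∀ (v : ℕ) (_ : v.Prime) (P : Sylow v F),
          (P : Subgroup F) ≤ (Subgroup.centralizer ({u} : Set G)).subgroupOf F := fun v hv P y hy => by
        refine Subgroup.mem_centralizer_singleton_iff.mpr ?_
        exact (h v hv hu y (hsyl v hv P (Subgroup.mem_map_of_mem _ hy)))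
      have h2 : (Subgroup.centralizer ({u} : Set G)).subgroupOf F = ⊤ := by
        rw [← Subgroup.index_eq_one, ← Nat.dvd_one]
        refine Nat.dvd_one.mpr ?_
        by_contra hne
        obtain ⟨v, hv, hd⟩ := Nat.exists_prime_and_dvd hne
        haveI := Fact.mk hv
        obtain ⟨P⟩ : Nonempty (Sylow v F) := inferInstance
        exact P.not_dvd_index (hd.trans (Subgroup.index_dvd_of_le (h1 v hv P)))
      exact Subgroup.subgroupOf_eq_top.mp h2
    exact (Subgroup.mem_centralizer_singleton_iff.mp (hle hf))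
  obtain ⟨P, hP⟩ := (hU.comap_of_injective F.subtype F.subtype_injective).exists_le_sylow
  have := Subgroup.map_mono (f := F.subtype) hP
  rw [show (Subgroup.comap F.subtype U) = U.subgroupOf F from rfl,
    Subgroup.map_subgroupOf_eq_of_le hUF] at this
  exact this.trans (hsyl x Fact.out P)

/-- The same for a solvable subgroup `X`. -/
theorem le_pCoreOf_of_centralizes [Finite G] {X : Subgroup G} (hX : Group.IsSolvable X)
    {x : ℕ} [Fact x.Prime] {U : Subgroup G} (hUX : U ≤ X) (hU : IsPGroup x U)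
    (h : ∀ v : ℕ, v.Prime → U ≤ Subgroup.centralizer (Cfsg.pCoreOf v X : Set G)) :
    U ≤ Cfsg.pCoreOf x X := by
  haveI := hX
  have h1 : U.subgroupOf X ≤ Cfsg.pCore x X := le_pCore_of_centralizes
    (hU.comap_of_injective _ X.subtype_injective) fun v hv u hu y hy =>
      Subtype.ext (h v hv hu y (Subgroup.mem_map_of_mem _ hy))
  have := Subgroup.map_mono (f := X.subtype) h1
  rwa [Subgroup.map_subgroupOf_eq_of_le hUX] at this

/-! ### The image modulo a subgroup -/

/-- The quotient map of the normalizer of `D` by `D`. -/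
abbrev modMap (D : Subgroup G) :
    ↥(Subgroup.normalizer (D : Set G)) →*
      ↥(Subgroup.normalizer (D : Set G)) ⧸ D.subgroupOf (Subgroup.normalizer (D : Set G)) :=
  QuotientGroup.mk' _

/-- The image of `S` modulo `D`. -/
def bar (D S : Subgroup G) :
    Subgroup (↥(Subgroup.normalizer (D : Set G)) ⧸
      D.subgroupOf (Subgroup.normalizer (D : Set G))) :=
  (S.subgroupOf (Subgroup.normalizer (D : Set G))).map (modMap D)

theorem mem_bar {D S : Subgroup G} {s : ↥(Subgroup.normalizer (D : Set G))} (hs : (s : G) ∈ S) :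
    modMap D s ∈ bar D S :=
  Subgroup.mem_map_of_mem _ hs

theorem mem_of_modMap_eq_one {D : Subgroup G} {s : ↥(Subgroup.normalizer (D : Set G))}
    (hs : modMap D s = 1) : (s : G) ∈ D :=
  (QuotientGroup.eq_one_iff s).mp hs

theorem le_of_bar_eq_bot {D S : Subgroup G} (hS : S ≤ Subgroup.normalizer (D : Set G))
    (h : bar D S = ⊥) : S ≤ D := fun s hs => mem_of_modMap_eq_one (s := ⟨s, hS hs⟩)
  (Subgroup.mem_bot.mp (h ▸ mem_bar (s := ⟨s, hS hs⟩) hs))

theorem isPGroup_bar {x : ℕ} {D S : Subgroup G} (hS : IsPGroup x S) : IsPGroup x (bar D S) :=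
  (hS.comap_of_injective _ Subtype.val_injective).map _

theorem card_bar_dvd [Finite G] (D S : Subgroup G) : Nat.card (bar D S) ∣ Nat.card S :=
  (Subgroup.card_map_dvd _ _).trans
    (Subgroup.card_comap_dvd_of_injective S _ Subtype.val_injective)

theorem modMap_mem_normalizer_bar {D S : Subgroup G} {g : ↥(Subgroup.normalizer (D : Set G))}
    (hg : (g : G) ∈ Subgroup.normalizer (S : Set G)) :
    modMap D g ∈ Subgroup.normalizer (bar D S : Set _) :=
  (Subgroup.le_normalizer_map _) (Subgroup.mem_map_of_mem _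
    (show g ∈ Subgroup.normalizer
      ((S.subgroupOf (Subgroup.normalizer (D : Set G)) : Subgroup _) : Set _) from
      Subgroup.mem_normalizer_iff.mpr fun h => Subgroup.mem_normalizer_iff.mp hg h))

theorem isSolvable_bar {D X : Subgroup G} (hX : Group.IsSolvable X)
    (hD : X ≤ Subgroup.normalizer (D : Set G)) : Group.IsSolvable (bar D X) := by
  haveI := hX
  exact CfsgLib.Coprime.isSolvable_map _ (Group.isSolvable_of_isSolvable_injective
    (f := (Subgroup.subgroupOfEquivOfLe hD).toMonoidHom) (MulEquiv.injective _))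

/-- A point fixed by `ī` in the image of `S` is the image of a fixed point. -/
theorem exists_fixed_of_bar [Finite G] {p : ℕ} {D S : Subgroup G}
    (hS : S ≤ Subgroup.normalizer (D : Set G)) {i : G} (hi : i ^ p = 1)
    (hiD : i ∈ Subgroup.normalizer (D : Set G)) (hiS : i ∈ Subgroup.normalizer (S : Set G))
    (hp : p.Coprime (Nat.card S))
    {m : ↥(Subgroup.normalizer (D : Set G)) ⧸ D.subgroupOf (Subgroup.normalizer (D : Set G))}
    (hm : m ∈ bar D S)
    (hc : modMap D ⟨i, hiD⟩ * m = m * modMap D ⟨i, hiD⟩) :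
    ∃ s ∈ S, i * s = s * i ∧ ∀ hs : s ∈ Subgroup.normalizer (D : Set G),
      modMap D ⟨s, hs⟩ = m := by
  let N := Subgroup.normalizer (D : Set G)
  set Z := Subgroup.zpowers (⟨i, hiD⟩ : ↥(Subgroup.normalizer (D : Set G))) with hZ
  have hZS : Z ≤ Subgroup.normalizer (S.subgroupOf N : Set N) :=
    Subgroup.zpowers_le.mpr (Subgroup.mem_normalizer_iff.mpr fun h =>
      Subgroup.mem_normalizer_iff.mp hiS h)
  have hcop : (Nat.card Z).Coprime (Nat.card (S.subgroupOf N)) := by
    rw [hZ, Nat.card_zpowers, Nat.card_congr (Subgroup.subgroupOfEquivOfLe hS).toEquiv,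
      ← Subgroup.orderOf_coe]
    exact hp.coprime_dvd_left (orderOf_dvd_of_pow_eq_one hi)
  have h1 : m ∈ (S.subgroupOf N).map (modMap D) ⊓
      Subgroup.centralizer (Z.map (modMap D) : Set _) := by
    refine Subgroup.mem_inf.mpr ⟨hm, ?_⟩
    rw [hZ, MonoidHom.map_zpowers]
    exact mem_centralizer_singleton_zpowers (Subgroup.mem_centralizer_singleton_iff.mpr hc.symm)
  rw [← map_inf_centralizer hZS hcop
    (Or.inl (Group.isSolvable_of_comm fun u v => mul_comm' u v))] at h1
  obtain ⟨s, hs, rfl⟩ := h1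
  obtain ⟨hsS, hsc⟩ := Subgroup.mem_inf.mp hs
  exact ⟨s, hsS, congrArg Subtype.val (hsc _ (Subgroup.mem_zpowers _)), fun _ => rfl⟩

/-! ### `O_{x,v}(X)` -/

theorem le_normalizer_core (x : ℕ) (X : Subgroup G) :
    X ≤ Subgroup.normalizer (Cfsg.pCoreOf x X : Set G) :=
  normalizer_le_normalizer_pCoreOf x Subgroup.le_normalizer

/-- `O_{x,v}(X)`. -/
def coreTwo (x v : ℕ) (X : Subgroup G) : Subgroup G :=
  X ⊓ (((Cfsg.pCoreOf v (bar (Cfsg.pCoreOf x X) X))).comap
    (modMap (Cfsg.pCoreOf x X))).map (Subgroup.normalizer (Cfsg.pCoreOf x X : Set G)).subtype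

theorem coreTwo_le (x v : ℕ) (X : Subgroup G) : coreTwo x v X ≤ X := inf_le_left

theorem normalizer_le_normalizer_coreTwo (x v : ℕ) {A X : Subgroup G}
    (h : A ≤ Subgroup.normalizer (X : Set G)) :
    A ≤ Subgroup.normalizer (coreTwo x v X : Set G) := by
  refine le_normalizer_inf_of_le h fun a ha => ?_
  have haD := normalizer_le_normalizer_pCoreOf x h ha
  set D := Cfsg.pCoreOf x X with hD
  have h1 : Subgroup.zpowers (modMap D ⟨a, haD⟩) ≤
      Subgroup.normalizer (Cfsg.pCoreOf v (bar D X) : Set _) :=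
    normalizer_le_normalizer_pCoreOf v
      (Subgroup.zpowers_le.mpr (modMap_mem_normalizer_bar (h ha)))
  have h2 : (⟨a, haD⟩ : ↥(Subgroup.normalizer (D : Set G))) ∈ Subgroup.normalizer
      (((Cfsg.pCoreOf v (bar D X)).comap (modMap D)) : Set _) :=
    Subgroup.mem_normalizer_iff.mpr fun g => by
      simp only [Subgroup.mem_comap, map_mul, map_inv]
      exact Subgroup.mem_normalizer_iff.mp (h1 (Subgroup.mem_zpowers _)) _
  exact Subgroup.le_normalizer_map _ (Subgroup.mem_map_of_mem _ h2)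

theorem pCoreOf_le_coreTwo (x v : ℕ) (X : Subgroup G) : Cfsg.pCoreOf x X ≤ coreTwo x v X := by
  refine le_inf (pCoreOf_le x X) fun d hd => ?_
  refine ⟨⟨d, Subgroup.le_normalizer hd⟩, ?_, rfl⟩
  rw [SetLike.mem_coe, Subgroup.mem_comap, QuotientGroup.mk'_apply,
    (QuotientGroup.eq_one_iff _).mpr (show (⟨d, Subgroup.le_normalizer hd⟩ :
      ↥(Subgroup.normalizer (Cfsg.pCoreOf x X : Set G))) ∈ _ from hd)]
  exact one_mem _

theorem bar_coreTwo (x v : ℕ) (X : Subgroup G) :
    bar (Cfsg.pCoreOf x X) (coreTwo x v X) = Cfsg.pCoreOf v (bar (Cfsg.pCoreOf x X) X) := by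
  refine le_antisymm ?_ fun m hm => ?_
  · rintro _ ⟨s, hs, rfl⟩
    obtain ⟨-, t, ht, hte⟩ := Subgroup.mem_inf.mp (show (s : G) ∈ coreTwo x v X from hs)
    rw [← (Subtype.ext hte : t = s)]
    exact ht
  · obtain ⟨s, hs, rfl⟩ := pCoreOf_le v _ hm
    exact mem_bar (Subgroup.mem_inf.mpr ⟨hs, s, hm, rfl⟩)

theorem coreTwo_pow_mem {x v : ℕ} {X : Subgroup G} {h : G} (hh : h ∈ coreTwo x v X) :
    ∃ k : ℕ, h ^ v ^ k ∈ Cfsg.pCoreOf x X := by
  obtain ⟨hX, t, ht, rfl⟩ := Subgroup.mem_inf.mp hh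
  obtain ⟨k, hk⟩ := PReduced.isPGroup_pCoreOf v _ ⟨_, ht⟩
  refine ⟨k, ?_⟩
  have h1 : modMap (Cfsg.pCoreOf x X) (t ^ v ^ k) = 1 := by
    rw [map_pow]
    exact congrArg Subtype.val hk
  exact mem_of_modMap_eq_one h1

/-- An `x`-element of `O_{x,v}(X)` lies in `O_x(X)`. -/
theorem mem_pCoreOf_of_mem_coreTwo [Finite G] {x v : ℕ} [Fact x.Prime] [Fact v.Prime] (hxv : x ≠ v)
    {X P : Subgroup G} (hP : IsPGroup x P) {h : G} (hh : h ∈ coreTwo x v X) (hhP : h ∈ P) :
    h ∈ Cfsg.pCoreOf x X := by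
  obtain ⟨k, hk⟩ := coreTwo_pow_mem hh
  obtain ⟨j, hj⟩ := hP ⟨h, hhP⟩
  have hj' : h ^ x ^ j = 1 := by simpa using congrArg Subtype.val hj
  obtain ⟨m, hm⟩ := exists_pow_eq_self_of_coprime (x := h) (n := v ^ k)
    ((((Nat.coprime_primes Fact.out Fact.out).mpr hxv.symm).pow k j).coprime_dvd_right
      (orderOf_dvd_of_pow_eq_one hj'))
  rw [← hm]
  exact pow_mem hk m

theorem pCoreOf_bar_eq_bot [Finite G] {x : ℕ} [Fact x.Prime] {X : Subgroup G} :
    Cfsg.pCoreOf x (bar (Cfsg.pCoreOf x X) X) = ⊥ := by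
  rw [← bar_coreTwo, eq_bot_iff]
  set D := Cfsg.pCoreOf x X with hD
  have hle : coreTwo x x X ≤ D := by
    refine PReduced.le_pCoreOf (coreTwo_le x x X)
      (normalizer_le_normalizer_coreTwo x x Subgroup.le_normalizer) fun h => ?_
    obtain ⟨k, hk⟩ := coreTwo_pow_mem h.2
    obtain ⟨j, hj⟩ := PReduced.isPGroup_pCoreOf x X ⟨_, hk⟩
    refine ⟨k + j, Subtype.ext ?_⟩
    have hj' := congrArg Subtype.val hj
    simp only [SubmonoidClass.coe_pow, OneMemClass.coe_one] at hj' ⊢
    rw [pow_add, pow_mul, hj']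
  rintro _ ⟨s, hs, rfl⟩
  exact Subgroup.mem_bot.mpr ((QuotientGroup.eq_one_iff s).mpr (hle hs))

/-- An `x`-subgroup of `X` commuting with all `O_{x,v}(X)` modulo `O_x(X)` lies in `O_x(X)`. -/
theorem le_pCoreOf_of_coreTwo [Finite G] {X : Subgroup G} (hX : Group.IsSolvable X)
    {x : ℕ} [Fact x.Prime] {U : Subgroup G} (hUX : U ≤ X) (hU : IsPGroup x U)
    (h : ∀ v : ℕ, v.Prime → v ≠ x → ∀ d ∈ coreTwo x v X, ∀ u ∈ U,
      d * u * d⁻¹ * u⁻¹ ∈ Cfsg.pCoreOf x X) :
    U ≤ Cfsg.pCoreOf x X := by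
  set D := Cfsg.pCoreOf x X with hD
  have hXN : X ≤ Subgroup.normalizer (D : Set G) := le_normalizer_core x X
  refine le_of_bar_eq_bot (hUX.trans hXN) (eq_bot_iff.mpr ?_)
  have h1 : bar D U ≤ Cfsg.pCoreOf x (bar D X) := by
    refine le_pCoreOf_of_centralizes (isSolvable_bar hX hXN)
      (Subgroup.map_mono fun s hs => hUX hs) (isPGroup_bar hU) fun v hv => ?_
    rcases eq_or_ne v x with rfl | hvx
    · rw [pCoreOf_bar_eq_bot]
      intro u _ y hy
      rw [Subgroup.coe_bot, Set.mem_singleton_iff] at hy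
      simp [hy]
    rintro _ ⟨u, hu, rfl⟩ y hy
    rw [SetLike.mem_coe, ← bar_coreTwo] at hy
    obtain ⟨d, hd, rfl⟩ := hy
    have h2 := h v hv hvx d hd u hu
    have h3 : modMap D (d * u * d⁻¹ * u⁻¹) = 1 :=
      (QuotientGroup.eq_one_iff _).mpr h2
    rwa [map_mul, map_inv, map_mul, map_inv, mul_inv_eq_one, mul_inv_eq_iff_eq_mul, map_mul] at h3
  rwa [pCoreOf_bar_eq_bot] at h1

/-- `U` lies in `O_x(X)` if some fixed-point-free `i` of order `p` on `U` has its fixed points on
each `O_{x,v}(X)` commuting with `U` modulo `O_x(X)`. -/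
theorem le_pCoreOf_of_fpf [Finite G] {p : ℕ} [Fact p.Prime] {X : Subgroup G}
    (hX : Group.IsSolvable X) (hpX : ¬ p ∣ Nat.card X) {x : ℕ} [Fact x.Prime] {U : Subgroup G}
    (hUX : U ≤ X) (hU : IsPGroup x U) {i : G} (hi : i ^ p = 1)
    (hiX : i ∈ Subgroup.normalizer (X : Set G)) (hiU : i ∈ Subgroup.normalizer (U : Set G))
    (hCU : ∀ u ∈ U, i * u = u * i → u ∈ Cfsg.pCoreOf x X)
    (h : ∀ v : ℕ, v.Prime → v ≠ x → ∀ d ∈ coreTwo x v X, i * d = d * i → ∀ u ∈ U,
      d * u * d⁻¹ * u⁻¹ ∈ Cfsg.pCoreOf x X) :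
    U ≤ Cfsg.pCoreOf x X := by
  refine le_pCoreOf_of_coreTwo hX hUX hU fun v hv hvx d hd u hu => ?_
  haveI := Fact.mk hv
  set D := Cfsg.pCoreOf x X with hD
  have hXN : X ≤ Subgroup.normalizer (D : Set G) := le_normalizer_core x X
  have hiN : i ∈ Subgroup.normalizer (D : Set G) :=
    normalizer_le_normalizer_pCoreOf x (le_refl _) hiX
  have hpc : ∀ {S : Subgroup G}, S ≤ X → p.Coprime (Nat.card S) := fun hS =>
    ((Nat.Prime.coprime_iff_not_dvd Fact.out).mpr hpX).coprime_dvd_right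
      (Subgroup.card_dvd_of_le hS)
  have hpb : ∀ {S : Subgroup G}, S ≤ X → p.Coprime (Nat.card (bar D S)) := fun hS =>
    (hpc hS).coprime_dvd_right (card_bar_dvd D _)
  have hV : IsPGroup v (bar D (coreTwo x v X)) := by
    rw [bar_coreTwo]
    exact PReduced.isPGroup_pCoreOf v _
  rcases subsingleton_or_nontrivial (bar D (coreTwo x v X)) with hs | hs
  · have h1 : modMap D ⟨d, hXN (coreTwo_le x v X hd)⟩ = 1 :=
      congrArg Subtype.val (Subsingleton.elim
        (⟨_, mem_bar (s := ⟨d, hXN (coreTwo_le x v X hd)⟩) hd⟩ : bar D (coreTwo x v X)) 1)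
    have h2 := mem_of_modMap_eq_one h1
    have h3 := (Subgroup.mem_normalizer_iff.mp (hXN (hUX hu)) _).mp (inv_mem h2)
    simpa [mul_assoc] using mul_mem h2 h3
  have hpv : p.Coprime v := by
    obtain ⟨n, hn⟩ := IsPGroup.iff_card.mp hV
    have := hpb (coreTwo_le x v X)
    rw [hn] at this
    refine (Nat.coprime_pow_right_iff (Nat.pos_of_ne_zero ?_) _ _).mp this
    rintro rfl
    rw [pow_zero] at hn
    exact absurd (Finite.one_lt_card (α := bar D (coreTwo x v X))) (by omega)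
  have hU' : bar D U ≤ Subgroup.centralizer (bar D (coreTwo x v X) : Set _) := by
    refine le_centralizer_of_fpf (p := p) hV ?_ (coprime_of_isPGroup hvx.symm (isPGroup_bar hU))
      hpv (hpb hUX) (i := modMap D ⟨i, hiN⟩) ?_ ?_ ?_ ?_ ?_
    · rintro _ ⟨w, hw, rfl⟩
      exact modMap_mem_normalizer_bar
        (normalizer_le_normalizer_coreTwo x v Subgroup.le_normalizer (hUX hw))
    · rw [← map_pow, show (⟨i, hiN⟩ : ↥(Subgroup.normalizer (D : Set G))) ^ p = 1 from
        Subtype.ext (by simpa using hi), map_one]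
    · exact modMap_mem_normalizer_bar (normalizer_le_normalizer_coreTwo x v (le_refl _) hiX)
    · intro w hw
      exact (Subgroup.mem_normalizer_iff.mp (modMap_mem_normalizer_bar hiU) w).mp hw
    · intro w hw hc
      obtain ⟨s, hs, hsc, hse⟩ := exists_fixed_of_bar (hUX.trans hXN) hi hiN hiU (hpc hUX) hw hc
      rw [← hse (hXN (hUX hs))]
      exact (QuotientGroup.eq_one_iff _).mpr (hCU s hs hsc)
    · intro t ht hc
      obtain ⟨s, hs, hsc, hse⟩ := exists_fixed_of_bar ((coreTwo_le x v X).trans hXN) hi hiN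
        (normalizer_le_normalizer_coreTwo x v (le_refl _) hiX) (hpc (coreTwo_le x v X)) ht hc
      rintro _ ⟨w, hw, rfl⟩
      have h3 : modMap D (⟨s, hXN (coreTwo_le x v X hs)⟩ * w * ⟨s, hXN (coreTwo_le x v X hs)⟩⁻¹ *
          w⁻¹) = 1 := (QuotientGroup.eq_one_iff _).mpr (h v hv hvx s hs hsc _ hw)
      rw [map_mul, map_inv, map_mul, map_inv, mul_inv_eq_one, mul_inv_eq_iff_eq_mul, map_mul,
        hse] at h3
      exact h3.symm
  have h3 := hU' (mem_bar (s := ⟨u, hXN (hUX hu)⟩) hu) _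
    (mem_bar (s := ⟨d, hXN (coreTwo_le x v X hd)⟩) hd)
  rw [← map_mul, ← map_mul, QuotientGroup.mk'_apply, QuotientGroup.mk'_apply,
    QuotientGroup.eq_iff_div_mem] at h3
  simpa [Subgroup.mem_subgroupOf, div_eq_mul_inv, mul_assoc] using h3

end CfsgLib.Signalizer
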