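import Mathlib
import Cfsg.Agent.Lib.Signalizer.Radical
import Cfsg.Agent.Lib.Hall.Basic

/-!
The largest `A`-invariant `C_L(A)`-invariant `σ`-subgroup of a solvable group `L` of order prime
to that of `A`.
-/

set_option autoImplicit false
set_option linter.style.haveILetI false

open Pointwise
open CfsgLib.Coprime

namespace CfsgLib.Signalizer

universe u

variable {G : Type u} [Group G]

/-- All prime divisors of the order lie in `σ`. -/
def IsSigma (σ : Set ℕ) (H : Subgroup G) : Prop :=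
  ∀ q : ℕ, q.Prime → q ∣ Nat.card H → q ∈ σ

theorem IsSigma.of_le [Finite G] {σ : Set ℕ} {H K : Subgroup G} (hK : IsSigma σ K) (h : H ≤ K) :
    IsSigma σ H :=
  fun q hq hd => hK q hq (hd.trans (Subgroup.card_dvd_of_le h))

theorem isSigma_bot (σ : Set ℕ) : IsSigma σ (⊥ : Subgroup G) := fun q hq hd => by
  rw [Subgroup.card_bot] at hd
  exact absurd (Nat.dvd_one.mp hd) hq.ne_one

theorem IsSigma.mono {σ τ : Set ℕ} {H : Subgroup G} (h : IsSigma σ H) (hst : σ ⊆ τ) :
    IsSigma τ H :=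
  fun q hq hd => hst (h q hq hd)

theorem isSigma_of_isPGroup [Finite G] {σ : Set ℕ} {v : ℕ} [hv : Fact v.Prime] {H : Subgroup G}
    (hH : IsPGroup v H) (h : v ∈ σ) : IsSigma σ H := fun q hq hd => by
  obtain ⟨n, hn⟩ := IsPGroup.iff_card.mp hH
  rw [hn] at hd
  obtain rfl := (Nat.prime_dvd_prime_iff_eq hq hv.out).mp (hq.dvd_of_dvd_pow hd)
  exact h

theorem isPGroup_of_isSigma [Finite G] {v : ℕ} {H : Subgroup G}
    (hH : IsSigma {v} H) : IsPGroup v H := by
  refine IsPGroup.of_card (n := (Nat.card H).primeFactorsList.length) ?_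
  exact Nat.eq_prime_pow_of_unique_prime_dvd Nat.card_pos.ne' fun {q} hq hd => hH q hq hd

theorem card_bar_mul [Finite G] {D S : Subgroup G} (hS : S ≤ Subgroup.normalizer (D : Set G)) :
    Nat.card (bar D S) * Nat.card ↥(D ⊓ S) = Nat.card S := by
  have h1 : (modMap D).ker.relIndex (S.subgroupOf _) = Nat.card (bar D S) :=
    Subgroup.relIndex_ker _ _
  rw [QuotientGroup.ker_mk', Subgroup.relIndex_subgroupOf hS] at h1
  rw [← h1, relIndex_mul_card_inf]

theorem bar_sup {D U V : Subgroup G} (hU : U ≤ Subgroup.normalizer (D : Set G))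
    (hV : V ≤ Subgroup.normalizer (D : Set G)) : bar D (U ⊔ V) = bar D U ⊔ bar D V := by
  rw [bar, Subgroup.subgroupOf_sup hU hV, Subgroup.map_sup]
  rfl

theorem le_normalizer_bar {D S T : Subgroup G}
    (h : T ⊓ Subgroup.normalizer (D : Set G) ≤ Subgroup.normalizer (S : Set G)) :
    bar D T ≤ Subgroup.normalizer (bar D S : Set _) := by
  rintro _ ⟨g, hg, rfl⟩
  exact modMap_mem_normalizer_bar (h ⟨hg, g.2⟩)

theorem bar_inf_centralizer [Finite G] {A L D : Subgroup G}
    (hAD : A ≤ Subgroup.normalizer (D : Set G)) (hLD : L ≤ Subgroup.normalizer (D : Set G))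
    (hAL : A ≤ Subgroup.normalizer (L : Set G))
    (hcop : (Nat.card A).Coprime (Nat.card L)) (hL : Group.IsSolvable L) :
    bar D L ⊓ Subgroup.centralizer (bar D A : Set _) ≤
      bar D (L ⊓ Subgroup.centralizer (A : Set G)) := by
  set N := Subgroup.normalizer (D : Set G) with hN
  haveI := hL
  have h := map_inf_centralizer (A := A.subgroupOf N) (K := L.subgroupOf N)
    (fun a ha => Subgroup.mem_normalizer_iff.mpr fun g =>
      Subgroup.mem_normalizer_iff.mp (hAL ha) g)
    (by rw [Nat.card_congr (Subgroup.subgroupOfEquivOfLe hAD).toEquiv,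
      Nat.card_congr (Subgroup.subgroupOfEquivOfLe hLD).toEquiv]; exact hcop)
    (Or.inr (Group.isSolvable_of_isSolvable_injective
      (f := (Subgroup.subgroupOfEquivOfLe hLD).toMonoidHom) (MulEquiv.injective _)))
    (modMap D)
  refine h.ge.trans (Subgroup.map_mono fun g hg => ?_)
  obtain ⟨h1, h2⟩ := Subgroup.mem_inf.mp hg
  exact Subgroup.mem_inf.mpr ⟨h1, fun a ha => congrArg Subtype.val (h2 ⟨a, hAD ha⟩ ha)⟩

theorem exists_invariant_complement_of_coprime [Finite G] {A N S : Subgroup G}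
    (hSN : S ≤ Subgroup.normalizer (N : Set G)) (hNS : N ≤ S)
    (hN : Group.IsSolvable N) (hAN : A ≤ Subgroup.normalizer (N : Set G))
    (hAS : A ≤ Subgroup.normalizer (S : Set G))
    (hcop : (Nat.card A).Coprime (Nat.card N)) (hc : (Nat.card N).Coprime (N.relIndex S)) :
    ∃ H : Subgroup G, A ≤ Subgroup.normalizer (H : Set G) ∧ H ≤ S ∧ N ⊔ H = S ∧
      (Nat.card N).Coprime (Nat.card H) := by
  obtain ⟨B, hBS, hsup, -, hBc⟩ := exists_complement_of_coprime hSN
    (by rwa [inf_eq_left.mpr hNS])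
  rw [inf_eq_left.mpr hNS] at hsup
  letI : MulAction G (Subgroup G) := MulAction.compHom _ (MulAut.conj : G →* MulAut G)
  obtain ⟨x, hx, hfix⟩ := exists_fixed_of_coprime hAN hcop (Or.inr hN) (Ω := Subgroup G) B
    fun a ha => by
      have hsupa : N ⊔ B = N ⊔ MulAut.conj a • B := by
        rw [hsup]
        conv_lhs => rw [← conj_smul_eq_self_of_mem_normalizer (hAS ha), ← hsup, sup_conj_smul,
          conj_smul_eq_self_of_mem_normalizer (hAN ha)]
      obtain ⟨k, hk, hke⟩ := exists_conj_of_coprime (hBS.trans hSN) (hBc ▸ hc)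
        (by rw [card_conj_smul, hBc]; exact hc) hsupa (Or.inl hN)
      exact ⟨k, hk, hke.symm⟩
  refine ⟨MulAut.conj x • B, fun a ha => mem_normalizer_iff_conj_smul.mpr (hfix a ha), ?_, ?_, ?_⟩
  · rw [← conj_smul_eq_of_mem (hNS hx)]
    exact Subgroup.map_mono hBS
  · conv_rhs => rw [← conj_smul_eq_of_mem (hNS hx), ← hsup, sup_conj_smul,
      conj_smul_eq_of_mem hx]
  · rw [card_conj_smul, hBc]
    exact hc

/-- The invariant subgroup `U` lies in every invariant complement. -/
theorem le_invariant_complement [Finite G] {A N H U : Subgroup G}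
    (hN : Group.IsSolvable N) (hAN : A ≤ Subgroup.normalizer (N : Set G))
    (hcop : (Nat.card A).Coprime (Nat.card N))
    (hHN : H ≤ Subgroup.normalizer (N : Set G)) (hAH : A ≤ Subgroup.normalizer (H : Set G))
    (hNH : (Nat.card N).Coprime (Nat.card H)) (hNU : (Nat.card N).Coprime (Nat.card U))
    (hU : U ≤ N ⊔ H) (hAU : A ≤ Subgroup.normalizer (U : Set G))
    (hCU : N ⊓ Subgroup.centralizer (A : Set G) ≤ Subgroup.normalizer (U : Set G)) :
    U ≤ H := by
  set Y := N ⊔ U with hY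
  set U' := Y ⊓ H with hU'
  have hsup : N ⊔ U' = N ⊔ U := by
    refine le_antisymm (sup_le le_sup_left inf_le_left) (sup_le le_sup_left fun u hu => ?_)
    have h1 := hU hu
    rw [← SetLike.mem_coe, Subgroup.coe_mul_of_right_le_normalizer_left N H hHN, Set.mem_mul] at h1
    obtain ⟨a, ha, b, hb, rfl⟩ := h1
    refine mul_mem (Subgroup.mem_sup_left ha) (Subgroup.mem_sup_right ⟨?_, hb⟩)
    simpa using mul_mem (inv_mem (Subgroup.mem_sup_left ha : a ∈ Y)) (Subgroup.mem_sup_right hu)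
  obtain ⟨x, hx, hxe⟩ := exists_conj_of_coprime (inf_le_right.trans hHN)
    (hNH.coprime_dvd_right (Subgroup.card_dvd_of_le inf_le_right)) hNU hsup (Or.inl hN)
  letI : MulAction G (Subgroup G) := MulAction.compHom _ (MulAut.conj : G →* MulAut G)
  have hAU' : A ≤ Subgroup.normalizer (U' : Set G) :=
    le_normalizer_inf_of_le (le_normalizer_sup_of_le hAN hAU) hAH
  obtain ⟨c, hc, hce⟩ := exists_centralizer_smul hAN hcop (Or.inr hN) (Ω := Subgroup G) (ω := U')
    (fun a ha => conj_smul_eq_self_of_mem_normalizer (hAU' ha)) hx fun a ha => by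
      show MulAut.conj a • MulAut.conj x • U' = MulAut.conj x • U'
      rw [hxe]
      exact conj_smul_eq_self_of_mem_normalizer (hAU ha)
  have hcU : MulAut.conj c • U' = U := hce.trans hxe
  have : U' = U := smul_left_cancel (MulAut.conj c)
    (hcU.trans (conj_smul_eq_self_of_mem_normalizer (hCU hc)).symm)
  exact this ▸ inf_le_right

theorem isSigma_sup_aux (σ : Set ℕ) (n : ℕ) : ∀ {G : Type u} [Group G] [Finite G]
    {A L U V : Subgroup G}, Nat.card L = n → Group.IsSolvable L →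
    A ≤ Subgroup.normalizer (L : Set G) → (Nat.card A).Coprime (Nat.card L) → U ≤ L → V ≤ L →
    A ≤ Subgroup.normalizer (U : Set G) → A ≤ Subgroup.normalizer (V : Set G) →
    L ⊓ Subgroup.centralizer (A : Set G) ≤ Subgroup.normalizer (U : Set G) →
    L ⊓ Subgroup.centralizer (A : Set G) ≤ Subgroup.normalizer (V : Set G) →
    IsSigma σ U → IsSigma σ V → IsSigma σ (U ⊔ V) := by
  induction n using Nat.strong_induction_on with
  | _ n IH =>
  intro G _ _ A L U V hn hL hAL hcop hUL hVL hAU hAV hCU hCV hU hV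
  rcases eq_or_ne L ⊥ with h0 | h0
  · have h1 : U ⊔ V ≤ ⊥ := h0 ▸ sup_le hUL hVL
    rw [le_bot_iff.mp h1]
    exact isSigma_bot σ
  haveI := hL
  haveI : Nontrivial L := (Subgroup.nontrivial_iff_ne_bot L).mpr h0
  obtain ⟨t, ht, N₀, hN₀, hN₀1, hN₀t, -⟩ := Hall.exists_normal_pgroup_ne_bot (G := L)
  haveI := Fact.mk ht
  set N := Cfsg.pCoreOf t L with hNdef
  have hN1 : N ≠ ⊥ := fun h => hN₀1 (by
    have h1 : N₀.map L.subtype ≤ N := Subgroup.map_mono (Fitting.le_pCore hN₀ hN₀t)
    rw [h, le_bot_iff, Subgroup.map_eq_bot_iff_of_injective _ L.subtype_injective] at h1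
    exact h1)
  have hNt : IsPGroup t N := PReduced.isPGroup_pCoreOf t L
  have hNL : N ≤ L := pCoreOf_le t L
  have hLN : L ≤ Subgroup.normalizer (N : Set G) := le_normalizer_core t L
  have hAN : A ≤ Subgroup.normalizer (N : Set G) := normalizer_le_normalizer_pCoreOf t hAL
  have hNsol : Group.IsSolvable N := isSolvable_of_le hNL hL
  have hlt : Nat.card (bar N L) < n := by
    have h1 := card_bar_mul hLN
    rw [inf_eq_left.mpr hNL, hn] at h1
    rw [← h1]
    exact lt_mul_of_one_lt_right Nat.card_pos ((Subgroup.one_lt_card_iff_ne_bot N).mpr hN1)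
  have hC : ∀ {W : Subgroup G}, L ⊓ Subgroup.centralizer (A : Set G) ≤
      Subgroup.normalizer (W : Set G) → bar N L ⊓ Subgroup.centralizer (bar N A : Set _) ≤
        Subgroup.normalizer (bar N W : Set _) := fun hW =>
    (bar_inf_centralizer hAN hLN hAL hcop hL).trans (le_normalizer_bar (inf_le_left.trans hW))
  have hσ : ∀ {W : Subgroup G}, IsSigma σ W → IsSigma σ (bar N W) := fun hW q hq hd =>
    hW q hq (hd.trans (card_bar_dvd N _))
  have hbar := IH _ hlt (A := bar N A) (L := bar N L) (U := bar N U) (V := bar N V) rfl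
    (isSolvable_bar hL hLN) (le_normalizer_bar (inf_le_left.trans hAL))
    (coprime_of_dvd hcop (card_bar_dvd N A) (card_bar_dvd N L))
    (Subgroup.map_mono fun g hg => hUL hg) (Subgroup.map_mono fun g hg => hVL hg)
    (le_normalizer_bar (inf_le_left.trans hAU)) (le_normalizer_bar (inf_le_left.trans hAV))
    (hC hCU) (hC hCV) (hσ hU) (hσ hV)
  have hSL : U ⊔ V ≤ L := sup_le hUL hVL
  rw [← bar_sup (hUL.trans hLN) (hVL.trans hLN)] at hbar
  have hcard := card_bar_mul (hSL.trans hLN)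
  intro q hq hd
  rw [← hcard] at hd
  rcases hq.dvd_mul.mp hd with hd | hd
  · exact hbar q hq hd
  obtain ⟨k, hk⟩ := IsPGroup.iff_card.mp hNt
  obtain rfl := (Nat.prime_dvd_prime_iff_eq hq ht).mp
    (hq.dvd_of_dvd_pow (hk ▸ hd.trans (Subgroup.card_dvd_of_le inf_le_left)))
  by_contra hqσ
  set S := N ⊔ (U ⊔ V) with hS
  have hSN : S ≤ Subgroup.normalizer (N : Set G) :=
    sup_le Subgroup.le_normalizer (hSL.trans hLN)
  have hrel : (Nat.card N).Coprime (N.relIndex S) := by
    rw [hS, relIndex_sup_of_le_normalizer (hSL.trans hLN), hk]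
    refine Nat.Coprime.pow_left _ (hq.coprime_iff_not_dvd.mpr fun hd' => hqσ (hbar q hq ?_))
    have h3 := relIndex_mul_card_inf N (U ⊔ V)
    rw [← hcard] at h3
    rwa [Nat.eq_of_mul_eq_mul_right Nat.card_pos h3] at hd'
  have hAS : A ≤ Subgroup.normalizer (S : Set G) :=
    le_normalizer_sup_of_le hAN (le_normalizer_sup_of_le hAU hAV)
  obtain ⟨H, hAH, hHS, hNH, hNHc⟩ := exists_invariant_complement_of_coprime hSN le_sup_left hNsol
    hAN hAS (hcop.coprime_dvd_right (Subgroup.card_dvd_of_le hNL)) hrel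
  have hle : ∀ {W : Subgroup G}, W ≤ U ⊔ V → IsSigma σ W →
      A ≤ Subgroup.normalizer (W : Set G) →
      L ⊓ Subgroup.centralizer (A : Set G) ≤ Subgroup.normalizer (W : Set G) → W ≤ H :=
    fun {W} hW hWσ hAW hCW => le_invariant_complement hNsol hAN
      (hcop.coprime_dvd_right (Subgroup.card_dvd_of_le hNL)) (hHS.trans hSN) hAH hNHc
      (hk ▸ (hq.coprime_iff_not_dvd.mpr fun h => hqσ (hWσ q hq h)).pow_left _)
      (hNH ▸ hW.trans le_sup_right) hAW ((inf_le_inf_right _ hNL).trans hCW)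
  have hkpos : k ≠ 0 := by
    rintro rfl
    rw [pow_zero] at hk
    exact hN1 (Subgroup.eq_bot_of_card_eq _ hk)
  have h4 : q ∣ Nat.card H :=
    (hd.trans (dvd_mul_left _ _) |>.trans (dvd_of_eq hcard)).trans (Subgroup.card_dvd_of_le
      (sup_le (hle le_sup_left hU hAU hCU) (hle le_sup_right hV hAV hCV)))
  exact hq.ne_one (Nat.eq_one_of_dvd_coprimes hNHc (hk ▸ dvd_pow_self q hkpos) h4)

/-- Two `A`-invariant `C_L(A)`-invariant `σ`-subgroups of `L` generate a `σ`-subgroup. -/
theorem isSigma_sup [Finite G] {σ : Set ℕ} {A L U V : Subgroup G} (hL : Group.IsSolvable L)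
    (hAL : A ≤ Subgroup.normalizer (L : Set G)) (hcop : (Nat.card A).Coprime (Nat.card L))
    (hUL : U ≤ L) (hVL : V ≤ L) (hAU : A ≤ Subgroup.normalizer (U : Set G))
    (hAV : A ≤ Subgroup.normalizer (V : Set G))
    (hCU : L ⊓ Subgroup.centralizer (A : Set G) ≤ Subgroup.normalizer (U : Set G))
    (hCV : L ⊓ Subgroup.centralizer (A : Set G) ≤ Subgroup.normalizer (V : Set G))
    (hU : IsSigma σ U) (hV : IsSigma σ V) : IsSigma σ (U ⊔ V) :=
  isSigma_sup_aux σ _ rfl hL hAL hcop hUL hVL hAU hAV hCU hCV hU hV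

/-- The candidates for `sigmaPart`. -/
def SigmaCand (σ : Set ℕ) (A L U : Subgroup G) : Prop :=
  U ≤ L ∧ A ≤ Subgroup.normalizer (U : Set G) ∧
    L ⊓ Subgroup.centralizer (A : Set G) ≤ Subgroup.normalizer (U : Set G) ∧ IsSigma σ U

/-- The join of the invariant `σ`-subgroups of `L`. -/
def sigmaPart (σ : Set ℕ) (A L : Subgroup G) : Subgroup G :=
  sSup {U | SigmaCand σ A L U}

theorem sigmaCand_sigmaPart [Finite G] (σ : Set ℕ) {A L : Subgroup G} (hL : Group.IsSolvable L)
    (hAL : A ≤ Subgroup.normalizer (L : Set G)) (hcop : (Nat.card A).Coprime (Nat.card L)) :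
    SigmaCand σ A L (sigmaPart σ A L) := by
  obtain ⟨M, -, hM⟩ := Finite.exists_le_maximal (p := SigmaCand σ A L) (a := ⊥)
    ⟨bot_le, by rw [Subgroup.normalizer_eq_top_iff.mpr inferInstance]; exact le_top,
      by rw [Subgroup.normalizer_eq_top_iff.mpr inferInstance]; exact le_top, isSigma_bot σ⟩
  suffices sigmaPart σ A L = M from this ▸ hM.prop
  refine le_antisymm (sSup_le fun U hU => ?_) (le_sSup hM.prop)
  obtain ⟨h1, h2, h3, h4⟩ := hM.prop
  have h : SigmaCand σ A L (M ⊔ U) := ⟨sup_le h1 hU.1, le_normalizer_sup_of_le h2 hU.2.1,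
    le_normalizer_sup_of_le h3 hU.2.2.1,
    isSigma_sup hL hAL hcop h1 hU.1 h2 hU.2.1 h3 hU.2.2.1 h4 hU.2.2.2⟩
  exact le_sup_right.trans (hM.2 h le_sup_left)

theorem le_sigmaPart {σ : Set ℕ} {A L U : Subgroup G} (h : SigmaCand σ A L U) :
    U ≤ sigmaPart σ A L :=
  le_sSup h

end CfsgLib.Signalizer
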