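import Mathlib
import Cfsg.Agent.Lib.Signalizer.Basic
import Cfsg.Agent.Lib.Signalizer.SigmaPart

/-!
The minimal counterexample to the solvable signalizer functor theorem: planes, generation,
normalizer members and the members `K σ`.
-/

set_option autoImplicit false
set_option linter.style.haveILetI false
set_option linter.unusedSectionVars false

open Pointwise
open CfsgLib.Coprime

namespace CfsgLib.Signalizer

variable {G : Type*} [Group G]

/-- Some member contains every value of the functor. -/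
def HasCover (p : ℕ) (A : Subgroup G) (θ : G → Subgroup G) : Prop :=
  ∃ U ∈ Cfsg.signalizerFamily p A θ, ∀ a ∈ A, a ≠ 1 → θ a ≤ U

/-- A counterexample all of whose proper subfunctors and quotients are complete. -/
structure Minimal (p : ℕ) (A : Subgroup G) (θ : G → Subgroup G) : Prop where
  elem : Cfsg.IsElementaryAbelian p A
  card : Nat.card A = p ^ 3
  solv : Cfsg.IsSolvableSignalizerFunctor p A θ
  sub : ∀ ψ : G → Subgroup G, Cfsg.IsSolvableSignalizerFunctor p A ψ →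
    (∀ a ∈ A, a ≠ 1 → ψ a ≤ θ a) → (∃ a ∈ A, a ≠ 1 ∧ ψ a ≠ θ a) → HasCover p A ψ
  not_cover : ¬ HasCover p A θ
  not_normal : ∀ V ∈ Cfsg.signalizerFamily p A θ, V ≠ ⊥ →
    ∃ a ∈ A, a ≠ 1 ∧ ¬ θ a ≤ Subgroup.normalizer (V : Set G)

/-- `B` is a subgroup of order `p ^ 2` of `A`. -/
def IsPlane (p : ℕ) (A B : Subgroup G) : Prop :=
  B ≤ A ∧ Nat.card B = p ^ 2

/-- `q` divides the order of some value of `θ`. -/
def InPi (A : Subgroup G) (θ : G → Subgroup G) (q : ℕ) : Prop :=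
  q.Prime ∧ ∃ a ∈ A, a ≠ 1 ∧ q ∣ Nat.card (θ a)

/-- The join of the invariant `σ`-subgroups of the values of `θ`. -/
def K (A : Subgroup G) (θ : G → Subgroup G) (σ : Set ℕ) : Subgroup G :=
  ⨆ a : {a : G // a ∈ A ∧ a ≠ 1}, sigmaPart σ A (θ a)

/-- The largest invariant `x`-member. -/
def Pi (A : Subgroup G) (θ : G → Subgroup G) (x : ℕ) : Subgroup G :=
  K A θ {x}

/-- The normalizer of `V` inside the functor. -/
def normMember (A : Subgroup G) (θ : G → Subgroup G) (V : Subgroup G) : Subgroup G :=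
  ⨆ a : {a : G // a ∈ A ∧ a ≠ 1}, θ a ⊓ Subgroup.normalizer (V : Set G)

/-- The join of the conjugates of `S` by `T`. -/
def conjClosure (S T : Subgroup G) : Subgroup G :=
  ⨆ t : T, MulAut.conj (t : G) • S

/-! ### General facts -/

theorem le_normalizer_iSup {ι : Sort*} {R : Subgroup G} {S : ι → Subgroup G}
    (h : ∀ i, R ≤ Subgroup.normalizer (S i : Set G)) :
    R ≤ Subgroup.normalizer ((⨆ i, S i : Subgroup G) : Set G) := by
  intro r hr
  rw [mem_normalizer_iff_conj_smul]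
  rw [conj_smul_eq_map, Subgroup.map_iSup]
  exact iSup_congr fun i => mem_normalizer_iff_conj_smul.mp (h i hr)

theorem le_normalizer_sSup {R : Subgroup G} {S : Set (Subgroup G)}
    (h : ∀ U ∈ S, R ≤ Subgroup.normalizer (U : Set G)) :
    R ≤ Subgroup.normalizer ((sSup S : Subgroup G) : Set G) := by
  rw [sSup_eq_iSup]
  exact le_normalizer_iSup fun U => le_normalizer_iSup fun hU => h U hU

theorem le_conjClosure (S T : Subgroup G) : S ≤ conjClosure S T :=
  le_iSup_of_le 1 (by simp)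

theorem conjClosure_le_iff {S T X : Subgroup G} :
    conjClosure S T ≤ X ↔ ∀ t ∈ T, ∀ s ∈ S, t * s * t⁻¹ ∈ X := by
  refine ⟨fun h t ht s hs => h (le_iSup (fun t : T => MulAut.conj (t : G) • S) ⟨t, ht⟩
    (conj_mem_conj_smul hs)), fun h => iSup_le fun t => ?_⟩
  rintro _ ⟨s, hs, rfl⟩
  exact h t t.2 s hs

theorem conj_mem_conjClosure {S T : Subgroup G} {t s : G} (ht : t ∈ T) (hs : s ∈ S) :
    t * s * t⁻¹ ∈ conjClosure S T :=
  conjClosure_le_iff.mp le_rfl t ht s hs

theorem le_normalizer_conjClosure {R S T : Subgroup G}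
    (hT : R ≤ Subgroup.normalizer (T : Set G)) (hS : R ≤ Subgroup.normalizer (S : Set G)) :
    R ≤ Subgroup.normalizer (conjClosure S T : Set G) := by
  refine le_normalizer_of_forall fun r hr u hu => ?_
  have h : conjClosure S T ≤ (conjClosure S T).comap (MulAut.conj r).toMonoidHom :=
    conjClosure_le_iff.mpr fun t ht s hs => by
      show r * (t * s * t⁻¹) * r⁻¹ ∈ conjClosure S T
      have := conj_mem_conjClosure (forall_of_le_normalizer hT r hr t ht)
        (forall_of_le_normalizer hS r hr s hs)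
      simpa [mul_assoc] using this
  exact h hu

/-- `R` normalised by `T` fixes every conjugate of a subgroup it normalises. -/
theorem le_normalizer_conjClosure' {R S T : Subgroup G}
    (hRT : T ≤ Subgroup.normalizer (R : Set G)) (hS : R ≤ Subgroup.normalizer (S : Set G)) :
    R ≤ Subgroup.normalizer (conjClosure S T : Set G) := by
  refine le_normalizer_iSup fun t r hr => ?_
  have h := conj_smul_eq_self_of_mem_normalizer (hS
    (forall_of_le_normalizer hRT (t : G)⁻¹ (inv_mem t.2) r hr))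
  rw [mem_normalizer_iff_conj_smul, ← mul_smul, ← map_mul,
    show r * (t : G) = t * ((t : G)⁻¹ * r * ((t : G)⁻¹)⁻¹) by group, map_mul, mul_smul, h]

theorem fittingSubgroup_le_of_pCore_le [Finite G] {Y : Subgroup G}
    (h : ∀ v : ℕ, v.Prime → Cfsg.pCore v G ≤ Y) : Cfsg.fittingSubgroup G ≤ Y := by
  haveI hFn := Fitting.fittingSubgroup_normal (G := G)
  haveI hF := Fitting.fittingSubgroup_isNilpotent (G := G)
  set F := Cfsg.fittingSubgroup G
  refine Subgroup.subgroupOf_eq_top.mp ?_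
  rw [← Subgroup.index_eq_one]
  by_contra hne
  obtain ⟨v, hv, hd⟩ := Nat.exists_prime_and_dvd hne
  haveI := Fact.mk hv
  obtain ⟨P⟩ : Nonempty (Sylow v F) := inferInstance
  haveI : (P : Subgroup F).Characteristic := Sylow.characteristic_of_normal P inferInstance
  exact P.not_dvd_index (hd.trans (Subgroup.index_dvd_of_le fun y hy => h v hv
    (Fitting.le_pCore ConjAct.normal_of_characteristic_of_normal (P.2.map _)
      (Subgroup.mem_map_of_mem F.subtype hy))))

/-- A coprime element centralizing every `O_v(X)` centralizes the solvable group `X`. -/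
theorem le_centralizer_of_pCoreOf [Finite G] {X : Subgroup G} (hX : Group.IsSolvable X)
    {p : ℕ} [hp : Fact p.Prime] (hpX : ¬ p ∣ Nat.card X) {b : G} (hb : b ^ p = 1)
    (hbX : b ∈ Subgroup.normalizer (X : Set G))
    (h : ∀ v : ℕ, v.Prime → Cfsg.pCoreOf v X ≤ Subgroup.centralizer ({b} : Set G)) :
    X ≤ Subgroup.centralizer ({b} : Set G) := by
  haveI := hX
  intro x hx
  have hd : x⁻¹ * (b * x * b⁻¹) ∈ X :=
    mul_mem (inv_mem hx) ((Subgroup.mem_normalizer_iff.mp hbX x).mp hx)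
  set d : X := ⟨x⁻¹ * (b * x * b⁻¹), hd⟩ with hd'
  have hC : ∀ v : ℕ, v.Prime → Cfsg.pCore v X ≤ Subgroup.centralizer ({d} : Set X) := by
    intro v hv f hf
    have hfb : ∀ g ∈ Cfsg.pCoreOf v X, b * g * b⁻¹ = g := fun g hg => by
      rw [← Subgroup.mem_centralizer_singleton_iff.mp (h v hv hg)]
      group
    have h1 := hfb _ (Subgroup.mem_map_of_mem X.subtype hf)
    have h2 := hfb _ ((Subgroup.mem_normalizer_iff.mp (le_normalizer_core v X hx) _).mp
      (Subgroup.mem_map_of_mem X.subtype hf))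
    refine Subgroup.mem_centralizer_singleton_iff.mpr (Subtype.ext ?_)
    show (f : G) * (x⁻¹ * (b * x * b⁻¹)) = x⁻¹ * (b * x * b⁻¹) * f
    calc (f : G) * (x⁻¹ * (b * x * b⁻¹))
        = x⁻¹ * (x * f * x⁻¹) * (b * x * b⁻¹) := by group
      _ = x⁻¹ * (b * (x * (X.subtype f) * x⁻¹) * b⁻¹) * (b * x * b⁻¹) := by rw [h2]; rfl
      _ = x⁻¹ * (b * x * b⁻¹) * (b * (X.subtype f) * b⁻¹) := by group
      _ = x⁻¹ * (b * x * b⁻¹) * f := by rw [h1]; rfl
  have hdF : d ∈ Cfsg.fittingSubgroup X := by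
    refine PSolvable.centralizer_fittingSubgroup_le fun f hf => ?_
    exact Subgroup.mem_centralizer_singleton_iff.mp (fittingSubgroup_le_of_pCore_le hC hf)
  have hF : Cfsg.fittingSubgroup X ≤ (Subgroup.centralizer ({b} : Set G)).subgroupOf X :=
    fittingSubgroup_le_of_pCore_le fun v hv f hf => h v hv (Subgroup.mem_map_of_mem X.subtype hf)
  have hbd : b * (d : G) = d * b := (Subgroup.mem_centralizer_singleton_iff.mp (hF hdF)).symm
  have hxd : b * x * b⁻¹ = x * d := by show _ = x * (x⁻¹ * (b * x * b⁻¹)); group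
  have hn : ∀ n : ℕ, b ^ n * x * (b ^ n)⁻¹ = x * (d : G) ^ n := by
    intro n
    induction n with
    | zero => simp
    | succ n ih =>
      rw [pow_succ', mul_inv_rev, show b * b ^ n * x * ((b ^ n)⁻¹ * b⁻¹) =
        b * (b ^ n * x * (b ^ n)⁻¹) * b⁻¹ by group, ih,
        show b * (x * (d : G) ^ n) * b⁻¹ = b * x * b⁻¹ * (b * (d : G) ^ n * b⁻¹) by group, hxd,
        (Commute.pow_right hbd n).eq, mul_inv_cancel_right, mul_assoc, ← pow_succ']
  have h1 := hn p
  rw [hb] at h1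
  have h2 : (d : G) ^ p = 1 := by simpa using h1
  have h3 : orderOf (d : G) = 1 := Nat.eq_one_of_dvd_coprimes
    ((Nat.Prime.coprime_iff_not_dvd hp.out).mpr hpX) (orderOf_dvd_of_pow_eq_one h2)
    (Subgroup.orderOf_dvd_natCard _ d.2)
  rw [orderOf_eq_one_iff] at h3
  rw [h3, mul_one, mul_inv_eq_iff_eq_mul] at hxd
  exact Subgroup.mem_centralizer_singleton_iff.mpr hxd.symm

/-! ### The minimal counterexample -/

variable [Finite G] {p : ℕ} [hp : Fact p.Prime] {A : Subgroup G} {θ : G → Subgroup G}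

namespace Minimal

variable (h : Minimal p A θ)
include h

theorem three_le : p ^ 3 ≤ Nat.card A := h.card.ge

theorem comm {a b : G} (ha : a ∈ A) (hb : b ∈ A) : a * b = b * a :=
  congrArg Subtype.val (h.elem.1.is_comm.comm (⟨a, ha⟩ : A) ⟨b, hb⟩)

theorem pow_eq_one {a : G} (ha : a ∈ A) : a ^ p = 1 := h.elem.2 a ha

theorem isMulCommutative {B : Subgroup G} (hB : B ≤ A) : IsMulCommutative B :=
  ⟨⟨fun u v => Subtype.ext (h.comm (hB u.2) (hB v.2))⟩⟩

theorem le_centralizer {a : G} (ha : a ∈ A) : A ≤ Subgroup.centralizer ({a} : Set G) :=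
  fun _ hb => Subgroup.mem_centralizer_singleton_iff.mpr (h.comm hb ha)

theorem le_normalizer_centralizer {B : Subgroup G} (hB : B ≤ A) :
    A ≤ Subgroup.normalizer ((Subgroup.centralizer (B : Set G) : Subgroup G) : Set G) :=
  fun a ha => Subgroup.le_normalizer fun b hb => h.comm (hB hb) ha

theorem exists_ne_one : ∃ a ∈ A, a ≠ 1 := by
  refine exists_ne_one_of_ne_bot fun h' => ?_
  have := h.card
  rw [h', Subgroup.card_bot] at this
  nlinarith [hp.out.two_le, Nat.pow_le_pow_left hp.out.two_le 3]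

theorem coprime {X : Subgroup G} (hX : X ∈ Cfsg.signalizerFamily p A θ) :
    (Nat.card A).Coprime (Nat.card X) :=
  coprime_card h.elem hX.2.1

theorem p_coprime {X : Subgroup G} (hX : X ∈ Cfsg.signalizerFamily p A θ) :
    p.Coprime (Nat.card X) :=
  (Nat.Prime.coprime_iff_not_dvd hp.out).mpr hX.2.1

theorem theta_mem {a : G} (ha : a ∈ A) (ha1 : a ≠ 1) : θ a ∈ Cfsg.signalizerFamily p A θ :=
  theta_mem_family h.solv ha ha1

/-! #### Planes -/

theorem plane_not_cyclic {B : Subgroup G} (hB : IsPlane p A B) : ¬ IsCyclic B :=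
  not_isCyclic_of_exponent (fun _ hb => h.pow_eq_one (hB.1 hb)) hp.out.pos
    (hB.2 ▸ by nlinarith [hp.out.two_le])

theorem plane_ne_bot {B : Subgroup G} (hB : IsPlane p A B) : B ≠ ⊥ := by
  rintro rfl
  have := hB.2
  rw [Subgroup.card_bot] at this
  nlinarith [hp.out.two_le]

theorem card_zpowers_le {a : G} (ha : a ∈ A) : Nat.card (Subgroup.zpowers a) ∣ p := by
  rw [Nat.card_zpowers]
  exact orderOf_dvd_of_pow_eq_one (h.pow_eq_one ha)

theorem exists_plane_ge {D : Subgroup G} (hD : D ≤ A) (hc : Nat.card D ∣ p ^ 2) :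
    ∃ B, IsPlane p A B ∧ D ≤ B := by
  obtain ⟨m, hm, hDm⟩ := (Nat.dvd_prime_pow hp.out).mp hc
  obtain ⟨B, hB, hDB⟩ := Sylow.exists_subgroup_card_pow_prime_le (G := A) p (n := m) (m := 2)
    (h.card ▸ pow_dvd_pow p (by norm_num)) (D.subgroupOf A)
    (by rw [Nat.card_congr (Subgroup.subgroupOfEquivOfLe hD).toEquiv, hDm]) hm
  refine ⟨B.map A.subtype, ⟨Subgroup.map_subtype_le B, ?_⟩, ?_⟩
  · rw [Subgroup.card_map_of_injective A.subtype_injective, hB]
  · have := Subgroup.map_mono (f := A.subtype) hDB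
    rwa [Subgroup.map_subgroupOf_eq_of_le hD] at this

/-- Two elements of `A` lie in a common plane. -/
theorem exists_plane {a b : G} (ha : a ∈ A) (hb : b ∈ A) :
    ∃ B, IsPlane p A B ∧ a ∈ B ∧ b ∈ B := by
  have hab : Subgroup.zpowers b ≤ Subgroup.normalizer (Subgroup.zpowers a : Set G) :=
    le_normalizer_of_forall fun u hu v hv => by
      rw [h.comm ((Subgroup.zpowers_le.mpr hb) hu) ((Subgroup.zpowers_le.mpr ha) hv),
        mul_inv_cancel_right]
      exact hv
  obtain ⟨B, hB, hle⟩ := h.exists_plane_ge (D := Subgroup.zpowers a ⊔ Subgroup.zpowers b)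
    (sup_le (Subgroup.zpowers_le.mpr ha) (Subgroup.zpowers_le.mpr hb)) (by
      refine Nat.dvd_trans ?_ (sq p ▸ mul_dvd_mul (h.card_zpowers_le ha) (h.card_zpowers_le hb))
      exact Dvd.intro _ (card_sup_mul_card_inf hab))
  exact ⟨B, hB, hle (Subgroup.mem_sup_left (Subgroup.mem_zpowers a)),
    hle (Subgroup.mem_sup_right (Subgroup.mem_zpowers b))⟩

/-- Two planes have a common point. -/
theorem exists_mem_inter {B B' : Subgroup G} (hB : IsPlane p A B) (hB' : IsPlane p A B') :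
    ∃ f, f ≠ 1 ∧ f ∈ B ∧ f ∈ B' := by
  have hn : B' ≤ Subgroup.normalizer (B : Set G) := le_normalizer_of_forall fun u hu v hv => by
    rw [h.comm (hB'.1 hu) (hB.1 hv), mul_inv_cancel_right]
    exact hv
  have h1 := card_sup_mul_card_inf hn
  have h2 := Subgroup.card_le_of_le (sup_le hB.1 hB'.1)
  rw [h.card] at h2
  rw [hB.2, hB'.2] at h1
  obtain ⟨f, hf, hf1⟩ := exists_ne_one_of_ne_bot (H := B ⊓ B') fun h3 => by
    rw [h3, Subgroup.card_bot, mul_one] at h1
    rw [h1, ← pow_add] at h2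
    exact absurd ((Nat.pow_le_pow_iff_right hp.out.one_lt).mp h2) (by norm_num)
  exact ⟨f, hf1, (Subgroup.mem_inf.mp hf).1, (Subgroup.mem_inf.mp hf).2⟩

/-- An element commuting with a plane and a point outside commutes with `A`. -/
theorem mem_centralizer_of_plane {B : Subgroup G} (hB : IsPlane p A B) {a : G} (ha : a ∈ A)
    (haB : a ∉ B) {x : G} (hxB : x ∈ Subgroup.centralizer (B : Set G))
    (hxa : x ∈ Subgroup.centralizer ({a} : Set G)) : x ∈ Subgroup.centralizer (A : Set G) := by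
  set H := Subgroup.centralizer ({x} : Set G) ⊓ A with hH
  have hBH : B ≤ H := le_inf (fun b hb => Subgroup.mem_centralizer_singleton_iff.mpr (hxB b hb))
    hB.1
  have haH : a ∈ H := ⟨Subgroup.mem_centralizer_singleton_iff.mpr
    (Subgroup.mem_centralizer_singleton_iff.mp hxa).symm, ha⟩
  obtain ⟨m, hm, hHm⟩ := (Nat.dvd_prime_pow hp.out).mp
    (h.card ▸ Subgroup.card_dvd_of_le (inf_le_right : H ≤ A))
  have hlt : Nat.card B < Nat.card H := lt_of_le_of_ne (Subgroup.card_le_of_le hBH)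
    fun he => haB ((Subgroup.eq_of_le_of_card_ge hBH he.ge).ge haH)
  rw [hB.2, hHm] at hlt
  have h3 := (Nat.pow_lt_pow_iff_right hp.out.one_lt).mp hlt
  obtain rfl : m = 3 := by omega
  have hHA : H = A := Subgroup.eq_of_le_of_card_ge inf_le_right (by rw [h.card, hHm])
  intro b hb
  exact Subgroup.mem_centralizer_singleton_iff.mp (hHA.ge hb).1

/-- Two distinct planes meet in the powers of any of their common points. -/
theorem inter_le_zpowers {B B' : Subgroup G} (hB : IsPlane p A B) (hB' : IsPlane p A B')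
    (hne : B ≠ B') {e : G} (he : e ≠ 1) (heB : e ∈ B) (heB' : e ∈ B') :
    B ⊓ B' ≤ Subgroup.zpowers e := by
  obtain ⟨m, hm, hIm⟩ := (Nat.dvd_prime_pow hp.out).mp
    (hB.2 ▸ Subgroup.card_dvd_of_le (inf_le_left : B ⊓ B' ≤ B))
  have hle : Subgroup.zpowers e ≤ B ⊓ B' := Subgroup.zpowers_le.mpr ⟨heB, heB'⟩
  have hne2 : m ≠ 2 := by
    rintro rfl
    exact hne (le_antisymm
      (inf_eq_left.mp (Subgroup.eq_of_le_of_card_ge inf_le_left (by rw [hB.2, hIm])))
      (inf_eq_right.mp (Subgroup.eq_of_le_of_card_ge inf_le_right (by rw [hB'.2, hIm]))))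
  refine (Subgroup.eq_of_le_of_card_ge hle ?_).ge
  rw [hIm, Nat.card_zpowers,
    (hp.out.eq_one_or_self_of_dvd _ (orderOf_dvd_of_pow_eq_one (h.pow_eq_one (hB.1 heB)))).resolve_left
      (by rwa [orderOf_eq_one_iff])]
  conv_rhs => rw [← pow_one p]
  exact Nat.pow_le_pow_right hp.out.pos (by omega)

/-- Some element of `A` avoids two planes. -/
theorem exists_not_mem {B B' : Subgroup G} (hB : IsPlane p A B) (hB' : IsPlane p A B') :
    ∃ c ∈ A, c ∉ B ∧ c ∉ B' := by
  have hlt : ∀ {D : Subgroup G}, IsPlane p A D → ¬ A ≤ D := fun {D} hD hle => by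
    have := Subgroup.card_le_of_le hle
    rw [h.card, hD.2] at this
    exact absurd ((Nat.pow_le_pow_iff_right hp.out.one_lt).mp this) (by norm_num)
  by_contra hc
  push Not at hc
  obtain ⟨u, hu, huB⟩ := SetLike.not_le_iff_exists.mp (hlt hB)
  obtain ⟨v, hv, hvB⟩ := SetLike.not_le_iff_exists.mp (hlt hB')
  have huB' : u ∈ B' := hc u hu huB
  have hvB'' : v ∈ B := by
    by_contra h'
    exact hvB (hc v hv h')
  rcases em (u * v ∈ B) with h' | h'
  · exact huB (by simpa using mul_mem h' (inv_mem hvB''))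
  · exact hvB (by simpa using mul_mem (inv_mem huB') (hc _ (mul_mem hu hv) h'))

/-! #### Generation -/

theorem le_of_planes {X Y : Subgroup G} (hX : X ∈ Cfsg.signalizerFamily p A θ)
    (hY : ∀ B, IsPlane p A B → X ⊓ Subgroup.centralizer (B : Set G) ≤ Y) : X ≤ Y := by
  refine le_of_hyperplane_centralizer_le h.elem.1 h.elem.2
    (h.three_le.trans' (Nat.pow_le_pow_right hp.out.pos (by norm_num)))
    (mem_normalizer_family hX) (h.coprime hX) fun B hB hidx => ?_
  have h3 := relIndex_mul_card_inf B A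
  rw [inf_eq_left.mpr hB, h.card] at h3
  obtain ⟨m, hm, hBm⟩ := (Nat.dvd_prime_pow hp.out).mp (h.card ▸ Subgroup.card_dvd_of_le hB)
  have hm2 : 2 ≤ m := by
    rw [hBm] at h3
    by_contra hm'
    have : p ^ 3 ≤ p * p ^ 1 := h3 ▸ Nat.mul_le_mul hidx (Nat.pow_le_pow_right hp.out.pos (by omega))
    rw [← pow_succ'] at this
    exact absurd ((Nat.pow_le_pow_iff_right hp.out.one_lt).mp this) (by norm_num)
  obtain ⟨D, hD, hDB⟩ : ∃ D, IsPlane p A D ∧ D ≤ B := by
    obtain ⟨K, hK⟩ := Sylow.exists_subgroup_card_pow_prime (G := B) p (n := 2)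
      (hBm ▸ pow_dvd_pow p hm2)
    exact ⟨K.map B.subtype, ⟨(Subgroup.map_subtype_le K).trans hB,
      by rw [Subgroup.card_map_of_injective B.subtype_injective, hK]⟩, Subgroup.map_subtype_le K⟩
  exact (inf_le_inf_left _ (Subgroup.centralizer_le hDB)).trans (hY D hD)

theorem le_of_points {X Y : Subgroup G} (hX : X ∈ Cfsg.signalizerFamily p A θ) {B : Subgroup G}
    (hB : IsPlane p A B)
    (hY : ∀ f ∈ B, f ≠ 1 → X ⊓ Subgroup.centralizer ({f} : Set G) ≤ Y) : X ≤ Y := by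
  haveI := h.isMulCommutative hB.1
  exact le_of_centralizer_le (h.plane_not_cyclic hB) (hB.1.trans (mem_normalizer_family hX))
    ((h.coprime hX).coprime_dvd_left (Subgroup.card_dvd_of_le hB.1)) hY

theorem exists_point {X : Subgroup G} (hX : X ∈ Cfsg.signalizerFamily p A θ) (hX1 : X ≠ ⊥)
    {B : Subgroup G} (hB : IsPlane p A B) :
    ∃ f ∈ B, f ≠ 1 ∧ X ⊓ Subgroup.centralizer ({f} : Set G) ≠ ⊥ := by
  by_contra hc
  push Not at hc
  exact hX1 (le_bot_iff.mp (h.le_of_points hX hB fun f hf hf1 => (hc f hf hf1).le))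

theorem exists_prime_point {X : Subgroup G} (hX : X ∈ Cfsg.signalizerFamily p A θ) {q : ℕ}
    (hq : q.Prime) (hd : q ∣ Nat.card X) :
    ∃ a ∈ A, a ≠ 1 ∧ q ∣ Nat.card ↥(X ⊓ Subgroup.centralizer ({a} : Set G)) := by
  haveI := Fact.mk hq
  obtain ⟨S, hS⟩ := exists_invariant_sylow (mem_normalizer_family hX) (h.coprime hX) (Or.inr hX.1) q
  set T := (S : Subgroup X).map X.subtype with hT
  have hTm := mem_family_of_le hX (Subgroup.map_subtype_le _) hS
  have hT1 : T ≠ ⊥ := fun h' => by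
    have hS1 := S.ne_bot_of_dvd_card hd
    rw [hT, Subgroup.map_eq_bot_iff_of_injective _ X.subtype_injective] at h'
    exact hS1 h'
  obtain ⟨a, ha, ha1⟩ := h.exists_ne_one
  obtain ⟨B, hB, -, -⟩ := h.exists_plane ha ha
  obtain ⟨f, hf, hf1, hne⟩ := h.exists_point hTm hT1 hB
  refine ⟨f, hB.1 hf, hf1, ?_⟩
  obtain ⟨n, hn⟩ := IsPGroup.iff_card.mp ((S.2.map X.subtype).to_le
    (inf_le_left : T ⊓ Subgroup.centralizer ({f} : Set G) ≤ T))
  have hn0 : n ≠ 0 := by
    rintro rfl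
    rw [pow_zero] at hn
    exact hne (Subgroup.eq_bot_of_card_eq _ hn)
  exact (hn ▸ dvd_pow_self q hn0).trans
    (Subgroup.card_dvd_of_le (inf_le_inf_right _ (Subgroup.map_subtype_le _)))

theorem inPi_of_dvd {X : Subgroup G} (hX : X ∈ Cfsg.signalizerFamily p A θ) {q : ℕ}
    (hq : q.Prime) (hd : q ∣ Nat.card X) : InPi A θ q := by
  obtain ⟨a, ha, ha1, hdvd⟩ := h.exists_prime_point hX hq hd
  exact ⟨hq, a, ha, ha1, hdvd.trans (Subgroup.card_dvd_of_le (hX.2.2.2 a ha ha1))⟩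

/-- There are at least two primes. -/
theorem exists_other (x : ℕ) : ∃ q, InPi A θ q ∧ q ≠ x := by
  by_contra hc
  push Not at hc
  obtain ⟨y, hy, hprimes⟩ : ∃ y, y.Prime ∧ ∀ q, InPi A θ q → q = y := by
    by_cases he : ∃ q, InPi A θ q
    · obtain ⟨q, hq⟩ := he
      exact ⟨q, hq.1, fun r hr => (hc r hr).trans (hc q hq).symm⟩
    · exact ⟨2, Nat.prime_two, fun r hr => absurd ⟨r, hr⟩ he⟩
  haveI := Fact.mk hy
  obtain ⟨-, X, hXA, hXp, hX⟩ := complete_of_single_prime h.elem h.three_le h.solv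
    fun a ha ha1 => isPGroup_of_isSigma fun q hq hd => hprimes q ⟨hq, a, ha, ha1, hd⟩
  have hXy : IsPGroup y X := by
    refine isPGroup_of_isSigma fun q hq hd => ?_
    haveI := Fact.mk hq
    obtain ⟨a, ha, ha1⟩ := h.exists_ne_one
    obtain ⟨S, hS⟩ := exists_invariant_sylow (A := A) (le_normalizer_of_forall hXA)
      (coprime_card h.elem hXp)
      (Or.inl (by haveI := h.elem.1; exact isSolvable_of_isMulCommutative A)) q
    set T := (S : Subgroup X).map X.subtype
    by_contra hne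
    have hT : T ≤ ⊥ := le_of_hyperplane_centralizer_le h.elem.1 h.elem.2
      (h.three_le.trans' (Nat.pow_le_pow_right hp.out.pos (by norm_num))) hS
      (coprime_card h.elem fun hd' => hXp (hd'.trans
        (Subgroup.card_dvd_of_le (Subgroup.map_subtype_le _)))) fun B hB hidx => by
        obtain ⟨b, hb, hb1⟩ := exists_ne_one_of_ne_bot (H := B) fun h' => by
          have h3 := relIndex_mul_card_inf B A
          rw [inf_eq_left.mpr hB, h', Subgroup.card_bot, mul_one, h.card] at h3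
          rw [h', h3] at hidx
          conv_rhs at hidx => rw [← pow_one p]
          exact absurd ((Nat.pow_le_pow_iff_right hp.out.one_lt).mp hidx) (by norm_num)
        refine (inf_le_inf_left _ (Subgroup.centralizer_le (show ({b} : Set G) ⊆ B by simpa))).trans ?_
        intro t ht
        obtain ⟨htT, htb⟩ := Subgroup.mem_inf.mp ht
        have hθ : t ∈ θ b := (hX b (hB hb) hb1).le ⟨Subgroup.map_subtype_le _ htT, htb⟩
        by_contra ht1
        haveI := Fact.mk hy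
        have h1 := (isPGroup_of_isSigma (v := y) fun r hr hd' =>
          hprimes r ⟨hr, b, hB hb, hb1, hd'⟩ : IsPGroup y (θ b))
        exact ht1 (Subgroup.mem_bot.mpr (Subgroup.mem_bot.mp
          (inf_eq_bot_of_isPGroup hne (S.2.map X.subtype) h1 ▸ ⟨htT, hθ⟩)))
    exact S.ne_bot_of_dvd_card hd
      ((Subgroup.map_eq_bot_iff_of_injective _ X.subtype_injective).mp (le_bot_iff.mp hT))
  haveI : Group.IsNilpotent X := hXy.isNilpotent
  exact h.not_cover ⟨X, ⟨inferInstance, hXp, hXA, fun a ha ha1 => (hX a ha ha1).le⟩,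
    fun a ha ha1 => (hX a ha ha1).ge.trans inf_le_left⟩

/-! #### Subfunctors -/

theorem iSup_sub {ψ : G → Subgroup G} (hψ : Cfsg.IsSolvableSignalizerFunctor p A ψ)
    (hle : ∀ a ∈ A, a ≠ 1 → ψ a ≤ θ a) (hne : ∃ a ∈ A, a ≠ 1 ∧ ψ a ≠ θ a) :
    (⨆ a : {a : G // a ∈ A ∧ a ≠ 1}, ψ a) ∈ Cfsg.signalizerFamily p A θ ∧
      ∀ b ∈ A, b ≠ 1 →
        (⨆ a : {a : G // a ∈ A ∧ a ≠ 1}, ψ a) ⊓ Subgroup.centralizer ({b} : Set G) ≤ ψ b := by
  obtain ⟨U, hU, hUle⟩ := h.sub ψ hψ hle hne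
  have hU' : U ∈ Cfsg.signalizerFamily p A θ :=
    ⟨hU.1, hU.2.1, hU.2.2.1, fun a ha ha1 => (hU.2.2.2 a ha ha1).trans (hle a ha ha1)⟩
  have heq : (⨆ a : {a : G // a ∈ A ∧ a ≠ 1}, ψ a) = U := by
    refine le_antisymm (iSup_le fun a => hUle a a.2.1 a.2.2) ?_
    obtain ⟨a, ha, ha1⟩ := h.exists_ne_one
    obtain ⟨B, hB, -, -⟩ := h.exists_plane ha ha
    exact h.le_of_points hU' hB fun f hf hf1 => le_iSup_of_le
      (f := fun a : {a : G // a ∈ A ∧ a ≠ 1} => ψ a) ⟨f, hB.1 hf, hf1⟩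
      (hU.2.2.2 f (hB.1 hf) hf1)
  rw [heq]
  exact ⟨hU', hU.2.2.2⟩

/-! #### The normalizer inside the functor -/

theorem normMember_mem {V : Subgroup G} (hV : V ∈ Cfsg.signalizerFamily p A θ) (hV1 : V ≠ ⊥) :
    normMember A θ V ∈ Cfsg.signalizerFamily p A θ := by
  refine (h.iSup_sub (ψ := fun a => θ a ⊓ Subgroup.normalizer (V : Set G))
    ⟨⟨fun a ha ha1 => inf_le_left.trans (h.solv.1.1 a ha ha1),
      fun a ha ha1 hd => h.solv.1.2.1 a ha ha1 (hd.trans (Subgroup.card_dvd_of_le inf_le_left)),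
      fun a ha ha1 b hb x hx => ⟨h.solv.1.2.2.1 a ha ha1 b hb x hx.1,
        forall_of_le_normalizer ((mem_normalizer_family hV).trans Subgroup.le_normalizer) b hb x hx.2⟩,
      fun a ha ha1 b hb hb1 x hx => ⟨h.solv.1.2.2.2 a ha ha1 b hb hb1 ⟨hx.1.1, hx.2⟩, hx.1.2⟩⟩,
      fun a ha ha1 => isSolvable_of_le inf_le_left (h.solv.2 a ha ha1)⟩
    (fun a _ _ => inf_le_left) ?_).1
  obtain ⟨a, ha, ha1, hna⟩ := h.not_normal V hV hV1
  exact ⟨a, ha, ha1, fun he => hna (he ▸ inf_le_right)⟩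

omit [Finite G] hp h in
theorem normMember_le (V : Subgroup G) :
    normMember A θ V ≤ Subgroup.normalizer (V : Set G) :=
  iSup_le fun _ => inf_le_right

theorem le_normMember {V X : Subgroup G} (hX : X ∈ Cfsg.signalizerFamily p A θ)
    (hXV : X ≤ Subgroup.normalizer (V : Set G)) : X ≤ normMember A θ V := by
  obtain ⟨a, ha, ha1⟩ := h.exists_ne_one
  obtain ⟨B, hB, -, -⟩ := h.exists_plane ha ha
  exact h.le_of_points hX hB fun f hf hf1 => le_iSup_of_le
    (f := fun a : {a : G // a ∈ A ∧ a ≠ 1} => θ a ⊓ Subgroup.normalizer (V : Set G))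
    ⟨f, hB.1 hf, hf1⟩ (le_inf (hX.2.2.2 f (hB.1 hf) hf1) (inf_le_left.trans hXV))

/-! #### `θ(A)` and the members `K σ` -/

theorem inf_le_theta {a : G} (ha : a ∈ A) (ha1 : a ≠ 1) : Cfsg.signalizerInf A θ ≤ θ a :=
  iInf_le (fun a : {a : G // a ∈ A ∧ a ≠ 1} => θ a) ⟨a, ha, ha1⟩

theorem inf_le_centralizer : Cfsg.signalizerInf A θ ≤ Subgroup.centralizer (A : Set G) :=
  fun _ hx _ ha => mem_centralizer_singleton_of_inf h.solv.1 hx ha

theorem inf_mem : Cfsg.signalizerInf A θ ∈ Cfsg.signalizerFamily p A θ := by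
  obtain ⟨a, ha, ha1⟩ := h.exists_ne_one
  exact signalizerInf_mem_family h.solv h.elem le_rfl fun h' => ha1 (Subgroup.mem_bot.mp (h' ▸ ha))

theorem theta_inf_centralizer {a : G} (ha : a ∈ A) (ha1 : a ≠ 1) :
    θ a ⊓ Subgroup.centralizer (A : Set G) = Cfsg.signalizerInf A θ :=
  (signalizerInf_eq h.solv.1 le_rfl ha ha1).symm

theorem inf_centralizer_le_inf {X : Subgroup G} (hX : X ∈ Cfsg.signalizerFamily p A θ) :
    X ⊓ Subgroup.centralizer (A : Set G) ≤ Cfsg.signalizerInf A θ :=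
  inf_centralizer_le_signalizerInf hX le_rfl

theorem inf_le_normalizer_centralizer {B : Subgroup G} (hB : B ≤ A) :
    Cfsg.signalizerInf A θ ≤
      Subgroup.normalizer ((Subgroup.centralizer (B : Set G) : Subgroup G) : Set G) :=
  fun _ hx => Subgroup.le_normalizer fun b hb =>
    mem_centralizer_singleton_of_inf h.solv.1 hx (hB hb)

theorem inf_le_normalizer_centralizer' {a : G} (ha : a ∈ A) :
    Cfsg.signalizerInf A θ ≤
      Subgroup.normalizer ((Subgroup.centralizer ({a} : Set G) : Subgroup G) : Set G) :=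
  fun _ hx => Subgroup.le_normalizer (Subgroup.mem_centralizer_singleton_iff.mpr
    (mem_centralizer_singleton_of_inf h.solv.1 hx ha).symm)

theorem sigmaCand_theta (σ : Set ℕ) {a : G} (ha : a ∈ A) (ha1 : a ≠ 1) :
    SigmaCand σ A (θ a) (sigmaPart σ A (θ a)) :=
  sigmaCand_sigmaPart σ (h.solv.2 a ha ha1) (mem_normalizer_family (h.theta_mem ha ha1))
    (h.coprime (h.theta_mem ha ha1))

theorem K_spec {σ : Set ℕ} (hσ : ∃ q, InPi A θ q ∧ q ∉ σ) :
    K A θ σ ∈ Cfsg.signalizerFamily p A θ ∧ IsSigma σ (K A θ σ) ∧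
      Cfsg.signalizerInf A θ ≤ Subgroup.normalizer (K A θ σ : Set G) := by
  obtain ⟨hmem, hfix⟩ : K A θ σ ∈ Cfsg.signalizerFamily p A θ ∧ ∀ b ∈ A, b ≠ 1 →
      K A θ σ ⊓ Subgroup.centralizer ({b} : Set G) ≤ sigmaPart σ A (θ b) := by
    refine h.iSup_sub (ψ := fun a => sigmaPart σ A (θ a)) ⟨⟨fun a ha ha1 =>
        (h.sigmaCand_theta σ ha ha1).1.trans (h.solv.1.1 a ha ha1),
      fun a ha ha1 hd => h.solv.1.2.1 a ha ha1
        (hd.trans (Subgroup.card_dvd_of_le (h.sigmaCand_theta σ ha ha1).1)),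
      fun a ha ha1 => forall_of_le_normalizer (h.sigmaCand_theta σ ha ha1).2.1,
      fun a ha ha1 b hb hb1 => ?_⟩,
      fun a ha ha1 => isSolvable_of_le (h.sigmaCand_theta σ ha ha1).1 (h.solv.2 a ha ha1)⟩
      (fun a ha ha1 => (h.sigmaCand_theta σ ha ha1).1) ?_
    · obtain ⟨h1, h2, h3, h4⟩ := h.sigmaCand_theta σ ha ha1
      refine le_sigmaPart ⟨(inf_le_inf_right _ h1).trans (h.solv.1.2.2.2 a ha ha1 b hb hb1),
        le_normalizer_inf_of_le h2 ((h.le_centralizer hb).trans Subgroup.le_normalizer), ?_,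
        h4.of_le inf_le_left⟩
      rw [h.theta_inf_centralizer hb hb1]
      exact le_normalizer_inf_of_le (h.theta_inf_centralizer ha ha1 ▸ h3)
        (h.inf_le_normalizer_centralizer' hb)
    · obtain ⟨q, ⟨hq, a, ha, ha1, hd⟩, hqσ⟩ := hσ
      exact ⟨a, ha, ha1, fun he => hqσ ((h.sigmaCand_theta σ ha ha1).2.2.2 q hq (he.symm ▸ hd))⟩
  refine ⟨hmem, fun q hq hd => ?_, le_normalizer_iSup fun a => ?_⟩
  · obtain ⟨a, ha, ha1, hdvd⟩ := h.exists_prime_point hmem hq hd
    exact (h.sigmaCand_theta σ ha ha1).2.2.2 q hq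
      (hdvd.trans (Subgroup.card_dvd_of_le (hfix a ha ha1)))
  · have h3 := (h.sigmaCand_theta σ a.2.1 a.2.2).2.2.1
    rwa [h.theta_inf_centralizer a.2.1 a.2.2] at h3

theorem le_K {σ : Set ℕ} {X : Subgroup G} (hX : X ∈ Cfsg.signalizerFamily p A θ)
    (hCX : Cfsg.signalizerInf A θ ≤ Subgroup.normalizer (X : Set G)) (hσX : IsSigma σ X) :
    X ≤ K A θ σ := by
  obtain ⟨a, ha, ha1⟩ := h.exists_ne_one
  obtain ⟨B, hB, -, -⟩ := h.exists_plane ha ha
  refine h.le_of_points hX hB fun f hf hf1 => le_iSup_of_le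
    (f := fun a : {a : G // a ∈ A ∧ a ≠ 1} => sigmaPart σ A (θ a)) ⟨f, hB.1 hf, hf1⟩
    (le_sigmaPart ⟨hX.2.2.2 f (hB.1 hf) hf1,
      le_normalizer_inf_of_le (mem_normalizer_family hX)
        ((h.le_centralizer (hB.1 hf)).trans Subgroup.le_normalizer), ?_, hσX.of_le inf_le_left⟩)
  rw [h.theta_inf_centralizer (hB.1 hf) hf1]
  exact le_normalizer_inf_of_le hCX (h.inf_le_normalizer_centralizer' (hB.1 hf))

theorem exists_not_mem_singleton (x : ℕ) : ∃ q, InPi A θ q ∧ q ∉ ({x} : Set ℕ) :=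
  h.exists_other x

theorem Pi_mem (x : ℕ) : Pi A θ x ∈ Cfsg.signalizerFamily p A θ :=
  (h.K_spec (h.exists_not_mem_singleton x)).1

theorem Pi_isPGroup (x : ℕ) : IsPGroup x (Pi A θ x) :=
  isPGroup_of_isSigma (h.K_spec (h.exists_not_mem_singleton x)).2.1

theorem A_le_normalizer_Pi (x : ℕ) : A ≤ Subgroup.normalizer (Pi A θ x : Set G) :=
  mem_normalizer_family (h.Pi_mem x)

theorem inf_le_normalizer_Pi (x : ℕ) :
    Cfsg.signalizerInf A θ ≤ Subgroup.normalizer (Pi A θ x : Set G) :=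
  (h.K_spec (h.exists_not_mem_singleton x)).2.2

theorem le_Pi {x : ℕ} [Fact x.Prime] {X : Subgroup G} (hX : X ∈ Cfsg.signalizerFamily p A θ)
    (hCX : Cfsg.signalizerInf A θ ≤ Subgroup.normalizer (X : Set G)) (hx : IsPGroup x X) :
    X ≤ Pi A θ x :=
  h.le_K hX hCX (isSigma_of_isPGroup hx (Set.mem_singleton x))

theorem mem_family_Pi {x : ℕ} {U : Subgroup G} (hU : U ≤ Pi A θ x)
    (hA : A ≤ Subgroup.normalizer (U : Set G)) : U ∈ Cfsg.signalizerFamily p A θ :=
  mem_family_of_le (h.Pi_mem x) hU hA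

theorem pCoreOf_mem {X : Subgroup G} (hX : X ∈ Cfsg.signalizerFamily p A θ) (v : ℕ) :
    Cfsg.pCoreOf v X ∈ Cfsg.signalizerFamily p A θ :=
  mem_family_of_le hX (pCoreOf_le v X)
    (normalizer_le_normalizer_pCoreOf v (mem_normalizer_family hX))

theorem pCoreOf_le_Pi {X : Subgroup G} (hX : X ∈ Cfsg.signalizerFamily p A θ)
    (hCX : Cfsg.signalizerInf A θ ≤ Subgroup.normalizer (X : Set G)) (x : ℕ) [Fact x.Prime] :
    Cfsg.pCoreOf x X ≤ Pi A θ x :=
  h.le_Pi (h.pCoreOf_mem hX x) (normalizer_le_normalizer_pCoreOf x hCX)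
    (PReduced.isPGroup_pCoreOf x X)

theorem pCoreOf_theta_le_Pi {a : G} (ha : a ∈ A) (ha1 : a ≠ 1) (x : ℕ) [Fact x.Prime] :
    Cfsg.pCoreOf x (θ a) ≤ Pi A θ x :=
  h.pCoreOf_le_Pi (h.theta_mem ha ha1) ((h.inf_le_theta ha ha1).trans Subgroup.le_normalizer) x

end Minimal

end CfsgLib.Signalizer
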