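import Mathlib
import Cfsg.Agent.Lib.Signalizer.Setup

/-!
Universal `x`-subgroups of a minimal counterexample and the points at which they live.
-/

set_option autoImplicit false
set_option linter.style.haveILetI false
set_option linter.unusedSectionVars false

open Pointwise
open CfsgLib.Coprime

namespace CfsgLib.Signalizer

variable {G : Type*} [Group G]

/-- An invariant subgroup of `Pi x` with all its fixed points in the cores `O_x(θ b)`. -/
def Universal (A : Subgroup G) (θ : G → Subgroup G) (x : ℕ) (U : Subgroup G) : Prop :=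
  U ≤ Pi A θ x ∧ A ≤ Subgroup.normalizer (U : Set G) ∧
    Cfsg.signalizerInf A θ ≤ Subgroup.normalizer (U : Set G) ∧
      ∀ b ∈ A, b ≠ 1 → U ⊓ Subgroup.centralizer ({b} : Set G) ≤ Cfsg.pCoreOf x (θ b)

/-- The largest universal subgroup. -/
def Lam (A : Subgroup G) (θ : G → Subgroup G) (x : ℕ) : Subgroup G :=
  sSup {U | Universal A θ x U}

/-- A member containing `θ(A)` with nontrivial `O_x`, and containing every member normalizing it. -/
def Closed (p : ℕ) (A : Subgroup G) (θ : G → Subgroup G) (x : ℕ) (X : Subgroup G) : Prop :=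
  X ∈ Cfsg.signalizerFamily p A θ ∧ Cfsg.signalizerInf A θ ≤ X ∧ Cfsg.pCoreOf x X ≠ ⊥ ∧
    ∀ Z ∈ Cfsg.signalizerFamily p A θ,
      Z ≤ Subgroup.normalizer (Cfsg.pCoreOf x X : Set G) → Z ≤ X

/-- `θ(a)` lies in a member with nontrivial `O_x`. -/
def Good (p : ℕ) (A : Subgroup G) (θ : G → Subgroup G) (x : ℕ) (a : G) : Prop :=
  ∃ X ∈ Cfsg.signalizerFamily p A θ, θ a ≤ X ∧ Cfsg.pCoreOf x X ≠ ⊥

theorem pCoreOf_ne_bot {x : ℕ} {V X : Subgroup G} (hVX : V ≤ X)
    (hn : X ≤ Subgroup.normalizer (V : Set G)) (hx : IsPGroup x V) (hV : V ≠ ⊥) :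
    Cfsg.pCoreOf x X ≠ ⊥ :=
  fun h => hV (le_bot_iff.mp (h ▸ PReduced.le_pCoreOf hVX hn hx))

theorem conj_mem_of_comm_conj {t a u : G} (h : a * t = t * a) :
    t * (a * u * a⁻¹) * t⁻¹ = a * (t * u * t⁻¹) * a⁻¹ := by
  rw [show t * (a * u * a⁻¹) * t⁻¹ = t * a * u * (t * a)⁻¹ by group, ← h]
  group

/-- A join of fixed-point-free subgroups of an abelian group is fixed-point-free. -/
theorem inf_centralizer_iSup_eq_bot [Finite G] {p : ℕ} [hp : Fact p.Prime] {k : G}
    (hk : k ^ p = 1) {ι : Type*} [Finite ι] {S : ι → Subgroup G} {Z : Subgroup G}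
    [IsMulCommutative Z] (hSZ : ∀ i, S i ≤ Z) (hpZ : ¬ p ∣ Nat.card Z)
    (hkS : ∀ i, k ∈ Subgroup.normalizer (S i : Set G))
    (h : ∀ i, S i ⊓ Subgroup.centralizer ({k} : Set G) = ⊥) :
    (⨆ i, S i) ⊓ Subgroup.centralizer ({k} : Set G) = ⊥ := by
  classical
  haveI := Fintype.ofFinite ι
  suffices ∀ s : Finset ι, s.sup S ⊓ Subgroup.centralizer ({k} : Set G) = ⊥ by
    have h1 := this Finset.univ
    rwa [Finset.sup_univ_eq_iSup] at h1
  intro s
  induction s using Finset.induction_on with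
  | empty => simp
  | insert i s his ih =>
    rw [Finset.sup_insert, eq_bot_iff]
    have hle : s.sup S ≤ Z := Finset.sup_le fun j _ => hSZ j
    set K := Subgroup.zpowers k with hK
    have hKS : ∀ j, K ≤ Subgroup.normalizer (S j : Set G) := fun j =>
      Subgroup.zpowers_le.mpr (hkS j)
    have hKs : K ≤ Subgroup.normalizer ((s.sup S : Subgroup G) : Set G) := by
      rw [Finset.sup_eq_iSup]
      exact le_normalizer_iSup fun j => le_normalizer_iSup fun _ => hKS j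
    have hC : Subgroup.centralizer ({k} : Set G) = Subgroup.centralizer (K : Set G) :=
      le_antisymm (fun x hx => mem_centralizer_singleton_zpowers hx)
        (Subgroup.centralizer_le (by simp [hK]))
    have hnorm : s.sup S ≤ Subgroup.normalizer (S i : Set G) :=
      le_normalizer_of_forall fun u hu v hv => by
        have : u * v = v * u := congrArg Subtype.val (mul_comm' (⟨u, hle hu⟩ : Z) ⟨v, hSZ i hv⟩)
        rw [this, mul_inv_cancel_right]
        exact hv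
    rw [hC] at h ih ⊢
    refine (inf_centralizer_le_sup (hKS i) hKs hnorm ?_
      (Or.inl (Group.isSolvable_of_comm fun u v => mul_comm' u v))).trans ?_
    · rw [hK, Nat.card_zpowers]
      exact ((Nat.Prime.coprime_iff_not_dvd hp.out).mpr fun hd =>
        hpZ (hd.trans (Subgroup.card_dvd_of_le (hSZ i)))).coprime_dvd_left
          (orderOf_dvd_of_pow_eq_one hk)
    · rw [h i, ih, bot_sup_eq]

variable [Finite G] {p : ℕ} [hp : Fact p.Prime] {A : Subgroup G} {θ : G → Subgroup G}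
  {x : ℕ} [hx : Fact x.Prime]

namespace Minimal

variable (h : Minimal p A θ)
include h

theorem le_inf_of_le {B : Subgroup G} (hB : B ≤ A) :
    Cfsg.signalizerInf A θ ≤ Cfsg.signalizerInf B θ :=
  le_iInf fun b => h.inf_le_theta (hB b.2.1) b.2.2

/-! #### The transfer lemma -/

theorem inf_le_pCoreOf_of_conj {X S : Subgroup G} (hX : X ∈ Cfsg.signalizerFamily p A θ)
    (hS : S ≤ Pi A θ x)
    (hd : ∀ v : ℕ, v.Prime → v ≠ x → ∀ B, IsPlane p A B → ∀ d ∈ coreTwo x v X,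
      d ∈ Subgroup.centralizer (B : Set G) → ∀ s ∈ S, d * s * d⁻¹ ∈ Pi A θ x) :
    S ⊓ X ≤ Cfsg.pCoreOf x X := by
  refine le_pCoreOf_of_coreTwo hX.1 inf_le_right ((h.Pi_isPGroup x).to_le (inf_le_left.trans hS))
    fun v hv hvx => ?_
  haveI := Fact.mk hv
  set D := Cfsg.pCoreOf x X with hD
  let Y : Subgroup G :=
    { carrier := {d | d ∈ X ∧ ∀ u ∈ S ⊓ X, d * u * d⁻¹ * u⁻¹ ∈ D}
      one_mem' := ⟨one_mem _, fun u _ => by simp⟩
      mul_mem' := fun {d e} hd he => ⟨mul_mem hd.1 he.1, fun u hu => by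
        have h1 := mul_mem (forall_of_le_normalizer (le_normalizer_core x X) d hd.1 _ (he.2 u hu))
          (hd.2 u hu)
        simpa [mul_assoc] using h1⟩
      inv_mem' := fun {d} hd => ⟨inv_mem hd.1, fun u hu => by
        have h1 := inv_mem
          (forall_of_le_normalizer (le_normalizer_core x X) _ (inv_mem hd.1) _ (hd.2 u hu))
        simpa [mul_assoc] using h1⟩ }
  have hle : coreTwo x v X ≤ Y := by
    refine h.le_of_planes (mem_family_of_le hX (coreTwo_le x v X)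
      (normalizer_le_normalizer_coreTwo x v (mem_normalizer_family hX))) fun B hB d hd' => ?_
    obtain ⟨hdc, hdB⟩ := Subgroup.mem_inf.mp hd'
    refine ⟨coreTwo_le x v X hdc, fun u hu => ?_⟩
    obtain ⟨huS, huX⟩ := Subgroup.mem_inf.mp hu
    refine mem_pCoreOf_of_mem_coreTwo hvx.symm (h.Pi_isPGroup x) ?_
      (mul_mem (hd v hv hvx B hB d hdc hdB u huS) (inv_mem (hS huS)))
    have h1 := mul_mem hdc (forall_of_le_normalizer
      (normalizer_le_normalizer_coreTwo x v Subgroup.le_normalizer) u huX _ (inv_mem hdc))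
    simpa [mul_assoc] using h1
  exact fun d hd' => (hle hd').2

/-- An invariant subgroup with all conjugates under the values on a plane in `Pi x` is universal. -/
theorem universal_of_plane {U : Subgroup G} (hU : U ≤ Pi A θ x)
    (hA : A ≤ Subgroup.normalizer (U : Set G))
    (hC : Cfsg.signalizerInf A θ ≤ Subgroup.normalizer (U : Set G)) {K : Subgroup G}
    (hK : IsPlane p A K)
    (hc : ∀ f ∈ K, f ≠ 1 → ∀ d ∈ θ f, ∀ u ∈ U, d * u * d⁻¹ ∈ Pi A θ x) :
    Universal A θ x U := by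
  refine ⟨hU, hA, hC, fun b hb hb1 => le_trans (le_inf inf_le_left ?_)
    (h.inf_le_pCoreOf_of_conj (h.theta_mem hb hb1) hU fun v _ _ B hB d hd hdB u hu => ?_)⟩
  · exact (inf_le_inf_right _ hU).trans ((h.Pi_mem x).2.2.2 b hb hb1)
  · obtain ⟨f, hf1, hfB, hfK⟩ := h.exists_mem_inter hB hK
    exact hc f hfK hf1 d (h.solv.1.2.2.2 b hb hb1 f (hB.1 hfB) hf1
      ⟨coreTwo_le x v _ hd, Subgroup.centralizer_le (by simpa using hfB) hdB⟩) u hu

theorem conj_mem_of_universal {U : Subgroup G} (hU : Universal A θ x U) {X : Subgroup G}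
    (hX : X ∈ Cfsg.signalizerFamily p A θ) {B : Subgroup G} (hB : IsPlane p A B) {d : G}
    (hdX : d ∈ X) (hdB : d ∈ Subgroup.centralizer (B : Set G)) {u : G} (hu : u ∈ U) :
    d * u * d⁻¹ ∈ Pi A θ x := by
  have hle : U ≤ (Pi A θ x).comap (MulAut.conj d).toMonoidHom := by
    refine h.le_of_planes (h.mem_family_Pi hU.1 hU.2.1) fun B' hB' v hv => ?_
    obtain ⟨hvU, hvB⟩ := Subgroup.mem_inf.mp hv
    obtain ⟨f, hf1, hfB, hfB'⟩ := h.exists_mem_inter hB hB'
    have hfA := hB.1 hfB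
    have h1 : v ∈ Cfsg.pCoreOf x (θ f) := hU.2.2.2 f hfA hf1
      ⟨hvU, Subgroup.centralizer_le (by simpa using hfB') hvB⟩
    have h2 : d ∈ θ f := hX.2.2.2 f hfA hf1
      ⟨hdX, Subgroup.centralizer_le (by simpa using hfB) hdB⟩
    exact h.pCoreOf_theta_le_Pi hfA hf1 x
      (forall_of_le_normalizer (le_normalizer_core x (θ f)) d h2 v h1)
  exact hle hu

theorem Lam_le_Pi : Lam A θ x ≤ Pi A θ x := sSup_le fun _ hU => hU.1

theorem le_Lam {U : Subgroup G} (hU : Universal A θ x U) : U ≤ Lam A θ x := le_sSup hU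

theorem A_le_normalizer_Lam : A ≤ Subgroup.normalizer (Lam A θ x : Set G) :=
  le_normalizer_sSup fun _ hU => hU.2.1

theorem inf_le_normalizer_Lam :
    Cfsg.signalizerInf A θ ≤ Subgroup.normalizer (Lam A θ x : Set G) :=
  le_normalizer_sSup fun _ hU => hU.2.2.1

theorem Lam_mem : Lam A θ x ∈ Cfsg.signalizerFamily p A θ :=
  h.mem_family_Pi h.Lam_le_Pi h.A_le_normalizer_Lam

theorem conj_Lam_mem {X : Subgroup G} (hX : X ∈ Cfsg.signalizerFamily p A θ) {B : Subgroup G}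
    (hB : IsPlane p A B) {d : G} (hdX : d ∈ X) (hdB : d ∈ Subgroup.centralizer (B : Set G))
    {u : G} (hu : u ∈ Lam A θ x) : d * u * d⁻¹ ∈ Pi A θ x := by
  have hle : Lam A θ x ≤ (Pi A θ x).comap (MulAut.conj d).toMonoidHom :=
    sSup_le fun U hU v hv => h.conj_mem_of_universal hU hX hB hdX hdB hv
  exact hle hu

/-- The universal subgroup meets each member in its `O_x`. -/
theorem Lam_inf_le {X : Subgroup G} (hX : X ∈ Cfsg.signalizerFamily p A θ) :
    Lam A θ x ⊓ X ≤ Cfsg.pCoreOf x X :=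
  h.inf_le_pCoreOf_of_conj hX h.Lam_le_Pi fun v _ _ _ hB _ hd hdB _ hs =>
    h.conj_Lam_mem hX hB (coreTwo_le x v X hd) hdB hs

theorem universal_Lam : Universal A θ x (Lam A θ x) :=
  ⟨h.Lam_le_Pi, h.A_le_normalizer_Lam, h.inf_le_normalizer_Lam, fun b hb hb1 =>
    (le_inf inf_le_left (h.Lam_mem.2.2.2 b hb hb1)).trans (h.Lam_inf_le (h.theta_mem hb hb1))⟩

/-! #### Closed members -/

theorem exists_closed {X : Subgroup G} (hX : X ∈ Cfsg.signalizerFamily p A θ)
    (hC : Cfsg.signalizerInf A θ ≤ X) (hO : Cfsg.pCoreOf x X ≠ ⊥) :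
    ∃ Y, Closed p A θ x Y ∧ X ≤ Y := by
  obtain ⟨Y, hXY, hY⟩ := Finite.exists_le_maximal
    (p := fun Y : Subgroup G => Y ∈ Cfsg.signalizerFamily p A θ ∧ Cfsg.pCoreOf x Y ≠ ⊥)
    (a := X) ⟨hX, hO⟩
  obtain ⟨hYm, hYO⟩ := hY.prop
  refine ⟨Y, ⟨hYm, hC.trans hXY, hYO, fun Z hZ hZn => ?_⟩, hXY⟩
  set D := Cfsg.pCoreOf x Y with hD
  have hm := h.normMember_mem (h.pCoreOf_mem hYm x) hYO
  have hle : Y ≤ normMember A θ D := h.le_normMember hYm (le_normalizer_core x Y)
  exact (h.le_normMember hZ hZn).trans (hY.2 ⟨hm, pCoreOf_ne_bot ((pCoreOf_le x Y).trans hle)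
    (normMember_le D) (PReduced.isPGroup_pCoreOf x Y) hYO⟩ hle)

theorem Closed.pCoreOf_le_Pi {X : Subgroup G} (hX : Closed p A θ x X) :
    Cfsg.pCoreOf x X ≤ Pi A θ x :=
  h.pCoreOf_le_Pi hX.1 (hX.2.1.trans Subgroup.le_normalizer) x

/-- An invariant subgroup of `Pi x` meeting a closed member in its `O_x` lies in that `O_x`. -/
theorem le_pCoreOf_of_closed {X S : Subgroup G} (hX : Closed p A θ x X) (hS : S ≤ Pi A θ x)
    (hA : A ≤ Subgroup.normalizer (S : Set G)) (hDS : Cfsg.pCoreOf x X ≤ S)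
    (hi : S ⊓ X ≤ Cfsg.pCoreOf x X) : S ≤ Cfsg.pCoreOf x X := by
  by_contra hne
  refine exists_normalizer_not_le ((h.Pi_isPGroup x).to_le hS) hDS hne ?_
  refine le_trans (le_inf inf_le_right ?_) hi
  refine hX.2.2.2 _ (h.mem_family_Pi (inf_le_right.trans hS) ?_) inf_le_left
  exact le_normalizer_inf_of_le ((normalizer_le_normalizer_pCoreOf x
    (mem_normalizer_family hX.1)).trans Subgroup.le_normalizer) hA

theorem Lam_le_of_closed {X : Subgroup G} (hX : Closed p A θ x X) :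
    Lam A θ x ≤ Cfsg.pCoreOf x X := by
  set D := Cfsg.pCoreOf x X with hD
  have hS : Lam A θ x ⊔ D ≤ Pi A θ x := sup_le h.Lam_le_Pi (Closed.pCoreOf_le_Pi h hX)
  refine le_sup_left.trans (h.le_pCoreOf_of_closed hX hS (le_normalizer_sup_of_le
    h.A_le_normalizer_Lam (normalizer_le_normalizer_pCoreOf x (mem_normalizer_family hX.1)))
    le_sup_right ?_)
  refine h.inf_le_pCoreOf_of_conj hX.1 hS fun v _ _ B hB d hd hdB => ?_
  have hle : Lam A θ x ⊔ D ≤ (Pi A θ x).comap (MulAut.conj d).toMonoidHom :=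
    sup_le (fun u hu => h.conj_Lam_mem hX.1 hB (coreTwo_le x v X hd) hdB hu)
      fun u hu => Closed.pCoreOf_le_Pi h hX
        (forall_of_le_normalizer (le_normalizer_core x X) d (coreTwo_le x v X hd) u hu)
  exact fun s hs => hle hs

theorem exists_closed_of_good {a : G} (ha : a ∈ A) (ha1 : a ≠ 1) (hg : Good p A θ x a) :
    ∃ X, Closed p A θ x X ∧ θ a ≤ X ∧ Lam A θ x ≤ Cfsg.pCoreOf x X := by
  obtain ⟨X, hX, haX, hO⟩ := hg
  obtain ⟨Y, hY, hXY⟩ := h.exists_closed hX ((h.inf_le_theta ha ha1).trans haX) hO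
  exact ⟨Y, hY, haX.trans hXY, h.Lam_le_of_closed hY⟩

theorem conj_Lam_mem_of_good {a : G} (ha : a ∈ A) (ha1 : a ≠ 1) (hg : Good p A θ x a) {t : G}
    (ht : t ∈ θ a) {u : G} (hu : u ∈ Lam A θ x) : t * u * t⁻¹ ∈ Pi A θ x := by
  obtain ⟨X, hX, haX, hle⟩ := h.exists_closed_of_good ha ha1 hg
  exact Closed.pCoreOf_le_Pi h hX (forall_of_le_normalizer (le_normalizer_core x X) t (haX ht) u (hle hu))

/-! #### Good and bad points -/

theorem pCoreOf_theta_of_bad {a : G} (ha : a ∈ A) (ha1 : a ≠ 1) (hb : ¬ Good p A θ x a) :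
    Cfsg.pCoreOf x (θ a) = ⊥ := by
  by_contra hne
  exact hb ⟨θ a, h.theta_mem ha ha1, le_rfl, hne⟩

theorem Lam_inf_centralizer_of_bad {a : G} (ha : a ∈ A) (ha1 : a ≠ 1) (hb : ¬ Good p A θ x a) :
    Lam A θ x ⊓ Subgroup.centralizer ({a} : Set G) = ⊥ :=
  le_bot_iff.mp ((h.universal_Lam.2.2.2 a ha ha1).trans (h.pCoreOf_theta_of_bad ha ha1 hb).le)

theorem le_pCoreOf_normMember {V : Subgroup G} (hV : V ∈ Cfsg.signalizerFamily p A θ)
    (hx : IsPGroup x V) : V ≤ Cfsg.pCoreOf x (normMember A θ V) :=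
  PReduced.le_pCoreOf (h.le_normMember hV Subgroup.le_normalizer) (normMember_le V) hx

theorem good_of_normalizes {a : G} (ha : a ∈ A) (ha1 : a ≠ 1) {V : Subgroup G}
    (hV : V ∈ Cfsg.signalizerFamily p A θ) (hV1 : V ≠ ⊥) (hVx : IsPGroup x V)
    (hn : θ a ≤ Subgroup.normalizer (V : Set G)) : Good p A θ x a :=
  ⟨_, h.normMember_mem hV hV1, h.le_normMember (h.theta_mem ha ha1) hn,
    fun he => hV1 (le_bot_iff.mp ((h.le_pCoreOf_normMember hV hVx).trans he.le))⟩

theorem Lam_isPGroup : IsPGroup x (Lam A θ x) := (h.Pi_isPGroup x).to_le h.Lam_le_Pi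

theorem theta_ne_bot_of_bad (hL : Lam A θ x ≠ ⊥) {a : G} (ha : a ∈ A) (ha1 : a ≠ 1)
    (hb : ¬ Good p A θ x a) : θ a ≠ ⊥ := fun he =>
  hb (h.good_of_normalizes ha ha1 h.Lam_mem hL h.Lam_isPGroup (he ▸ bot_le))

theorem exists_good_of_plane (hL : Lam A θ x ≠ ⊥) {B : Subgroup G} (hB : IsPlane p A B) :
    ∃ f ∈ B, f ≠ 1 ∧ Good p A θ x f := by
  obtain ⟨f, hf, hf1, hne⟩ := h.exists_point h.Lam_mem hL hB
  refine ⟨f, hf, hf1, ?_⟩
  by_contra hb
  exact hne (h.Lam_inf_centralizer_of_bad (hB.1 hf) hf1 hb)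

/-- `θ(B)` normalizes the universal subgroup when all points of the plane `B` are good. -/
theorem le_normalizer_Lam_of_all_good {B : Subgroup G} (hB : IsPlane p A B)
    (hg : ∀ f ∈ B, f ≠ 1 → Good p A θ x f) :
    Cfsg.signalizerInf B θ ≤ Subgroup.normalizer (Lam A θ x : Set G) := by
  set T := Cfsg.signalizerInf B θ with hT
  set W := conjClosure (Lam A θ x) T with hW
  have hTm := signalizerInf_mem_family h.solv h.elem hB.1 (h.plane_ne_bot hB)
  have hWX : ∀ f ∈ B, f ≠ 1 → ∀ d ∈ θ f, ∀ u ∈ W, d * u * d⁻¹ ∈ Pi A θ x := by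
    intro f hf hf1 d hd u hu
    obtain ⟨X, hX, hfX, hle⟩ := h.exists_closed_of_good (hB.1 hf) hf1 (hg f hf hf1)
    have hu' : u ∈ Cfsg.pCoreOf x X := by
      refine (conjClosure_le_iff.mpr fun t ht s hs => ?_ : W ≤ _) hu
      exact forall_of_le_normalizer (le_normalizer_core x X) t (hfX
        (iInf_le (fun c : {c : G // c ∈ B ∧ c ≠ 1} => θ c) ⟨f, hf, hf1⟩ ht)) s (hle hs)
    exact Closed.pCoreOf_le_Pi h hX (forall_of_le_normalizer (le_normalizer_core x X) d (hfX hd) u hu')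
  have hU : Universal A θ x W := by
    refine h.universal_of_plane ?_ (le_normalizer_conjClosure (mem_normalizer_family hTm)
      h.A_le_normalizer_Lam) (le_normalizer_conjClosure
        ((h.le_inf_of_le hB.1).trans Subgroup.le_normalizer) h.inf_le_normalizer_Lam) hB hWX
    obtain ⟨f, hf, hf1⟩ := exists_ne_one_of_ne_bot (h.plane_ne_bot hB)
    intro u hu
    simpa using hWX f hf hf1 1 (one_mem _) u hu
  exact le_normalizer_of_forall fun t ht s hs => h.le_Lam hU (conj_mem_conjClosure ht hs)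

theorem exists_bad (hL : Lam A θ x ≠ ⊥) : ∃ a ∈ A, a ≠ 1 ∧ ¬ Good p A θ x a := by
  by_contra hc
  push Not at hc
  obtain ⟨a, ha, ha1, hn⟩ := h.not_normal _ h.Lam_mem hL
  exact hn (h.le_of_planes (h.theta_mem ha ha1) fun B hB =>
    (inf_centralizer_le_signalizerInf (h.theta_mem ha ha1) hB.1).trans
      (h.le_normalizer_Lam_of_all_good hB fun f hf hf1 => hc f (hB.1 hf) hf1))

end Minimal

end CfsgLib.Signalizer
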