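import Mathlib
import Cfsg.Agent.Lib.Signalizer.Universal

/-!
Tools for the case analysis: central subgroups, `{x, v}`-sections, and climbing along a derived
series by fixed points of planes.
-/

set_option autoImplicit false
set_option linter.style.haveILetI false
set_option linter.unusedSectionVars false

open Pointwise
open CfsgLib.Coprime

namespace CfsgLib.Signalizer

variable {G : Type*} [Group G]

theorem le_normalizer_of_isMulCommutative {Z U V : Subgroup G} [IsMulCommutative Z] (hU : U ≤ Z)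
    (hV : V ≤ Z) : U ≤ Subgroup.normalizer (V : Set G) :=
  le_normalizer_of_forall fun u hu v hv => by
    have : u * v = v * u := congrArg Subtype.val (mul_comm' (⟨u, hU hu⟩ : Z) ⟨v, hV hv⟩)
    rw [this, mul_inv_cancel_right]
    exact hv

/-- A nontrivial subgroup normalised by the `v`-group `P` containing it meets its centre. -/
theorem inf_centralizer_ne_bot [Finite G] {v : ℕ} [Fact v.Prime] {P N : Subgroup G}
    (hP : IsPGroup v P) (hNP : N ≤ P) (hn : P ≤ Subgroup.normalizer (N : Set G)) (hN : N ≠ ⊥) :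
    N ⊓ Subgroup.centralizer (P : Set G) ≠ ⊥ := by
  obtain ⟨U, hUN, hU⟩ := Finite.exists_le_minimal
    (p := fun U : Subgroup G => U ≤ N ∧ U ≠ ⊥ ∧ P ≤ Subgroup.normalizer (U : Set G))
    (a := N) ⟨le_rfl, hN, hn⟩
  haveI := hP.isNilpotent
  have hlt := commutator_lt_of_isNilpotent (X := P) (hUN.trans hNP) le_rfl hU.prop.2.2 hU.prop.2.1
  have hbot : ⁅U, P⁆ = ⊥ := by
    by_contra hne
    exact hlt.ne (le_antisymm hlt.le (hU.2 ⟨hlt.le.trans hUN, hne,
      le_normalizer_commutator hU.prop.2.2 Subgroup.le_normalizer⟩ hlt.le))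
  intro he
  exact hU.prop.2.1 (le_bot_iff.mp (he ▸
    le_inf hUN (Subgroup.commutator_eq_bot_iff_le_centralizer.mp hbot)))

theorem isSigma_coreTwo [Finite G] {x v : ℕ} [hx : Fact x.Prime] [hv : Fact v.Prime]
    {σ : Set ℕ} (hxσ : x ∈ σ) (hvσ : v ∈ σ) (X : Subgroup G) : IsSigma σ (coreTwo x v X) := by
  intro q hq hd
  rw [← card_bar_mul ((coreTwo_le x v X).trans (le_normalizer_core x X))] at hd
  rcases hq.dvd_mul.mp hd with hd | hd
  · rw [bar_coreTwo] at hd
    exact isSigma_of_isPGroup (PReduced.isPGroup_pCoreOf v _) hvσ q hq hd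
  · exact isSigma_of_isPGroup ((PReduced.isPGroup_pCoreOf x X).to_le inf_le_left) hxσ q hq hd

variable [Finite G] {p : ℕ} [hp : Fact p.Prime] {A : Subgroup G} {θ : G → Subgroup G}

namespace Minimal

variable (h : Minimal p A θ)
include h

theorem pCoreOf_le_K {σ : Set ℕ} {X : Subgroup G} (hX : X ∈ Cfsg.signalizerFamily p A θ)
    (hCX : Cfsg.signalizerInf A θ ≤ Subgroup.normalizer (X : Set G)) {v : ℕ} [Fact v.Prime]
    (hv : v ∈ σ) : Cfsg.pCoreOf v X ≤ K A θ σ :=
  h.le_K (h.pCoreOf_mem hX v) (normalizer_le_normalizer_pCoreOf v hCX)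
    (isSigma_of_isPGroup (PReduced.isPGroup_pCoreOf v X) hv)

theorem Pi_le_K {σ : Set ℕ} {v : ℕ} [Fact v.Prime] (hv : v ∈ σ) : Pi A θ v ≤ K A θ σ :=
  h.le_K (h.Pi_mem v) (h.inf_le_normalizer_Pi v) (isSigma_of_isPGroup (h.Pi_isPGroup v) hv)

theorem inf_K_le_Pi {σ τ : Set ℕ} {x : ℕ} [Fact x.Prime] (hσ : ∃ q, InPi A θ q ∧ q ∉ σ)
    (hτ : ∃ q, InPi A θ q ∧ q ∉ τ) (hst : ∀ q, q ∈ σ → q ∈ τ → q = x) :
    K A θ σ ⊓ K A θ τ ≤ Pi A θ x := by
  obtain ⟨h1, h2, h3⟩ := h.K_spec hσ
  obtain ⟨k1, k2, k3⟩ := h.K_spec hτ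
  exact h.le_K (mem_family_of_le h1 inf_le_left
      (le_normalizer_inf_of_le (mem_normalizer_family h1) (mem_normalizer_family k1)))
    (le_normalizer_inf_of_le h3 k3) fun q hq hd => hst q
      (h2 q hq (hd.trans (Subgroup.card_dvd_of_le inf_le_left)))
      (k2 q hq (hd.trans (Subgroup.card_dvd_of_le inf_le_right)))

theorem coreTwo_le_K {σ : Set ℕ} {X : Subgroup G} (hX : X ∈ Cfsg.signalizerFamily p A θ)
    (hCX : Cfsg.signalizerInf A θ ≤ Subgroup.normalizer (X : Set G)) {x v : ℕ} [Fact x.Prime]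
    [Fact v.Prime] (hx : x ∈ σ) (hv : v ∈ σ) : coreTwo x v X ≤ K A θ σ :=
  h.le_K (mem_family_of_le hX (coreTwo_le x v X)
      (normalizer_le_normalizer_coreTwo x v (mem_normalizer_family hX)))
    (normalizer_le_normalizer_coreTwo x v hCX) (isSigma_coreTwo hx hv X)

/-- Every plane section of `M ≤ C(a)` sits in a plane through `a`. -/
theorem exists_plane_through {a : G} (ha : a ∈ A) {B : Subgroup G} (hB : IsPlane p A B) :
    ∃ K, IsPlane p A K ∧ a ∈ K ∧ Subgroup.centralizer ({a} : Set G) ⊓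
      Subgroup.centralizer (B : Set G) ≤ Subgroup.centralizer (K : Set G) := by
  by_cases haB : a ∈ B
  · exact ⟨B, hB, haB, inf_le_right⟩
  · obtain ⟨K, hK, haK, -⟩ := h.exists_plane ha ha
    exact ⟨K, hK, haK, fun x hx => Subgroup.centralizer_le hK.1
      (h.mem_centralizer_of_plane hB ha haB hx.2 hx.1)⟩

/-- Induction along the derived series of `L ≤ C(a)`, one plane section at a time. -/
theorem climb {a : G} (ha : a ∈ A) {L : Subgroup G} (hL : L ∈ Cfsg.signalizerFamily p A θ)
    (hLa : L ≤ Subgroup.centralizer ({a} : Set G)) (hCL : Cfsg.signalizerInf A θ ≤ L)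
    {P : Subgroup G → Prop} (hbot : P ⊥)
    (hstep : ∀ N T K : Subgroup G, IsPlane p A K → a ∈ K → N ≤ L → T ≤ L →
      T ≤ Subgroup.centralizer (K : Set G) → A ≤ Subgroup.normalizer (N : Set G) →
      Cfsg.signalizerInf A θ ≤ Subgroup.normalizer (N : Set G) →
      A ≤ Subgroup.normalizer (T : Set G) →
      Cfsg.signalizerInf A θ ≤ Subgroup.normalizer (T : Set G) →
      T ≤ Subgroup.normalizer (N : Set G) → P N → P (N ⊔ T)) : P L := by
  haveI := hL.1
  obtain ⟨n, hn⟩ := Group.IsSolvable.solvable (G := L)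
  set D : ℕ → Subgroup G := fun k => (derivedSeries L k).map L.subtype with hD
  have hDL : ∀ k, D k ≤ L := fun k => Subgroup.map_subtype_le _
  have hnorm : ∀ (k : ℕ) {R : Subgroup G}, R ≤ Subgroup.normalizer (L : Set G) →
      R ≤ Subgroup.normalizer (D k : Set G) := fun k R hR => by
    haveI : (derivedSeries L k).Characteristic := by
      induction k with
      | zero => exact inferInstanceAs (⊤ : Subgroup L).Characteristic
      | succ k ih => exact Subgroup.commutator_characteristic _ _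
    exact PSolvable.le_normalizer_map_of_characteristic hR _
  suffices ∀ j, j ≤ n → P (D (n - j)) by
    have h1 := this n le_rfl
    simp only [hD, Nat.sub_self] at h1
    rwa [show (derivedSeries L 0).map L.subtype = L by
      rw [derivedSeries_zero, ← MonoidHom.range_eq_map, Subgroup.range_subtype]] at h1
  intro j hj
  induction j with
  | zero =>
    rw [Nat.sub_zero, hD]
    simp only [hn, Subgroup.map_bot]
    exact hbot
  | succ j ih =>
    set k := n - (j + 1) with hk
    have hk1 : n - j = k + 1 := by omega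
    have hcomm : ⁅D k, D k⁆ = D (k + 1) := by
      simp only [hD, derivedSeries_succ, Subgroup.map_commutator]
    obtain ⟨N, hle, hN⟩ := Finite.exists_le_maximal
      (p := fun N : Subgroup G => D (k + 1) ≤ N ∧ N ≤ D k ∧ A ≤ Subgroup.normalizer (N : Set G) ∧
        Cfsg.signalizerInf A θ ≤ Subgroup.normalizer (N : Set G) ∧ P N)
      (a := D (k + 1)) ⟨le_rfl, hcomm ▸ Subgroup.commutator_le_self _,
        hnorm _ (mem_normalizer_family hL), hnorm _ (hCL.trans Subgroup.le_normalizer),
        hk1 ▸ ih (by omega)⟩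
    obtain ⟨h1, h2, h3, h4, h5⟩ := hN.prop
    suffices D k ≤ N from le_antisymm this h2 ▸ h5
    refine h.le_of_planes (mem_family_of_le hL (hDL k) (hnorm k (mem_normalizer_family hL)))
      fun B hB => ?_
    obtain ⟨K, hK, haK, hle'⟩ := h.exists_plane_through ha hB
    set T := D k ⊓ Subgroup.centralizer (K : Set G) with hT
    have hTA : A ≤ Subgroup.normalizer (T : Set G) :=
      le_normalizer_inf_of_le (hnorm k (mem_normalizer_family hL))
        (h.le_normalizer_centralizer hK.1)
    have hTC : Cfsg.signalizerInf A θ ≤ Subgroup.normalizer (T : Set G) :=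
      le_normalizer_inf_of_le (hnorm k (hCL.trans Subgroup.le_normalizer))
        (h.inf_le_normalizer_centralizer hK.1)
    have hTN : T ≤ Subgroup.normalizer (N : Set G) := le_normalizer_of_forall fun t ht u hu => by
      have h6 : t * u * t⁻¹ * u⁻¹ ∈ D (k + 1) := by
        rw [← hcomm, ← commutatorElement_def]
        exact Subgroup.commutator_mem_commutator ht.1 (h2 hu)
      simpa using mul_mem (h1 h6) hu
    have h7 : P (N ⊔ T) := hstep N T K hK haK (h2.trans (hDL k)) (inf_le_left.trans (hDL k))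
      inf_le_right h3 h4 hTA hTC hTN h5
    have h8 : N ⊔ T ≤ N := hN.2 ⟨h1.trans le_sup_left, sup_le h2 inf_le_left,
      le_normalizer_sup_of_le h3 hTA, le_normalizer_sup_of_le h4 hTC, h7⟩ le_sup_left
    refine le_trans (fun z hz => ?_) (le_sup_right.trans h8)
    obtain ⟨hzD, hzB⟩ := Subgroup.mem_inf.mp hz
    exact ⟨hzD, hle' ⟨hLa (hDL k hzD), hzB⟩⟩

/-- Elements of `N ⊔ T` are products when `T` normalises `N`. -/
theorem exists_mul_eq {N T : Subgroup G} (hTN : T ≤ Subgroup.normalizer (N : Set G)) {g : G}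
    (hg : g ∈ N ⊔ T) : ∃ n ∈ N, ∃ t ∈ T, n * t = g := by
  rw [← SetLike.mem_coe, Subgroup.coe_mul_of_right_le_normalizer_left N T hTN, Set.mem_mul] at hg
  exact hg

end Minimal

end CfsgLib.Signalizer
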