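import Mathlib
import Cfsg.Agent.Lib.Signalizer.Tools

/-!
A minimal counterexample involves exactly two primes: the case of at least three primes.
-/

set_option autoImplicit false
set_option linter.style.haveILetI false
set_option linter.unusedSectionVars false

open Pointwise
open CfsgLib.Coprime

namespace CfsgLib.Signalizer

theorem le_normalizer_conjClosure_self {G : Type*} [Group G] (S T : Subgroup G) :
    T ≤ Subgroup.normalizer (conjClosure S T : Set G) := by
  refine le_normalizer_of_forall fun r hr u hu => ?_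
  have h : conjClosure S T ≤ (conjClosure S T).comap (MulAut.conj r).toMonoidHom :=
    conjClosure_le_iff.mpr fun t ht s hs => by
      show r * (t * s * t⁻¹) * r⁻¹ ∈ conjClosure S T
      have := conj_mem_conjClosure (mul_mem hr ht) hs
      simpa [mul_assoc] using this
  exact h hu

variable {G : Type*} [Group G] [Finite G] {p : ℕ} [hp : Fact p.Prime] {A : Subgroup G}
  {θ : G → Subgroup G}

/-- There are at least three primes. -/
def ThreePrimes (A : Subgroup G) (θ : G → Subgroup G) : Prop :=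
  ∀ x y : ℕ, ∃ q, InPi A θ q ∧ q ≠ x ∧ q ≠ y

namespace Minimal

variable (h : Minimal p A θ)
include h

theorem pair_ne_pi (h3 : ThreePrimes A θ) (x y : ℕ) :
    ∃ q, InPi A θ q ∧ q ∉ ({x, y} : Set ℕ) := by
  obtain ⟨q, hq, h1, h2⟩ := h3 x y
  exact ⟨q, hq, fun h' => by rcases h' with h' | h'; exacts [h1 h', h2 h']⟩

theorem compl_ne_pi {u : ℕ} (hu : InPi A θ u) : ∃ q, InPi A θ q ∧ q ∉ {q : ℕ | q ≠ u} :=
  ⟨u, hu, fun h' => h' rfl⟩

theorem inPi_of_pCoreOf {X : Subgroup G} (hX : X ∈ Cfsg.signalizerFamily p A θ) {v : ℕ}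
    (hv : v.Prime) (hne : Cfsg.pCoreOf v X ≠ ⊥) : InPi A θ v := by
  haveI := Fact.mk hv
  obtain ⟨n, hn⟩ := IsPGroup.iff_card.mp (PReduced.isPGroup_pCoreOf v X)
  refine h.inPi_of_dvd (h.pCoreOf_mem hX v) hv ?_
  rw [hn]
  refine dvd_pow_self v ?_
  rintro rfl
  rw [pow_zero] at hn
  exact hne (Subgroup.eq_bot_of_card_eq _ hn)

theorem exists_pCoreOf_ne_bot {X : Subgroup G} (hX : Group.IsSolvable X) (hX1 : X ≠ ⊥) :
    ∃ v, v.Prime ∧ Cfsg.pCoreOf v X ≠ ⊥ := by
  haveI := hX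
  haveI : Nontrivial X := (Subgroup.nontrivial_iff_ne_bot X).mpr hX1
  obtain ⟨t, ht, N, hN, hN1, hNt, -⟩ := Hall.exists_normal_pgroup_ne_bot (G := X)
  refine ⟨t, ht, fun he => hN1 ?_⟩
  have h1 : N.map X.subtype ≤ Cfsg.pCoreOf t X := Subgroup.map_mono (Fitting.le_pCore hN hNt)
  rw [he, le_bot_iff, Subgroup.map_eq_bot_iff_of_injective _ X.subtype_injective] at h1
  exact h1

/-! #### A universal subgroup exists -/

theorem universal_inf_Kc {t u z : ℕ} [Fact t.Prime] (hu : InPi A θ u) (hz : InPi A θ z)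
    (htu : t ≠ u) (htz : t ≠ z) (huz : u ≠ z) :
    Universal A θ t
      (Cfsg.pCoreOf t (K A θ {q | q ≠ u}) ⊓ Cfsg.pCoreOf t (K A θ {q | q ≠ z})) := by
  obtain ⟨h1, -, h3⟩ := h.K_spec (h.compl_ne_pi hu)
  obtain ⟨k1, -, k3⟩ := h.K_spec (h.compl_ne_pi hz)
  refine ⟨inf_le_left.trans (h.pCoreOf_le_Pi h1 h3 t),
    le_normalizer_inf_of_le (mem_normalizer_family (h.pCoreOf_mem h1 t))
      (mem_normalizer_family (h.pCoreOf_mem k1 t)),
    le_normalizer_inf_of_le (normalizer_le_normalizer_pCoreOf t h3)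
      (normalizer_le_normalizer_pCoreOf t k3), fun b hb hb1 => le_trans
        (le_inf inf_le_left ?_) (h.inf_le_pCoreOf_of_conj (h.theta_mem hb hb1)
          (inf_le_left.trans (h.pCoreOf_le_Pi h1 h3 t)) fun v hv hvt _ _ d hd _ s hs => ?_)⟩
  · exact (inf_le_inf_right _ (inf_le_left.trans (h.pCoreOf_le_Pi h1 h3 t))).trans
      ((h.Pi_mem t).2.2.2 b hb hb1)
  haveI := Fact.mk hv
  have hθC := (h.inf_le_theta hb hb1).trans (Subgroup.le_normalizer (H := θ b))
  rcases eq_or_ne v u with rfl | hvu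
  · exact h.pCoreOf_le_Pi k1 k3 t (forall_of_le_normalizer (le_normalizer_core t _) d
      (h.coreTwo_le_K (h.theta_mem hb hb1) hθC (σ := {q | q ≠ z}) htz huz hd) s hs.2)
  · exact h.pCoreOf_le_Pi h1 h3 t (forall_of_le_normalizer (le_normalizer_core t _) d
      (h.coreTwo_le_K (h.theta_mem hb hb1) hθC (σ := {q | q ≠ u}) htu hvu hd) s hs.1)

theorem centralizer_core_eq_bot (h0 : ∀ x : ℕ, x.Prime → Lam A θ x = ⊥) {t u z : ℕ}
    [Fact t.Prime] [Fact u.Prime] [Fact z.Prime] (hu : InPi A θ u) (hz : InPi A θ z)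
    (htu : t ≠ u) (htz : t ≠ z) (huz : u ≠ z) :
    Cfsg.pCoreOf t (K A θ {q | q ≠ u}) ⊓
      Subgroup.centralizer (Cfsg.pCoreOf u (K A θ {q | q ≠ z}) : Set G) = ⊥ := by
  obtain ⟨h1, -, h3⟩ := h.K_spec (h.compl_ne_pi hu)
  obtain ⟨k1, k2, k3⟩ := h.K_spec (h.compl_ne_pi hz)
  set Dt := Cfsg.pCoreOf t (K A θ {q | q ≠ u})
  set Du := Cfsg.pCoreOf u (K A θ {q | q ≠ z})
  have hP1 : Pi A θ t ≤ Subgroup.normalizer (Dt : Set G) :=
    (h.Pi_le_K (σ := {q | q ≠ u}) htu).trans (le_normalizer_core t _)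
  have hP2 : Pi A θ t ≤ Subgroup.normalizer (Du : Set G) :=
    (h.Pi_le_K (σ := {q | q ≠ z}) htz).trans (le_normalizer_core u _)
  by_contra hne
  set E := Dt ⊓ Subgroup.centralizer (Du : Set G)
  set W := E ⊓ Subgroup.centralizer (Pi A θ t : Set G)
  have hW1 : W ≠ ⊥ := inf_centralizer_ne_bot (h.Pi_isPGroup t)
    (inf_le_left.trans (h.pCoreOf_le_Pi h1 h3 t))
    (le_normalizer_inf_of_le hP1 (CfsgLib.Coprime.le_normalizer_centralizer hP2)) hne
  have hWD : W ≤ Dt := inf_le_left.trans inf_le_left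
  have hWK : W ≤ K A θ {q | q ≠ z} :=
    (hWD.trans (h.pCoreOf_le_Pi h1 h3 t)).trans (h.Pi_le_K (σ := {q | q ≠ z}) htz)
  have hle : W ≤ Cfsg.pCoreOf t (K A θ {q | q ≠ z}) := by
    refine le_pCoreOf_of_centralizes k1.1 hWK ((PReduced.isPGroup_pCoreOf t _).to_le hWD)
      fun v hv => ?_
    haveI := Fact.mk hv
    rcases eq_or_ne v t with rfl | hvt
    · exact inf_le_right.trans (Subgroup.centralizer_le (h.pCoreOf_le_Pi k1 k3 v))
    rcases eq_or_ne v u with rfl | hvu
    · exact inf_le_left.trans inf_le_right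
    intro w hw f hf
    have h4 : f * w * f⁻¹ * w⁻¹ ∈ Dt ⊓ Cfsg.pCoreOf v (K A θ {q | q ≠ z}) := by
      refine Subgroup.mem_inf.mpr ⟨mul_mem (forall_of_le_normalizer (le_normalizer_core t _) f ?_ w (hWD hw))
        (inv_mem (hWD hw)), ?_⟩
      · exact h.pCoreOf_le_K (σ := {q | q ≠ u})
          (mem_family_of_le k1 le_rfl (mem_normalizer_family k1)) k3 hvu hf
      · have := mul_mem hf (forall_of_le_normalizer (le_normalizer_core v _) w (hWK hw) _
          (inv_mem hf))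
        simpa [mul_assoc] using this
    rw [inf_eq_bot_of_isPGroup hvt.symm (PReduced.isPGroup_pCoreOf t _)
      (PReduced.isPGroup_pCoreOf v _), Subgroup.mem_bot, mul_inv_eq_one, mul_inv_eq_iff_eq_mul] at h4
    exact h4
  exact hW1 (le_bot_iff.mp ((h0 t Fact.out) ▸
    (le_inf hWD hle).trans (h.le_Lam (h.universal_inf_Kc hu hz htu htz huz))))

theorem exists_Lam_ne_bot (h3 : ThreePrimes A θ) : ∃ x : ℕ, x.Prime ∧ Lam A θ x ≠ ⊥ := by
  by_contra hc
  push Not at hc
  obtain ⟨a, ha, ha1, hna⟩ : ∃ a ∈ A, a ≠ 1 ∧ θ a ≠ ⊥ := by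
    by_contra h0
    push Not at h0
    exact h.not_cover ⟨Cfsg.signalizerInf A θ, h.inf_mem, fun a ha ha1 => (h0 a ha ha1).le.trans bot_le⟩
  obtain ⟨v, hv, hvne⟩ := h.exists_pCoreOf_ne_bot (h.solv.2 a ha ha1) hna
  haveI := Fact.mk hv
  obtain ⟨u, hu, huv, -⟩ := h3 v v
  haveI := Fact.mk hu.1
  obtain ⟨h1, h2, -⟩ := h.K_spec (h.compl_ne_pi hu)
  obtain ⟨t, ht, htne⟩ := h.exists_pCoreOf_ne_bot h1.1 fun he => hvne (le_bot_iff.mp
    (he ▸ h.pCoreOf_le_K (σ := {q | q ≠ u}) (h.theta_mem ha ha1)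
      ((h.inf_le_theta ha ha1).trans Subgroup.le_normalizer) huv.symm))
  haveI := Fact.mk ht
  have htu : t ≠ u := by
    obtain ⟨n, hn⟩ := IsPGroup.iff_card.mp (PReduced.isPGroup_pCoreOf t (K A θ {q | q ≠ u}))
    have hn0 : n ≠ 0 := by
      rintro rfl
      rw [pow_zero] at hn
      exact htne (Subgroup.eq_bot_of_card_eq _ hn)
    exact h2 t ht ((hn ▸ dvd_pow_self t hn0).trans (Subgroup.card_dvd_of_le (pCoreOf_le t _)))
  obtain ⟨z, hz, hzt, hzu⟩ := h3 t u
  haveI := Fact.mk hz.1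
  have htI := h.inPi_of_pCoreOf h1 ht htne
  set Dt := Cfsg.pCoreOf t (K A θ {q | q ≠ u})
  set Du := Cfsg.pCoreOf u (K A θ {q | q ≠ z})
  set Dz := Cfsg.pCoreOf z (K A θ {q | q ≠ t})
  have c1 : Dt ⊓ Subgroup.centralizer (Du : Set G) = ⊥ :=
    h.centralizer_core_eq_bot hc hu hz htu hzt.symm hzu.symm
  have c2 : Du ⊓ Subgroup.centralizer (Dz : Set G) = ⊥ :=
    h.centralizer_core_eq_bot hc hz htI hzu.symm htu.symm hzt
  have c3 : Dz ⊓ Subgroup.centralizer (Dt : Set G) = ⊥ :=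
    h.centralizer_core_eq_bot hc htI hu hzt hzu htu
  obtain ⟨k1, -, k3⟩ := h.K_spec (h.compl_ne_pi hz)
  obtain ⟨l1, -, l3⟩ := h.K_spec (h.compl_ne_pi htI)
  obtain ⟨-, -, h3'⟩ := h.K_spec (h.compl_ne_pi hu)
  have hDu : Du ≠ ⊥ := fun he => htne (by
    rw [← c1, he]
    exact (inf_eq_left.mpr fun x _ y hy => by
      rw [Subgroup.coe_bot, Set.mem_singleton_iff] at hy; simp [hy]).symm)
  have n1 : Dt ≤ Subgroup.normalizer (Du : Set G) := ((h.pCoreOf_le_Pi h1 h3' t).trans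
    (h.Pi_le_K (σ := {q | q ≠ z}) hzt.symm)).trans (le_normalizer_core u _)
  have n2 : Du ≤ Subgroup.normalizer (Dz : Set G) := ((h.pCoreOf_le_Pi k1 k3 u).trans
    (h.Pi_le_K (σ := {q | q ≠ t}) htu.symm)).trans (le_normalizer_core z _)
  have n3 : Dz ≤ Subgroup.normalizer (Dt : Set G) := ((h.pCoreOf_le_Pi l1 l3 z).trans
    (h.Pi_le_K (σ := {q | q ≠ u}) hzu)).trans (le_normalizer_core t _)
  set N := conjClosure Du Dz
  have hNle : N ≤ Du ⊔ Dz := conjClosure_le_iff.mpr fun z hz d hd =>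
    mul_mem (mul_mem (Subgroup.mem_sup_right hz) (Subgroup.mem_sup_left hd))
      (inv_mem (Subgroup.mem_sup_right hz))
  have hNt : Dt ≤ Subgroup.normalizer (N : Set G) := by
    refine le_normalizer_iSup fun w a ha => ?_
    have hw := forall_of_le_normalizer n3 _ (inv_mem w.2) a ha
    have h4 := conj_smul_eq_self_of_mem_normalizer (n1 hw)
    rw [mem_normalizer_iff_conj_smul, ← mul_smul, ← map_mul,
      show a * (w : G) = w * ((w : G)⁻¹ * a * ((w : G)⁻¹)⁻¹) by group, map_mul, mul_smul, h4]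
  have hcop : (Nat.card ↥(Du ⊔ Dz)).Coprime (Nat.card Dt) := by
    rw [sup_comm]
    refine Nat.Coprime.coprime_dvd_left (Dvd.intro _ (card_sup_mul_card_inf n2)) ?_
    exact Nat.Coprime.mul_left
      ((coprime_of_isPGroup hzt (PReduced.isPGroup_pCoreOf z _)).coprime_dvd_right (dvd_refl _) |>
        fun h5 => by
          obtain ⟨n, hn⟩ := IsPGroup.iff_card.mp (PReduced.isPGroup_pCoreOf t (K A θ {q | q ≠ u}))
          rw [hn]; exact h5.pow_right n)
      ((coprime_of_isPGroup htu.symm (PReduced.isPGroup_pCoreOf u _)) |>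
        fun h5 => by
          obtain ⟨n, hn⟩ := IsPGroup.iff_card.mp (PReduced.isPGroup_pCoreOf t (K A θ {q | q ≠ u}))
          rw [hn]; exact h5.pow_right n)
  have hN0 : N ⊓ Dz ≤ Subgroup.centralizer (Dt : Set G) := fun n hn a ha => by
    have h4 : n * a * n⁻¹ * a⁻¹ ∈ N ⊓ Dt := by
      refine Subgroup.mem_inf.mpr ⟨?_, mul_mem (forall_of_le_normalizer n3 n hn.2 a ha) (inv_mem ha)⟩
      have := mul_mem hn.1 (forall_of_le_normalizer hNt a ha _ (inv_mem hn.1))
      simpa [mul_assoc] using this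
    have h5 : N ⊓ Dt = ⊥ :=
      inf_eq_bot_of_coprime_card (hcop.coprime_dvd_left (Subgroup.card_dvd_of_le hNle))
    rw [h5, Subgroup.mem_bot, mul_inv_eq_one, mul_inv_eq_iff_eq_mul] at h4
    exact h4.symm
  have hN0' : N ⊓ Dz = ⊥ := le_bot_iff.mp (c3 ▸ le_inf inf_le_right hN0)
  have hNDu : N ≤ Du := fun n hn => by
    obtain ⟨w, hw, d, hd, rfl⟩ := exists_mul_eq h n2 (sup_comm Du Dz ▸ hNle hn)
    have h4 : w ∈ N ⊓ Dz := ⟨by simpa using mul_mem hn (inv_mem (le_conjClosure Du Dz hd)), hw⟩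
    rw [hN0', Subgroup.mem_bot] at h4
    simpa [h4] using hd
  refine hDu (le_bot_iff.mp (c2 ▸ le_inf le_rfl fun d hd w hw => ?_))
  have h4 : w * d * w⁻¹ * d⁻¹ ∈ Du ⊓ Dz := by
    refine Subgroup.mem_inf.mpr ⟨mul_mem (hNDu (conj_mem_conjClosure hw hd)) (inv_mem hd), ?_⟩
    have := mul_mem hw (forall_of_le_normalizer n2 d hd _ (inv_mem hw))
    simpa [mul_assoc] using this
  rw [inf_eq_bot_of_isPGroup hzu.symm (PReduced.isPGroup_pCoreOf u _)
    (PReduced.isPGroup_pCoreOf z _), Subgroup.mem_bot, mul_inv_eq_one, mul_inv_eq_iff_eq_mul] at h4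
  exact h4

/-! #### Bad points -/

theorem pCoreOf_le_normalizer_Lam (h3 : ThreePrimes A θ) {x : ℕ} [hx : Fact x.Prime] {a : G}
    (ha : a ∈ A) (ha1 : a ≠ 1) (hb : ¬ Good p A θ x a) {y : ℕ} (hy : y.Prime) (hxy : y ≠ x) :
    Cfsg.pCoreOf y (θ a) ≤ Subgroup.normalizer (Lam A θ x : Set G) := by
  haveI := Fact.mk hy
  set Y := Cfsg.pCoreOf y (θ a) with hYdef
  rcases eq_or_ne Y ⊥ with h0 | h0
  · rw [h0]; exact bot_le
  have hθm := h.theta_mem ha ha1
  have hθC : Cfsg.signalizerInf A θ ≤ Subgroup.normalizer (θ a : Set G) :=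
    (h.inf_le_theta ha ha1).trans Subgroup.le_normalizer
  obtain ⟨p1, -, p3⟩ := h.K_spec (h.pair_ne_pi h3 x y)
  obtain ⟨c1, -, c3⟩ := h.K_spec (h.compl_ne_pi (h.inPi_of_pCoreOf hθm hy h0))
  set P2 := K A θ ({x, y} : Set ℕ) with hP2
  set Kc := K A θ {q : ℕ | q ≠ y} with hKc
  have hYP : Y ≤ P2 := h.pCoreOf_le_K hθm hθC (Or.inr rfl)
  have hLK : ∀ {σ : Set ℕ}, x ∈ σ → Lam A θ x ≤ K A θ σ := fun hσ =>
    h.Lam_le_Pi.trans (h.Pi_le_K hσ)
  have hLO : ∀ {σ : Set ℕ}, (∃ q, InPi A θ q ∧ q ∉ σ) → x ∈ σ →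
      Lam A θ x ≤ Cfsg.pCoreOf x (K A θ σ) :=
    fun hq hσ => (le_inf le_rfl (hLK hσ)).trans (h.Lam_inf_le (h.K_spec hq).1)
  set W := conjClosure (Lam A θ x) Y with hW
  have hWO : W ≤ Cfsg.pCoreOf x P2 := conjClosure_le_iff.mpr fun g hg u hu =>
    forall_of_le_normalizer (le_normalizer_core x P2) g (hYP hg) u
      (hLO (h.pair_ne_pi h3 x y) (Or.inl rfl) hu)
  have hWPi : W ≤ Pi A θ x := hWO.trans (h.pCoreOf_le_Pi p1 p3 x)
  have hWA : A ≤ Subgroup.normalizer (W : Set G) := le_normalizer_conjClosure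
    (mem_normalizer_family (h.pCoreOf_mem hθm y)) h.A_le_normalizer_Lam
  have hWC : Cfsg.signalizerInf A θ ≤ Subgroup.normalizer (W : Set G) :=
    le_normalizer_conjClosure (normalizer_le_normalizer_pCoreOf y hθC) h.inf_le_normalizer_Lam
  -- conjugation by another core
  have hconj : ∀ v : ℕ, v.Prime → v ≠ x → v ≠ y → ∀ r ∈ Cfsg.pCoreOf v (θ a), ∀ w ∈ W,
      r * w * r⁻¹ ∈ Pi A θ x := by
    intro v hv hvx hvy r hr
    haveI := Fact.mk hv
    have hrK : r ∈ Kc := h.pCoreOf_le_K (σ := {q : ℕ | q ≠ y}) hθm hθC hvy hr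
    suffices W ≤ (Pi A θ x).comap (MulAut.conj r).toMonoidHom from fun w hw => this hw
    refine conjClosure_le_iff.mpr fun g hg u hu => ?_
    have hrg : g * r = r * g := by
      have h4 : g * r * g⁻¹ * r⁻¹ ∈ Y ⊓ Cfsg.pCoreOf v (θ a) := by
        refine Subgroup.mem_inf.mpr ⟨?_, mul_mem (forall_of_le_normalizer (le_normalizer_core v _) g
          (pCoreOf_le y _ hg) r hr) (inv_mem hr)⟩
        have := mul_mem hg (forall_of_le_normalizer (le_normalizer_core y _) r (pCoreOf_le v _ hr)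
          _ (inv_mem hg))
        simpa [mul_assoc] using this
      rw [inf_eq_bot_of_isPGroup hvy.symm (PReduced.isPGroup_pCoreOf y _)
        (PReduced.isPGroup_pCoreOf v _), Subgroup.mem_bot, mul_inv_eq_one,
        mul_inv_eq_iff_eq_mul] at h4
      exact h4
    have h5 : r * (g * u * g⁻¹) * r⁻¹ ∈ Kc := mul_mem (mul_mem hrK
      (h.Pi_le_K (σ := {q : ℕ | q ≠ y}) hxy.symm (hWPi (conj_mem_conjClosure hg hu))))
      (inv_mem hrK)
    have h6 : r * (g * u * g⁻¹) * r⁻¹ ∈ P2 := by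
      rw [conj_mem_of_comm_conj hrg]
      refine mul_mem (mul_mem (hYP hg) (h.Pi_le_K (Or.inl rfl) ?_)) (inv_mem (hYP hg))
      exact h.pCoreOf_le_Pi c1 c3 x (forall_of_le_normalizer (le_normalizer_core x Kc) r hrK u
        (hLO (h.compl_ne_pi (h.inPi_of_pCoreOf hθm hy h0)) hxy.symm hu))
    exact h.inf_K_le_Pi (h.pair_ne_pi h3 x y)
      (h.compl_ne_pi (h.inPi_of_pCoreOf hθm hy h0))
      (fun q hq1 hq2 => hq1.resolve_right hq2) ⟨h6, h5⟩
  -- fixed points of `a`
  have hWa : W ⊓ Subgroup.centralizer ({a} : Set G) = ⊥ := by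
    have hWθ : W ⊓ Subgroup.centralizer ({a} : Set G) ≤ θ a :=
      (inf_le_inf_right _ hWPi).trans ((h.Pi_mem x).2.2.2 a ha ha1)
    refine le_bot_iff.mp ((le_pCoreOf_of_centralizes (x := x) hθm.1 hWθ
      ((h.Pi_isPGroup x).to_le (inf_le_left.trans hWPi)) fun v hv => ?_).trans
        (h.pCoreOf_theta_of_bad ha ha1 hb).le)
    haveI := Fact.mk hv
    rcases eq_or_ne v x with rfl | hvx
    · rw [h.pCoreOf_theta_of_bad ha ha1 hb]
      intro w _ f hf
      rw [Subgroup.coe_bot, Set.mem_singleton_iff] at hf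
      simp [hf]
    intro w hw r hr
    have h4 : r * w * r⁻¹ * w⁻¹ ∈ Pi A θ x ⊓ Cfsg.pCoreOf v (θ a) := by
      refine Subgroup.mem_inf.mpr ⟨mul_mem ?_ (inv_mem (hWPi hw.1)), ?_⟩
      · rcases eq_or_ne v y with rfl | hvy
        · exact hWPi (forall_of_le_normalizer (le_normalizer_conjClosure_self _ _) r hr w hw.1)
        · exact hconj v hv hvx hvy r hr w hw.1
      · have := mul_mem hr (forall_of_le_normalizer (le_normalizer_core v _) w (hWθ hw) _
          (inv_mem hr))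
        simpa [mul_assoc] using this
    rw [inf_eq_bot_of_isPGroup hvx.symm (h.Pi_isPGroup x) (PReduced.isPGroup_pCoreOf v _),
      Subgroup.mem_bot, mul_inv_eq_one, mul_inv_eq_iff_eq_mul] at h4
    exact h4
  -- universality
  have hU : Universal A θ x W := by
    refine ⟨hWPi, hWA, hWC, fun b hb' hb1 => le_trans (le_inf inf_le_left
      ((inf_le_inf_right _ hWPi).trans ((h.Pi_mem x).2.2.2 b hb' hb1))) ?_⟩
    have hbm := h.theta_mem hb' hb1
    have hbC : Cfsg.signalizerInf A θ ≤ Subgroup.normalizer (θ b : Set G) :=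
      (h.inf_le_theta hb' hb1).trans Subgroup.le_normalizer
    refine le_pCoreOf_of_fpf (p := p) hbm.1 hbm.2.1 inf_le_right
      ((h.Pi_isPGroup x).to_le (inf_le_left.trans hWPi)) (h.pow_eq_one ha)
      (mem_normalizer_family hbm ha)
      (le_normalizer_inf_of_le hWA (mem_normalizer_family hbm) ha) ?_ ?_
    · intro u hu hau
      have : u ∈ W ⊓ Subgroup.centralizer ({a} : Set G) :=
        ⟨hu.1, Subgroup.mem_centralizer_singleton_iff.mpr hau.symm⟩
      rw [hWa, Subgroup.mem_bot] at this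
      rw [this]; exact one_mem _
    intro v hv hvx d hd had
    haveI := Fact.mk hv
    have hdθ : d ∈ θ a := hbm.2.2.2 a ha ha1
      ⟨coreTwo_le x v _ hd, Subgroup.mem_centralizer_singleton_iff.mpr had.symm⟩
    suffices hc : ∀ w ∈ W, d * w * d⁻¹ ∈ Pi A θ x by
      intro u hu
      refine mem_pCoreOf_of_mem_coreTwo hvx.symm (h.Pi_isPGroup x) ?_
        (mul_mem (hc u hu.1) (inv_mem (hWPi hu.1)))
      have := mul_mem hd (forall_of_le_normalizer
        (normalizer_le_normalizer_coreTwo x v Subgroup.le_normalizer) u hu.2 _ (inv_mem hd))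
      simpa [mul_assoc] using this
    rcases eq_or_ne v y with rfl | hvy
    · have hdP : d ∈ P2 := h.coreTwo_le_K hbm hbC (Or.inl rfl) (Or.inr rfl) hd
      exact fun w hw => h.pCoreOf_le_Pi p1 p3 x
        (forall_of_le_normalizer (le_normalizer_core x P2) d hdP w (hWO hw))
    suffices W ≤ (Pi A θ x).comap (MulAut.conj d).toMonoidHom from fun w hw => this hw
    refine conjClosure_le_iff.mpr fun g hg u hu => ?_
    obtain ⟨v1, -, v3⟩ := h.K_spec (h.pair_ne_pi h3 x v)
    have hdK : d ∈ K A θ ({x, v} : Set ℕ) := h.coreTwo_le_K hbm hbC (Or.inl rfl) (Or.inr rfl) hd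
    have h5 : d * (g * u * g⁻¹) * d⁻¹ ∈ K A θ ({x, v} : Set ℕ) := mul_mem (mul_mem hdK
      (h.Pi_le_K (Or.inl rfl) (hWPi (conj_mem_conjClosure hg hu)))) (inv_mem hdK)
    have h6 : d * (g * u * g⁻¹) * d⁻¹ ∈ P2 := by
      rw [show d * (g * u * g⁻¹) * d⁻¹ = d * g * d⁻¹ * (d * u * d⁻¹) * (d * g * d⁻¹)⁻¹ by group]
      have hg' := hYP (forall_of_le_normalizer (le_normalizer_core y (θ a)) d hdθ g hg)
      refine mul_mem (mul_mem hg' (h.Pi_le_K (Or.inl rfl) ?_)) (inv_mem hg')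
      exact h.pCoreOf_le_Pi v1 v3 x (forall_of_le_normalizer (le_normalizer_core x _) d hdK u
        (hLO (h.pair_ne_pi h3 x v) (Or.inl rfl) hu))
    exact h.inf_K_le_Pi (h.pair_ne_pi h3 x y) (h.pair_ne_pi h3 x v)
      (fun q hq1 hq2 => by
        rcases hq1 with rfl | rfl
        · rfl
        · exact hq2.resolve_right (Ne.symm hvy)) ⟨h6, h5⟩
  exact le_normalizer_of_forall fun g hg u hu => h.le_Lam hU (conj_mem_conjClosure hg hu)

/-- An invariant `x`-member centralizing the Fitting subgroup at a bad point is trivial. -/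
theorem eq_bot_of_centralizes_bad {x : ℕ} [hx : Fact x.Prime] {a : G} (ha : a ∈ A) (ha1 : a ≠ 1)
    (hθ1 : θ a ≠ ⊥) (hb : ¬ Good p A θ x a) {U : Subgroup G}
    (hU : U ∈ Cfsg.signalizerFamily p A θ) (hUx : IsPGroup x U)
    (hc : ∀ v : ℕ, v.Prime → v ≠ x →
      U ≤ Subgroup.centralizer (Cfsg.pCoreOf v (θ a) : Set G)) : U = ⊥ := by
  have hθm := h.theta_mem ha ha1
  have hO := h.pCoreOf_theta_of_bad ha ha1 hb
  obtain ⟨v0, hv0, hne⟩ := h.exists_pCoreOf_ne_bot hθm.1 hθ1
  set Y := normMember A θ (Cfsg.pCoreOf v0 (θ a)) with hYdef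
  have hYm := h.normMember_mem (h.pCoreOf_mem hθm v0) hne
  have hθY : θ a ≤ Y := h.le_normMember hθm (le_normalizer_core v0 _)
  have hUY : U ≤ Y := h.le_normMember hU ((hc v0 hv0 fun he => hne (he ▸ hO)).trans
    (Subgroup.centralizer_le_normalizer _))
  have hOY : Cfsg.pCoreOf x Y = ⊥ := by
    by_contra he
    exact hb ⟨Y, hYm, hθY, he⟩
  refine le_bot_iff.mp ((le_pCoreOf_of_fpf (p := p) hYm.1 hYm.2.1 hUY hUx (h.pow_eq_one ha)
    (mem_normalizer_family hYm ha) (mem_normalizer_family hU ha) ?_ ?_).trans hOY.le)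
  · intro u hu hau
    have hUθ : U ⊓ Subgroup.centralizer ({a} : Set G) ≤ θ a := hU.2.2.2 a ha ha1
    have h1 : U ⊓ Subgroup.centralizer ({a} : Set G) ≤ Cfsg.pCoreOf x (θ a) := by
      refine le_pCoreOf_of_centralizes hθm.1 hUθ (hUx.to_le inf_le_left) fun v hv => ?_
      rcases eq_or_ne v x with rfl | hvx
      · rw [hO]
        intro w _ f hf
        rw [Subgroup.coe_bot, Set.mem_singleton_iff] at hf
        simp [hf]
      · exact inf_le_left.trans (hc v hv hvx)
    rw [hO] at h1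
    rw [Subgroup.mem_bot.mp (h1 ⟨hu, Subgroup.mem_centralizer_singleton_iff.mpr hau.symm⟩)]
    exact one_mem _
  · intro v hv hvx d hd had u hu
    haveI := Fact.mk hv
    have hdθ : d ∈ θ a := hYm.2.2.2 a ha ha1
      ⟨coreTwo_le x v _ hd, Subgroup.mem_centralizer_singleton_iff.mpr had.symm⟩
    have h1 : coreTwo x v Y ⊓ θ a ≤ Cfsg.pCoreOf v (θ a) := by
      refine PReduced.le_pCoreOf inf_le_right (le_normalizer_inf_of_le
        (normalizer_le_normalizer_coreTwo x v (hθY.trans Subgroup.le_normalizer))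
        Subgroup.le_normalizer) fun g => ?_
      obtain ⟨k, hk⟩ := coreTwo_pow_mem g.2.1
      rw [hOY, Subgroup.mem_bot] at hk
      exact ⟨k, Subtype.ext (by simpa using hk)⟩
    rw [hc v hv hvx hu d (h1 ⟨hd, hdθ⟩), mul_inv_cancel_right, mul_inv_cancel]
    exact one_mem _

/-- An invariant subgroup of `Pi x` normalised by the Fitting subgroup at a bad point lies in the
`O_x` of each closed member containing that subgroup. -/
theorem le_pCoreOf_of_bad {x : ℕ} [hx : Fact x.Prime] {a : G} (ha : a ∈ A) (ha1 : a ≠ 1)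
    (hθ1 : θ a ≠ ⊥) (hb : ¬ Good p A θ x a) {X : Subgroup G} (hX : Closed p A θ x X)
    (hRX : ∀ v : ℕ, v.Prime → Cfsg.pCoreOf v (θ a) ≤ X) {W : Subgroup G} (hW : W ≤ Pi A θ x)
    (hWA : A ≤ Subgroup.normalizer (W : Set G))
    (hRW : ∀ v : ℕ, v.Prime → Cfsg.pCoreOf v (θ a) ≤ Subgroup.normalizer (W : Set G)) :
    W ≤ Cfsg.pCoreOf x X := by
  have hθm := h.theta_mem ha ha1
  have hO := h.pCoreOf_theta_of_bad ha ha1 hb
  set D := Cfsg.pCoreOf x X with hD
  set S := W ⊔ D with hS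
  have hSPi : S ≤ Pi A θ x := sup_le hW (Closed.pCoreOf_le_Pi h hX)
  have hAD : A ≤ Subgroup.normalizer (D : Set G) :=
    normalizer_le_normalizer_pCoreOf x (mem_normalizer_family hX.1)
  have hSA : A ≤ Subgroup.normalizer (S : Set G) := le_normalizer_sup_of_le hWA hAD
  refine le_sup_left.trans (h.le_pCoreOf_of_closed hX hSPi hSA le_sup_right ?_)
  set U := S ⊓ X with hUdef
  have hRS : ∀ v : ℕ, v.Prime → Cfsg.pCoreOf v (θ a) ≤ Subgroup.normalizer (S : Set G) :=
    fun v hv => le_normalizer_sup_of_le (hRW v hv) ((hRX v hv).trans (le_normalizer_core x X))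
  have hUA : A ≤ Subgroup.normalizer (U : Set G) :=
    le_normalizer_inf_of_le hSA (mem_normalizer_family hX.1)
  have hRU : ∀ v : ℕ, v.Prime → Cfsg.pCoreOf v (θ a) ≤ Subgroup.normalizer (U : Set G) :=
    fun v hv => le_normalizer_inf_of_le (hRS v hv) ((hRX v hv).trans Subgroup.le_normalizer)
  have hUm := h.mem_family_Pi (inf_le_left.trans hSPi) hUA
  have hUx : IsPGroup x U := (h.Pi_isPGroup x).to_le (inf_le_left.trans hSPi)
  have hXN : X ≤ Subgroup.normalizer (D : Set G) := le_normalizer_core x X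
  have hUN : U ≤ Subgroup.normalizer (D : Set G) := inf_le_right.trans hXN
  -- `a` is fixed-point-free on `U`
  have hUa : U ⊓ Subgroup.centralizer ({a} : Set G) = ⊥ := by
    refine le_bot_iff.mp ((le_pCoreOf_of_centralizes (x := x) hθm.1 (hUm.2.2.2 a ha ha1)
      (hUx.to_le inf_le_left) fun v hv => ?_).trans hO.le)
    haveI := Fact.mk hv
    intro w hw r hr
    rcases eq_or_ne v x with rfl | hvx
    · rw [hO, Subgroup.coe_bot, Set.mem_singleton_iff] at hr
      simp [hr]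
    have h4 : r * w * r⁻¹ * w⁻¹ ∈ U ⊓ Cfsg.pCoreOf v (θ a) := by
      refine Subgroup.mem_inf.mpr ⟨mul_mem (forall_of_le_normalizer (hRU v hv) r hr w hw.1) (inv_mem hw.1), ?_⟩
      have := mul_mem hr (forall_of_le_normalizer (le_normalizer_core v _) w
        (hUm.2.2.2 a ha ha1 hw) _ (inv_mem hr))
      simpa [mul_assoc] using this
    rw [inf_eq_bot_of_isPGroup hvx.symm hUx (PReduced.isPGroup_pCoreOf v _),
      Subgroup.mem_bot, mul_inv_eq_one, mul_inv_eq_iff_eq_mul] at h4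
    exact h4
  by_contra hne
  set U' := bar D U with hU'
  have hU'1 : U' ≠ ⊥ := fun he => hne (le_of_bar_eq_bot hUN he)
  have hU'x : IsPGroup x U' := isPGroup_bar hUx
  set Z := U' ⊓ Subgroup.centralizer (U' : Set _) with hZdef
  have hZ1 : Z ≠ ⊥ := inf_centralizer_ne_bot hU'x le_rfl Subgroup.le_normalizer hU'1
  haveI hZc : IsMulCommutative Z :=
    ⟨⟨fun u v => Subtype.ext (v.2.2 u u.2.1)⟩⟩
  have hnZ : ∀ g : ↥(Subgroup.normalizer (D : Set G)), (g : G) ∈ Subgroup.normalizer (U : Set G) →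
      modMap D g ∈ Subgroup.normalizer (Z : Set _) := fun g hg =>
    (le_normalizer_inf_of_le (Subgroup.zpowers_le.mpr (modMap_mem_normalizer_bar hg))
      (CfsgLib.Coprime.le_normalizer_centralizer
        (Subgroup.zpowers_le.mpr (modMap_mem_normalizer_bar hg)))) (Subgroup.mem_zpowers _)
  have hRD : ∀ v : ℕ, v.Prime → Cfsg.pCoreOf v (θ a) ≤ Subgroup.normalizer (D : Set G) :=
    fun v hv => (hRX v hv).trans hXN
  -- some `r` moves `Z`
  obtain ⟨v0, hv0, r, hr, hrZ⟩ : ∃ v : ℕ, v.Prime ∧ ∃ r : ↥(Subgroup.normalizer (D : Set G)),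
      (r : G) ∈ Cfsg.pCoreOf v (θ a) ∧
        modMap D r ∉ Subgroup.centralizer (Z : Set _) := by
    by_contra hc
    push Not at hc
    set R := ⨆ v : {v : ℕ // v.Prime}, Cfsg.pCoreOf v (θ a) with hR
    have hRθ : R ≤ θ a := iSup_le fun v => pCoreOf_le _ _
    have hRσ : IsSigma {q : ℕ | q ≠ x} R := by
      refine (h.sigmaCand_theta {q : ℕ | q ≠ x} ha ha1).2.2.2.of_le (iSup_le fun v => ?_)
      haveI := Fact.mk v.2
      rcases eq_or_ne (v : ℕ) x with he | he
      · rw [he, hO]; exact bot_le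
      refine le_sigmaPart ⟨pCoreOf_le _ _, mem_normalizer_family (h.pCoreOf_mem hθm v), ?_,
        isSigma_of_isPGroup (PReduced.isPGroup_pCoreOf (v : ℕ) _) he⟩
      exact inf_le_left.trans (le_normalizer_core _ _)
    have hRD' : R ≤ Subgroup.normalizer (D : Set G) := iSup_le fun v => hRD v v.2
    have hRU' : R ≤ Subgroup.normalizer (U : Set G) := iSup_le fun v => hRU v v.2
    set N := Subgroup.normalizer (D : Set G) with hN
    set P0 : Subgroup ↥(Subgroup.normalizer (D : Set G)) :=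
      U.subgroupOf _ ⊓ Z.comap (modMap D) with hP0
    set R0 := R.subgroupOf (Subgroup.normalizer (D : Set G)) with hR0
    have hR0P : R0 ≤ Subgroup.normalizer (P0 : Set _) := by
      refine le_normalizer_inf_of_le (fun g hg => Subgroup.mem_normalizer_iff.mpr fun u =>
        Subgroup.mem_normalizer_iff.mp (hRU' hg) u) fun g hg => Subgroup.mem_normalizer_iff.mpr
          fun u => ?_
      simp only [Subgroup.mem_comap, map_mul, map_inv]
      exact Subgroup.mem_normalizer_iff.mp (hnZ g (hRU' hg)) _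
    have hcop : (Nat.card R0).Coprime (Nat.card P0) := by
      rw [Nat.card_congr (Subgroup.subgroupOfEquivOfLe hRD').toEquiv]
      obtain ⟨n, hn⟩ := IsPGroup.iff_card.mp hUx
      refine Nat.Coprime.coprime_dvd_right ((Subgroup.card_dvd_of_le inf_le_left).trans
        (Subgroup.card_comap_dvd_of_injective U _ Subtype.val_injective)) ?_
      rw [hn]
      exact ((Fact.out : x.Prime).coprime_iff_not_dvd.mpr fun hd =>
        (hRσ x Fact.out hd) rfl).symm.pow_right n
    have hmap : Z ≤ (P0 ⊓ Subgroup.centralizer (R0 : Set _)).map (modMap D) := by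
      rw [map_inf_centralizer hR0P hcop
        (Or.inl (haveI := isSolvable_of_le hRθ hθm.1
          Group.isSolvable_of_isSolvable_injective (f := (Subgroup.subgroupOfEquivOfLe
          hRD').toMonoidHom) (MulEquiv.injective _)))]
      refine le_inf (fun z hz => ?_) fun z hz g hg => ?_
      · obtain ⟨u, hu, rfl⟩ := hz.1
        exact ⟨u, ⟨hu, hz⟩, rfl⟩
      · obtain ⟨g, hg, rfl⟩ := hg
        have hle : R ≤ ((Subgroup.centralizer (Z : Set _)).comap (modMap D)).map
            (Subgroup.normalizer (D : Set G)).subtype := iSup_le fun v g' hg' =>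
          ⟨⟨g', hRD v v.2 hg'⟩, hc v v.2 ⟨g', hRD v v.2 hg'⟩ hg', rfl⟩
        obtain ⟨g', hg', he⟩ := hle hg
        rw [← (Subtype.ext he : g' = g)]
        exact (hg' z hz).symm
    have hRA : A ≤ Subgroup.normalizer (R : Set G) :=
      le_normalizer_iSup fun v => mem_normalizer_family (h.pCoreOf_mem hθm v)
    set A0 := A.subgroupOf (Subgroup.normalizer (D : Set G)) with hA0
    have hAP : A0 ≤ Subgroup.normalizer
        ((P0 ⊓ Subgroup.centralizer (R0 : Set _) : Subgroup _) : Set _) := by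
      refine le_normalizer_inf_of_le (le_normalizer_inf_of_le (fun g hg =>
        Subgroup.mem_normalizer_iff.mpr fun u => Subgroup.mem_normalizer_iff.mp (hUA hg) u) ?_)
        (CfsgLib.Coprime.le_normalizer_centralizer fun g hg => Subgroup.mem_normalizer_iff.mpr
          fun u => Subgroup.mem_normalizer_iff.mp (hRA hg) u)
      intro g hg
      refine Subgroup.mem_normalizer_iff.mpr fun u => ?_
      simp only [Subgroup.mem_comap, map_mul, map_inv]
      exact Subgroup.mem_normalizer_iff.mp (hnZ g (hUA hg)) _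
    have hbot : (P0 ⊓ Subgroup.centralizer (R0 : Set _)).map
        (Subgroup.normalizer (D : Set G)).subtype = ⊥ := by
      refine h.eq_bot_of_centralizes_bad (x := x) ha ha1 hθ1 hb (mem_family_of_le hUm ?_ ?_)
        (hUx.to_le ?_) fun v hv _ => ?_
      · rintro _ ⟨u, hu, rfl⟩; exact hu.1.1
      · refine le_normalizer_of_forall fun b hb' _ hg => ?_
        obtain ⟨u, hu, rfl⟩ := hg
        exact ⟨_, forall_of_le_normalizer hAP ⟨b, hAD hb'⟩ hb' u hu, rfl⟩
      · rintro _ ⟨u, hu, rfl⟩; exact hu.1.1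
      · rintro _ ⟨u, hu, rfl⟩ g hg
        exact congrArg Subtype.val (hu.2 ⟨g, hRD v hv hg⟩
          (Subgroup.mem_iSup_of_mem (⟨v, hv⟩ : {v : ℕ // v.Prime}) hg))
    rw [Subgroup.map_eq_bot_iff_of_injective _ Subtype.val_injective] at hbot
    rw [hbot, Subgroup.map_bot] at hmap
    exact hZ1 (le_bot_iff.mp hmap)
  haveI := Fact.mk hv0
  have hvx : v0 ≠ x := by
    rintro rfl
    rw [hO, Subgroup.mem_bot] at hr
    exact hrZ (by rw [show r = 1 from Subtype.ext hr, map_one]; exact one_mem _)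
  set rb := modMap D r with hrb
  set Rb := Subgroup.zpowers rb with hRb
  have hrn : Rb ≤ Subgroup.normalizer (Z : Set _) :=
    Subgroup.zpowers_le.mpr (hnZ r (hRU v0 hv0 hr))
  obtain ⟨n, hn⟩ := IsPGroup.iff_card.mp (hU'x.to_le (inf_le_left : Z ≤ U'))
  obtain ⟨m, hm⟩ := IsPGroup.iff_card.mp (PReduced.isPGroup_pCoreOf v0 (θ a))
  have hord : orderOf rb ∣ v0 ^ m :=
    ((orderOf_map_dvd _ r).trans (dvd_of_eq (Subgroup.orderOf_coe r).symm)).trans
      (hm ▸ Subgroup.orderOf_dvd_natCard _ hr)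
  have hcop : (Nat.card Rb).Coprime (Nat.card Z) := by
    rw [hn, hRb, Nat.card_zpowers]
    exact (((Nat.coprime_primes hv0 Fact.out).mpr hvx).pow m n).coprime_dvd_left hord
  set Zr := ⁅Z, Rb⁆ with hZr
  have hZrZ : Zr ≤ Z := commutator_le_left_of_le_normalizer hrn
  have hZr1 : Zr ≠ ⊥ := fun he => hrZ fun z hz =>
    ((Subgroup.commutator_eq_bot_iff_le_centralizer.mp he hz) rb (Subgroup.mem_zpowers rb)).symm
  have hZrr : ∀ w ∈ Zr, rb * w = w * rb → w = 1 := fun w hw hc => by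
    have h1 : w ∈ (Z ⊓ Subgroup.centralizer (Rb : Set _)) ⊓ ⁅Z, Rb⁆ :=
      Subgroup.mem_inf.mpr ⟨Subgroup.mem_inf.mpr ⟨hZrZ hw, mem_centralizer_singleton_zpowers
        (Subgroup.mem_centralizer_singleton_iff.mpr hc.symm)⟩, hw⟩
    rw [centralizer_inf_commutator_eq_bot hrn hcop, Subgroup.mem_bot] at h1
    exact h1
  set ab := modMap D ⟨a, hAD ha⟩ with hab
  have hra : a * (r : G) = r * a := (Subgroup.mem_centralizer_singleton_iff.mp
    (h.solv.1.1 a ha ha1 (pCoreOf_le _ _ hr))).symm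
  have hrab : ab * rb = rb * ab := by
    rw [hab, hrb, ← map_mul, ← map_mul]
    exact congrArg _ (Subtype.ext hra)
  have hRba : Subgroup.zpowers ab ≤ Subgroup.normalizer (Rb : Set _) :=
    le_normalizer_of_forall fun u hu g hg => by
      obtain ⟨i, rfl⟩ := hu
      obtain ⟨k, rfl⟩ := hg
      have h1 : ab ^ i * rb ^ k = rb ^ k * ab ^ i := ((Commute.zpow_right hrab k).zpow_left i).eq
      rw [h1, mul_inv_cancel_right]
      exact ⟨k, rfl⟩
  have hpz : ab ^ p = 1 := by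
    rw [hab, ← map_pow, show (⟨a, hAD ha⟩ : ↥(Subgroup.normalizer (D : Set G))) ^ p = 1 from
      Subtype.ext (by simpa using h.pow_eq_one ha), map_one]
  have hale : ∀ w ∈ Zr, ab * w * ab⁻¹ ∈ Zr :=
    forall_of_le_normalizer (le_normalizer_commutator
      (Subgroup.zpowers_le.mpr (hnZ ⟨a, hAD ha⟩ (hUA ha))) hRba) ab (Subgroup.mem_zpowers ab)
  have hZX : Zr ≤ bar D X := hZrZ.trans (inf_le_left.trans (Subgroup.map_mono fun g hg => hg.2))
  have hpU : p.Coprime (Nat.card U) := h.p_coprime hUm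
  suffices Zr ≤ Cfsg.pCoreOf x (bar D X) by
    rw [pCoreOf_bar_eq_bot] at this
    exact hZr1 (le_bot_iff.mp this)
  refine le_pCoreOf_of_centralizes (isSolvable_bar hX.1.1 hXN) hZX
    ((hU'x.to_le inf_le_left).to_le hZrZ) fun v hv => ?_
  haveI := Fact.mk hv
  rcases eq_or_ne v x with rfl | hvx'
  · rw [pCoreOf_bar_eq_bot]
    intro u _ y hy
    rw [Subgroup.coe_bot, Set.mem_singleton_iff] at hy
    simp [hy]
  rcases eq_or_ne (Cfsg.pCoreOf v (bar D X)) ⊥ with h0 | h0
  · rw [h0]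
    intro u _ y hy
    rw [Subgroup.coe_bot, Set.mem_singleton_iff] at hy
    simp [hy]
  rw [← bar_coreTwo] at h0 ⊢
  have hCm : coreTwo x v X ∈ Cfsg.signalizerFamily p A θ := mem_family_of_le hX.1
    (coreTwo_le x v X) (normalizer_le_normalizer_coreTwo x v (mem_normalizer_family hX.1))
  have hV : IsPGroup v (bar D (coreTwo x v X)) := by
    rw [bar_coreTwo]
    exact PReduced.isPGroup_pCoreOf v _
  have hpv : p.Coprime v := by
    obtain ⟨k, hk⟩ := IsPGroup.iff_card.mp hV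
    have h1 := (h.p_coprime hCm).coprime_dvd_right (card_bar_dvd D _)
    rw [hk] at h1
    refine (Nat.coprime_pow_right_iff (Nat.pos_of_ne_zero ?_) _ _).mp h1
    rintro rfl
    rw [pow_zero] at hk
    exact h0 (Subgroup.eq_bot_of_card_eq _ hk)
  refine le_centralizer_of_relative (p := p) hV ?_
    (coprime_of_isPGroup hvx'.symm ((hU'x.to_le inf_le_left).to_le hZrZ)) hpv
    (hpU.coprime_dvd_right ((Subgroup.card_dvd_of_le (hZrZ.trans inf_le_left)).trans
      (card_bar_dvd D U))) (i := ab) (r := rb) hpz ?_ ?_ hrab hale ?_ ?_ hZrr ?_ ?_ ?_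
  · intro w hw
    obtain ⟨g, hg, rfl⟩ := (hZrZ hw).1
    exact modMap_mem_normalizer_bar
      (normalizer_le_normalizer_coreTwo x v Subgroup.le_normalizer hg.2)
  · exact modMap_mem_normalizer_bar
      (normalizer_le_normalizer_coreTwo x v (mem_normalizer_family hX.1) ha)
  · exact modMap_mem_normalizer_bar
      (normalizer_le_normalizer_coreTwo x v Subgroup.le_normalizer (hRX v0 hv0 hr))
  · exact forall_of_le_normalizer (le_normalizer_commutator hrn Subgroup.le_normalizer) rb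
      (Subgroup.mem_zpowers rb)
  · intro w hw hc
    obtain ⟨g, hg, hgc, hge⟩ := exists_fixed_of_bar hUN (h.pow_eq_one ha) (hAD ha) (hUA ha) hpU
      (hZrZ hw).1 hc
    have h1 : g ∈ U ⊓ Subgroup.centralizer ({a} : Set G) :=
      Subgroup.mem_inf.mpr ⟨hg, Subgroup.mem_centralizer_singleton_iff.mpr hgc.symm⟩
    rw [hUa, Subgroup.mem_bot] at h1
    subst h1
    rw [← hge (one_mem _)]
    exact map_one _
  · exact (((h.p_coprime hθm).coprime_dvd_right (hm ▸ Subgroup.card_dvd_of_le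
      (pCoreOf_le _ _))).symm.coprime_dvd_left hord)
  · obtain ⟨k, hk⟩ := IsPGroup.iff_card.mp ((hU'x.to_le inf_le_left).to_le hZrZ)
    rw [hk]
    exact (((Nat.coprime_primes hv0 Fact.out).mpr hvx).pow m k).coprime_dvd_left hord
  · intro t ht hc w hw
    obtain ⟨s, hs, hsc, hse⟩ := exists_fixed_of_bar ((coreTwo_le x v X).trans hXN)
      (h.pow_eq_one ha) (hAD ha)
      (normalizer_le_normalizer_coreTwo x v (mem_normalizer_family hX.1) ha)
      (h.p_coprime hCm) ht hc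
    have hsN : s ∈ Subgroup.normalizer (D : Set G) := hXN (coreTwo_le x v X hs)
    obtain ⟨g, hg, rfl⟩ := (hZrZ hw).1
    set c := (r : G) * s⁻¹ * (r : G)⁻¹ * s with hc'
    have hsθ : s ∈ θ a := hX.1.2.2.2 a ha ha1
      ⟨coreTwo_le x v X hs, Subgroup.mem_centralizer_singleton_iff.mpr hsc.symm⟩
    have hcR : c ∈ Cfsg.pCoreOf v0 (θ a) := by
      have := mul_mem hr (forall_of_le_normalizer (le_normalizer_core v0 (θ a)) s⁻¹
        (inv_mem hsθ) _ (inv_mem hr))
      simpa [hc', mul_assoc] using this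
    have hcC : c ∈ coreTwo x v X := by
      have := mul_mem (forall_of_le_normalizer
        (normalizer_le_normalizer_coreTwo x v (A := X) (X := X) Subgroup.le_normalizer) r
          (hRX v0 hv0 hr) _
        (inv_mem hs)) hs
      simpa [hc', mul_assoc] using this
    have h1 : c * (g : G) * c⁻¹ * (g : G)⁻¹ ∈ D := by
      refine mem_pCoreOf_of_mem_coreTwo hvx'.symm hUx ?_
        (mul_mem (forall_of_le_normalizer (hRU v0 hv0) c hcR g hg) (inv_mem hg))
      have := mul_mem hcC (forall_of_le_normalizer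
        (normalizer_le_normalizer_coreTwo x v (A := X) (X := X) Subgroup.le_normalizer) g hg.2 _
          (inv_mem hcC))
      simpa [mul_assoc] using this
    have hcN : c ∈ Subgroup.normalizer (D : Set G) := hXN (coreTwo_le x v X hcC)
    have h2 : modMap D (⟨c, hcN⟩ * g * ⟨c, hcN⟩⁻¹ * g⁻¹) = 1 :=
      (QuotientGroup.eq_one_iff _).mpr h1
    rw [map_mul, map_inv, map_mul, map_inv, mul_inv_eq_one, mul_inv_eq_iff_eq_mul, map_mul] at h2
    have h3 : (rb * t * rb⁻¹)⁻¹ * t = modMap D ⟨c, hcN⟩ := by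
      rw [← hse hsN, hrb, ← map_inv, ← map_mul, ← map_mul, ← map_inv, ← map_mul]
      refine congrArg _ (Subtype.ext ?_)
      show ((r : G) * s * (r : G)⁻¹)⁻¹ * s = c
      rw [hc']
      group
    rw [h3]
    exact h2.symm

/-- There are no three primes. -/
theorem not_threePrimes (h3 : ThreePrimes A θ) : False := by
  obtain ⟨x, hx, hL⟩ := h.exists_Lam_ne_bot h3
  haveI := Fact.mk hx
  obtain ⟨a, ha, ha1, hb⟩ := h.exists_bad hL
  have hθm := h.theta_mem ha ha1
  have hθ1 := h.theta_ne_bot_of_bad hL ha ha1 hb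
  have hCθ := h.inf_le_theta ha ha1
  set Λ := Lam A θ x with hΛ
  have hRΛ : ∀ v : ℕ, v.Prime → Cfsg.pCoreOf v (θ a) ≤ Subgroup.normalizer (Λ : Set G) := by
    intro v hv
    rcases eq_or_ne v x with rfl | hvx
    · rw [h.pCoreOf_theta_of_bad ha ha1 hb]; exact bot_le
    · exact h.pCoreOf_le_normalizer_Lam h3 ha ha1 hb hv hvx
  have hP : conjClosure Λ (θ a) ≤ Pi A θ x := by
    refine h.climb ha hθm (h.solv.1.1 a ha ha1) hCθ (P := fun N => conjClosure Λ N ≤ Pi A θ x)
      (conjClosure_le_iff.mpr fun t ht u hu => ?_) ?_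
    · rw [Subgroup.mem_bot] at ht
      simpa [ht] using h.Lam_le_Pi hu
    intro N T K hK haK hNle hTle hTK hNA hNC hTA hTC hTN hPN
    have hNθ : N ≤ Subgroup.normalizer (conjClosure Λ N : Set G) :=
      le_normalizer_conjClosure_self _ _
    have hm : conjClosure Λ N ∈ Cfsg.signalizerFamily p A θ :=
      h.mem_family_Pi hPN (le_normalizer_conjClosure hNA h.A_le_normalizer_Lam)
    have hm1 : conjClosure Λ N ≠ ⊥ := fun he => hL (le_bot_iff.mp (he ▸ le_conjClosure Λ N))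
    have hmx : IsPGroup x (conjClosure Λ N) := (h.Pi_isPGroup x).to_le hPN
    set Y := normMember A θ (conjClosure Λ N) with hY
    have hRY : ∀ v : ℕ, v.Prime → Cfsg.pCoreOf v (θ a) ≤ Y := fun v hv =>
      h.le_normMember (h.pCoreOf_mem hθm v)
        (le_normalizer_conjClosure' (hNle.trans (le_normalizer_core v _)) (hRΛ v hv))
    obtain ⟨X, hX, hYX⟩ := h.exists_closed (h.normMember_mem hm hm1)
      (h.le_normMember h.inf_mem (le_normalizer_conjClosure hNC h.inf_le_normalizer_Lam))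
      (fun he => hm1 (le_bot_iff.mp ((h.le_pCoreOf_normMember hm hmx).trans he.le)))
    have hNX : N ≤ X := (h.le_normMember (mem_family_of_le hθm hNle hNA) hNθ).trans hYX
    obtain ⟨e, heK, he1, hge⟩ := h.exists_good_of_plane hL hK
    have heA := hK.1 heK
    obtain ⟨Xe, hXe, heXe, hLe⟩ := h.exists_closed_of_good heA he1 hge
    have hTe : T ≤ θ e := fun t ht => hθm.2.2.2 e heA he1
      ⟨hTle ht, Subgroup.centralizer_le (by simpa using heK) (hTK ht)⟩
    have hW : conjClosure Λ T ≤ Cfsg.pCoreOf x Xe := conjClosure_le_iff.mpr fun t ht u hu =>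
      forall_of_le_normalizer (le_normalizer_core x Xe) t (heXe (hTe ht)) u (hLe hu)
    have hWX : conjClosure Λ T ≤ Cfsg.pCoreOf x X :=
      h.le_pCoreOf_of_bad ha ha1 hθ1 hb hX (fun v hv => (hRY v hv).trans hYX)
        (hW.trans (Closed.pCoreOf_le_Pi h hXe)) (le_normalizer_conjClosure hTA h.A_le_normalizer_Lam)
        fun v hv => le_normalizer_conjClosure' (hTle.trans (le_normalizer_core v _)) (hRΛ v hv)
    refine conjClosure_le_iff.mpr fun g hg u hu => ?_
    obtain ⟨n, hn, t, ht, rfl⟩ := exists_mul_eq h hTN hg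
    rw [show n * t * u * (n * t)⁻¹ = n * (t * u * t⁻¹) * n⁻¹ by group]
    exact Closed.pCoreOf_le_Pi h hX (forall_of_le_normalizer (le_normalizer_core x X) n (hNX hn)
      _ (hWX (conj_mem_conjClosure ht hu)))
  exact hb (h.good_of_normalizes ha ha1
    (h.mem_family_Pi hP (le_normalizer_conjClosure (mem_normalizer_family hθm) h.A_le_normalizer_Lam))
    (fun he => hL (le_bot_iff.mp (he ▸ le_conjClosure Λ (θ a))))
    ((h.Pi_isPGroup x).to_le hP) (le_normalizer_conjClosure_self _ _))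

end Minimal

end CfsgLib.Signalizer
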