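import Mathlib
import Cfsg.Agent.Lib.Signalizer.Glue

/-!
Two primes: maximal members with two nontrivial cores, and a universal subgroup in the centre of
one of the largest members of prime power order.
-/

set_option autoImplicit false
set_option linter.style.haveILetI false
set_option linter.unusedSectionVars false

open Pointwise
open CfsgLib.Coprime

namespace CfsgLib.Signalizer

variable {G : Type*} [Group G]

/-- The primes involved are `x` and `y`. -/
structure Two (A : Subgroup G) (θ : G → Subgroup G) (x y : ℕ) : Prop where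
  primeX : x.Prime
  primeY : y.Prime
  ne : x ≠ y
  only : ∀ q, InPi A θ q → q = x ∨ q = y

theorem Two.symm {A : Subgroup G} {θ : G → Subgroup G} {x y : ℕ} (t : Two A θ x y) :
    Two A θ y x :=
  ⟨t.primeY, t.primeX, t.ne.symm, fun q hq => (t.only q hq).symm⟩

/-- A maximal member among those containing `θ(A)`. -/
def IsMax (p : ℕ) (A : Subgroup G) (θ : G → Subgroup G) (M : Subgroup G) : Prop :=
  Maximal (fun X : Subgroup G =>
    X ∈ Cfsg.signalizerFamily p A θ ∧ Cfsg.signalizerInf A θ ≤ X) M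

/-- A maximal member with `O_x` and `O_y` both nontrivial. -/
structure Multi (p : ℕ) (A : Subgroup G) (θ : G → Subgroup G) (x y : ℕ) (M : Subgroup G) :
    Prop where
  max : IsMax p A θ M
  coreX : Cfsg.pCoreOf x M ≠ ⊥
  coreY : Cfsg.pCoreOf y M ≠ ⊥

theorem Multi.symm {p : ℕ} {A : Subgroup G} {θ : G → Subgroup G} {x y : ℕ} {M : Subgroup G}
    (hM : Multi p A θ x y M) : Multi p A θ y x M :=
  ⟨hM.max, hM.coreY, hM.coreX⟩

/-- The centre of `O_v(M)`. -/
def Zc (v : ℕ) (M : Subgroup G) : Subgroup G :=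
  Cfsg.pCoreOf v M ⊓ Subgroup.centralizer (Cfsg.pCoreOf v M : Set G)

/-- The centre of `Pi v`, inside the cores of the maximal members with two cores that contain
`Pi v`. -/
def Z0 (p : ℕ) (A : Subgroup G) (θ : G → Subgroup G) (v w : ℕ) : Subgroup G :=
  Pi A θ v ⊓ Subgroup.centralizer (Pi A θ v : Set G) ⊓
    ⨅ M : {M : Subgroup G // Multi p A θ v w M ∧ Pi A θ v ≤ M}, Cfsg.pCoreOf v (M : Subgroup G)

/-- `θ(a)` lies in a member whose `O_v` contains `Z0`. -/
def Covered (p : ℕ) (A : Subgroup G) (θ : G → Subgroup G) (v w : ℕ) (a : G) : Prop :=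
  ∃ X ∈ Cfsg.signalizerFamily p A θ, θ a ≤ X ∧ Z0 p A θ v w ≤ Cfsg.pCoreOf v X

theorem commute_of_inf_eq_bot {U V : Subgroup G} (h : U ⊓ V = ⊥) {u v : G} (hu : u ∈ U)
    (hv : v ∈ V) (h1 : v * u * v⁻¹ ∈ U) (h2 : u * v⁻¹ * u⁻¹ ∈ V) : u * v = v * u := by
  have h3 : v * u * v⁻¹ * u⁻¹ ∈ U ⊓ V := Subgroup.mem_inf.mpr ⟨mul_mem h1 (inv_mem hu), by
    simpa [mul_assoc] using mul_mem hv h2⟩
  rw [h, Subgroup.mem_bot, mul_inv_eq_one, mul_inv_eq_iff_eq_mul] at h3
  exact h3.symm

variable [Finite G] {p : ℕ} [hp : Fact p.Prime] {A : Subgroup G} {θ : G → Subgroup G}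
  {x y : ℕ} [hx : Fact x.Prime] [hy : Fact y.Prime]

theorem pCoreOf_commute (hxy : x ≠ y) {X : Subgroup G} :
    Cfsg.pCoreOf x X ≤ Subgroup.centralizer (Cfsg.pCoreOf y X : Set G) := fun u hu v hv =>
  (commute_of_inf_eq_bot (inf_eq_bot_of_isPGroup hxy (PReduced.isPGroup_pCoreOf x X)
    (PReduced.isPGroup_pCoreOf y X)) hu hv
    (forall_of_le_normalizer (le_normalizer_core x X) v (pCoreOf_le y X hv) u hu)
    (forall_of_le_normalizer (le_normalizer_core y X) u (pCoreOf_le x X hu) _ (inv_mem hv))).symm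

theorem inter_ne_bot_of_normalizes {v : ℕ} [Fact v.Prime] {P N T : Subgroup G}
    (hP : IsPGroup v P) (hNP : N ≤ P) (hTP : T ≤ P) (hT : T ≤ Subgroup.normalizer (N : Set G))
    (hN : N ≠ ⊥) : N ⊓ Subgroup.centralizer (T : Set G) ≠ ⊥ := by
  intro he
  refine inf_centralizer_ne_bot (hP.to_le (sup_le hNP hTP)) (le_sup_left : N ≤ N ⊔ T)
    (sup_le Subgroup.le_normalizer hT) hN (le_bot_iff.mp (he ▸ inf_le_inf_left _ ?_))
  exact Subgroup.centralizer_le (le_sup_right : T ≤ N ⊔ T)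

theorem Zc_ne_bot {v : ℕ} [Fact v.Prime] {M : Subgroup G} (hM : Cfsg.pCoreOf v M ≠ ⊥) :
    Zc v M ≠ ⊥ :=
  inf_centralizer_ne_bot (PReduced.isPGroup_pCoreOf v M) le_rfl Subgroup.le_normalizer hM

theorem le_normalizer_Zc (v : ℕ) {R M : Subgroup G} (hR : R ≤ Subgroup.normalizer (M : Set G)) :
    R ≤ Subgroup.normalizer (Zc v M : Set G) :=
  le_normalizer_inf_of_le (normalizer_le_normalizer_pCoreOf v hR)
    (CfsgLib.Coprime.le_normalizer_centralizer (normalizer_le_normalizer_pCoreOf v hR))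

namespace Minimal

variable (h : Minimal p A θ)
include h

/-! #### Maximal members -/

theorem exists_max {X : Subgroup G} (hX : X ∈ Cfsg.signalizerFamily p A θ)
    (hC : Cfsg.signalizerInf A θ ≤ X) : ∃ M, IsMax p A θ M ∧ X ≤ M := by
  obtain ⟨M, hXM, hM⟩ := Finite.exists_le_maximal (p := fun X : Subgroup G =>
    X ∈ Cfsg.signalizerFamily p A θ ∧ Cfsg.signalizerInf A θ ≤ X) (a := X) ⟨hX, hC⟩
  exact ⟨M, hM, hXM⟩

theorem exists_max_theta {a : G} (ha : a ∈ A) (ha1 : a ≠ 1) : ∃ M, IsMax p A θ M ∧ θ a ≤ M :=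
  h.exists_max (h.theta_mem ha ha1) (h.inf_le_theta ha ha1)

theorem max_mem {M : Subgroup G} (hM : IsMax p A θ M) : M ∈ Cfsg.signalizerFamily p A θ :=
  hM.prop.1

theorem inf_le_normalizer_of_max {M : Subgroup G} (hM : IsMax p A θ M) :
    Cfsg.signalizerInf A θ ≤ Subgroup.normalizer (M : Set G) :=
  hM.prop.2.trans Subgroup.le_normalizer

theorem max_ne_bot {M : Subgroup G} (hM : IsMax p A θ M) : M ≠ ⊥ := by
  intro he
  refine h.not_cover ⟨M, hM.prop.1, fun a ha ha1 => ?_⟩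
  exact hM.2 ⟨h.theta_mem ha ha1, h.inf_le_theta ha ha1⟩ (he.le.trans bot_le)

theorem pCoreOf_eq_bot_of_ne {X : Subgroup G} (t : Two A θ x y)
    (hX : X ∈ Cfsg.signalizerFamily p A θ) {v : ℕ} (hv : v.Prime) (hvx : v ≠ x) (hvy : v ≠ y) :
    Cfsg.pCoreOf v X = ⊥ := by
  by_contra hne
  rcases t.only v (h.inPi_of_pCoreOf hX hv hne) with h' | h'
  exacts [hvx h', hvy h']

theorem max_core (t : Two A θ x y) {M : Subgroup G} (hM : IsMax p A θ M) :
    Cfsg.pCoreOf x M ≠ ⊥ ∨ Cfsg.pCoreOf y M ≠ ⊥ := by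
  obtain ⟨v, hv, hne⟩ := h.exists_pCoreOf_ne_bot (h.max_mem hM).1 (h.max_ne_bot hM)
  rcases t.only v (h.inPi_of_pCoreOf (h.max_mem hM) hv hne) with rfl | rfl
  exacts [Or.inl hne, Or.inr hne]

theorem le_core_of_two (t : Two A θ x y) {X : Subgroup G}
    (hX : X ∈ Cfsg.signalizerFamily p A θ) {U : Subgroup G} (hUX : U ≤ X) (hU : IsPGroup x U)
    (h1 : U ≤ Subgroup.centralizer (Cfsg.pCoreOf x X : Set G))
    (h2 : U ≤ Subgroup.centralizer (Cfsg.pCoreOf y X : Set G)) : U ≤ Cfsg.pCoreOf x X := by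
  refine le_pCoreOf_of_centralizes hX.1 hUX hU fun v hv => ?_
  rcases eq_or_ne v x with rfl | hvx
  · exact h1
  rcases eq_or_ne v y with rfl | hvy
  · exact h2
  rw [h.pCoreOf_eq_bot_of_ne t hX hv hvx hvy]
  intro u _ f hf
  rw [Subgroup.coe_bot, Set.mem_singleton_iff] at hf
  simp [hf]

theorem le_max_of_normalizes {M : Subgroup G} (hM : IsMax p A θ M) {V : Subgroup G}
    (hV : V ∈ Cfsg.signalizerFamily p A θ) (hV1 : V ≠ ⊥)
    (hMV : M ≤ Subgroup.normalizer (V : Set G)) {Z : Subgroup G}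
    (hZ : Z ∈ Cfsg.signalizerFamily p A θ) (hZV : Z ≤ Subgroup.normalizer (V : Set G)) : Z ≤ M :=
  (h.le_normMember hZ hZV).trans (hM.2 ⟨h.normMember_mem hV hV1,
    hM.prop.2.trans (h.le_normMember (h.max_mem hM) hMV)⟩ (h.le_normMember (h.max_mem hM) hMV))

theorem Zc_mem {v : ℕ} {M : Subgroup G} (hM : M ∈ Cfsg.signalizerFamily p A θ) :
    Zc v M ∈ Cfsg.signalizerFamily p A θ :=
  mem_family_of_le hM (inf_le_left.trans (pCoreOf_le v M))
    (le_normalizer_Zc v (mem_normalizer_family hM))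

/-- A subgroup of `O_x(M)` in a member `Y` centralizes `O_y(Y)`. -/
theorem le_centralizer_core (t : Two A θ x y) {M Y Q : Subgroup G}
    (hM : Multi p A θ x y M) (hY : Y ∈ Cfsg.signalizerFamily p A θ)
    (hCY : Cfsg.signalizerInf A θ ≤ Subgroup.normalizer (Y : Set G)) (hQY : Q ≤ Y)
    (hQM : Q ≤ Cfsg.pCoreOf x M) : Q ≤ Subgroup.centralizer (Cfsg.pCoreOf y Y : Set G) := by
  have hMm := h.max_mem hM.max
  set Z := Zc y M with hZ
  set H := Cfsg.pCoreOf y Y ⊔ Z with hH
  have hHPi : H ≤ Pi A θ y := sup_le (h.pCoreOf_le_Pi hY hCY y)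
    (inf_le_left.trans (h.pCoreOf_le_Pi hMm (h.inf_le_normalizer_of_max hM.max) y))
  have hHA : A ≤ Subgroup.normalizer (H : Set G) := le_normalizer_sup_of_le
    (normalizer_le_normalizer_pCoreOf y (mem_normalizer_family hY))
    (le_normalizer_Zc y (mem_normalizer_family hMm))
  have hQZ : Q ≤ Subgroup.centralizer (Z : Set G) :=
    (hQM.trans (pCoreOf_commute t.ne)).trans (Subgroup.centralizer_le inf_le_left)
  have hQH : Q ≤ Subgroup.normalizer (H : Set G) := le_normalizer_sup_of_le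
    (hQY.trans (le_normalizer_core y Y)) (hQZ.trans (Subgroup.centralizer_le_normalizer _))
  obtain ⟨n, hn⟩ := IsPGroup.iff_card.mp ((PReduced.isPGroup_pCoreOf x M).to_le hQM)
  refine (pxq (p := y) (P := Z) (Q := Q) ((PReduced.isPGroup_pCoreOf y M).to_le inf_le_left)
    (hn ▸ ((Nat.coprime_primes t.primeX t.primeY).mpr t.ne).pow_left n)
    (Subgroup.le_centralizer_iff.mp hQZ) ((h.Pi_isPGroup y).to_le hHPi)
    (le_sup_right.trans Subgroup.le_normalizer) hQH ?_).trans
    (Subgroup.centralizer_le (le_sup_left : Cfsg.pCoreOf y Y ≤ H))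
  intro g hg q hq
  have hgM : g ∈ M := h.le_max_of_normalizes hM.max (h.Zc_mem hMm) (Zc_ne_bot hM.coreY)
    (le_normalizer_Zc y Subgroup.le_normalizer)
    (mem_family_of_le (h.mem_family_Pi hHPi hHA) inf_le_left
      (le_normalizer_inf_of_le hHA (CfsgLib.Coprime.le_normalizer_centralizer
        (le_normalizer_Zc y (mem_normalizer_family hMm)))))
    (inf_le_right.trans (Subgroup.centralizer_le_normalizer _)) hg
  have hgH : g ∈ H := (Subgroup.mem_inf.mp hg).1
  exact (commute_of_inf_eq_bot (inf_eq_bot_of_isPGroup t.ne ((PReduced.isPGroup_pCoreOf x M))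
    ((h.Pi_isPGroup y).to_le hHPi)) (hQM hq) hgH
    (forall_of_le_normalizer (le_normalizer_core x M) g hgM q (hQM hq))
    (forall_of_le_normalizer hQH q hq _ (inv_mem hgH)))

/-- An `x`-element centralizing `O_y(Y)` commutes with a `y`-element centralizing `O_x(Y)`. -/
theorem commute_of_centralizes (t : Two A θ x y) {Y : Subgroup G}
    (hY : Y ∈ Cfsg.signalizerFamily p A θ) {w f : G} (hw : w ∈ Y) (hf : f ∈ Y)
    (hwy : w ∈ Subgroup.centralizer (Cfsg.pCoreOf y Y : Set G))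
    (hfx : f ∈ Subgroup.centralizer (Cfsg.pCoreOf x Y : Set G))
    (hwo : ∃ k : ℕ, w ^ x ^ k = 1) (hfo : ∃ k : ℕ, f ^ y ^ k = 1) : f * w = w * f := by
  set X1 := Cfsg.pCoreOf x Y with hX1
  set Y1 := Cfsg.pCoreOf y Y with hY1
  have hYX : Y ≤ Subgroup.normalizer (Subgroup.centralizer (X1 : Set G) : Set G) :=
    CfsgLib.Coprime.le_normalizer_centralizer (le_normalizer_core x Y)
  have hYY : Y ≤ Subgroup.normalizer (Subgroup.centralizer (Y1 : Set G) : Set G) :=
    CfsgLib.Coprime.le_normalizer_centralizer (le_normalizer_core y Y)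
  have hXY : X1 ⊓ Y1 = ⊥ := inf_eq_bot_of_isPGroup t.ne (PReduced.isPGroup_pCoreOf x Y)
    (PReduced.isPGroup_pCoreOf y Y)
  set c := f * w * f⁻¹ * w⁻¹ with hc
  set K := Y ⊓ (Subgroup.centralizer (X1 : Set G) ⊓ Subgroup.centralizer (Y1 : Set G)) with hK
  have hcK : c ∈ K := by
    refine Subgroup.mem_inf.mpr ⟨mul_mem (mul_mem (mul_mem hf hw) (inv_mem hf)) (inv_mem hw),
      Subgroup.mem_inf.mpr ⟨?_, ?_⟩⟩
    · have := mul_mem hfx (forall_of_le_normalizer hYX w hw _ (inv_mem hfx))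
      simpa [hc, mul_assoc] using this
    · exact mul_mem (forall_of_le_normalizer hYY f hf w hwy) (inv_mem hwy)
  have hKle : K ≤ X1 ⊔ Y1 := by
    refine Subgroup.subgroupOf_eq_top.mp ?_
    rw [← Subgroup.index_eq_one]
    by_contra hne
    obtain ⟨q, hq, hd⟩ := Nat.exists_prime_and_dvd hne
    haveI := Fact.mk hq
    have hqP : InPi A θ q := h.inPi_of_dvd hY hq ((hd.trans (Subgroup.index_dvd_card _)).trans
      (Subgroup.card_dvd_of_le inf_le_left))
    obtain ⟨P⟩ : Nonempty (Sylow q K) := inferInstance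
    refine P.not_dvd_index (hd.trans (Subgroup.index_dvd_of_le fun g hg => ?_))
    have hgK : (g : G) ∈ (P : Subgroup K).map K.subtype := Subgroup.mem_map_of_mem _ hg
    show (g : G) ∈ X1 ⊔ Y1
    rcases t.only q hqP with rfl | rfl
    · exact Subgroup.mem_sup_left (h.le_core_of_two t hY
        ((Subgroup.map_subtype_le _).trans inf_le_left) (P.2.map _)
        ((Subgroup.map_subtype_le _).trans (inf_le_right.trans inf_le_left))
        ((Subgroup.map_subtype_le _).trans (inf_le_right.trans inf_le_right)) hgK)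
    · exact Subgroup.mem_sup_right (h.le_core_of_two t.symm hY
        ((Subgroup.map_subtype_le _).trans inf_le_left) (P.2.map _)
        ((Subgroup.map_subtype_le _).trans (inf_le_right.trans inf_le_right))
        ((Subgroup.map_subtype_le _).trans (inf_le_right.trans inf_le_left)) hgK)
  obtain ⟨c1, hc1, c2, hc2, hc12⟩ := exists_mul_eq h
    ((pCoreOf_le y Y).trans (le_normalizer_core x Y)) (hKle hcK)
  have hfc1 : f * c1 = c1 * f := (hfx c1 hc1).symm
  have hwc2 : w * c2 = c2 * w := (hwy c2 hc2).symm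
  have hfw : f * w * f⁻¹ = c1 * c2 * w := by rw [hc12, hc]; group
  have hn : ∀ n : ℕ, ∃ z ∈ Y1, f ^ n * w * (f ^ n)⁻¹ = c1 ^ n * z * w := by
    intro n
    induction n with
    | zero => exact ⟨1, one_mem _, by simp⟩
    | succ n ih =>
      obtain ⟨z, hz, he⟩ := ih
      have hz' := forall_of_le_normalizer (le_normalizer_core y Y) f hf z hz
      refine ⟨f * z * f⁻¹ * c2, mul_mem hz' hc2, ?_⟩
      have h1 : c1 * (f * z * f⁻¹) = f * z * f⁻¹ * c1 := (pCoreOf_commute t.ne hc1 _ hz').symm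
      have h2 : f * c1 ^ n * f⁻¹ = c1 ^ n := by
        rw [((show Commute f c1 from hfc1).pow_right n).eq, mul_inv_cancel_right]
      calc f ^ (n + 1) * w * (f ^ (n + 1))⁻¹ = f * (f ^ n * w * (f ^ n)⁻¹) * f⁻¹ := by
            rw [pow_succ']; group
        _ = f * (c1 ^ n * z * w) * f⁻¹ := by rw [he]
        _ = f * c1 ^ n * f⁻¹ * (f * z * f⁻¹) * (f * w * f⁻¹) := by group
        _ = c1 ^ n * (f * z * f⁻¹ * c1) * c2 * w := by rw [h2, hfw]; group
        _ = c1 ^ (n + 1) * (f * z * f⁻¹ * c2) * w := by rw [← h1, pow_succ]; group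
  have h1c1 : c1 = 1 := by
    obtain ⟨k, hk⟩ := hfo
    obtain ⟨z, hz, he⟩ := hn (y ^ k)
    rw [hk, one_mul, inv_one, mul_one, eq_comm, mul_eq_right, mul_eq_one_iff_eq_inv] at he
    have hmem : c1 ^ y ^ k ∈ X1 ⊓ Y1 := Subgroup.mem_inf.mpr ⟨pow_mem hc1 _, he ▸ inv_mem hz⟩
    rw [hXY, Subgroup.mem_bot] at hmem
    obtain ⟨j, hj⟩ := PReduced.isPGroup_pCoreOf x Y ⟨c1, hc1⟩
    exact orderOf_eq_one_iff.mp (Nat.eq_one_of_dvd_coprimes
      (((Nat.coprime_primes t.primeY t.primeX).mpr t.ne.symm).pow k j)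
      (orderOf_dvd_of_pow_eq_one hmem)
      (orderOf_dvd_of_pow_eq_one (by simpa using congrArg Subtype.val hj)))
  rw [h1c1, one_mul] at hfw
  have h1c2 : c2 = 1 := by
    obtain ⟨k, hk⟩ := hwo
    have h1 : (f * w * f⁻¹) ^ x ^ k = 1 := by rw [conj_pow, hk]; group
    rw [hfw, (show Commute c2 w from hwc2.symm).mul_pow, hk, mul_one] at h1
    obtain ⟨j, hj⟩ := PReduced.isPGroup_pCoreOf y Y ⟨c2, hc2⟩
    exact orderOf_eq_one_iff.mp (Nat.eq_one_of_dvd_coprimes
      (((Nat.coprime_primes t.primeX t.primeY).mpr t.ne).pow k j)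
      (orderOf_dvd_of_pow_eq_one h1)
      (orderOf_dvd_of_pow_eq_one (by simpa using congrArg Subtype.val hj)))
  rw [h1c2, one_mul, mul_inv_eq_iff_eq_mul] at hfw
  exact hfw

/-- Pushing a subgroup of `O_x(M)` into `O_x(Y)`. -/
theorem le_core_of_trick (t : Two A θ x y) {M Y E F : Subgroup G}
    (hY : Y ∈ Cfsg.signalizerFamily p A θ) (hEY : E ≤ Y) (hFY : F ≤ Y)
    (hF : IsPGroup y F)
    (hEc : E ≤ Subgroup.centralizer (Cfsg.pCoreOf y Y : Set G))
    (hFc : F ≤ Subgroup.centralizer (Cfsg.pCoreOf x Y : Set G))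
    (hEM : E ≤ Cfsg.pCoreOf x M)
    (hmax : ∀ Z ∈ Cfsg.signalizerFamily p A θ, Z ≤ Subgroup.centralizer (F : Set G) → Z ≤ M) :
    E ≤ Cfsg.pCoreOf x Y := by
  set W := Subgroup.closure
    {w | w ∈ Y ∧ w ∈ Subgroup.centralizer (Cfsg.pCoreOf y Y : Set G) ∧ ∃ k : ℕ, w ^ x ^ k = 1}
    with hW
  have hWn : ∀ {R : Subgroup G}, R ≤ Subgroup.normalizer (Y : Set G) →
      R ≤ Subgroup.normalizer (W : Set G) := fun {R} hR => by
    refine le_normalizer_of_forall fun r hr u hu => ?_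
    have h1 : W ≤ W.comap (MulAut.conj r).toMonoidHom := by
      refine (Subgroup.closure_le _).mpr fun w ⟨hw1, hw2, k, hk⟩ => ?_
      refine Subgroup.subset_closure ⟨forall_of_le_normalizer hR r hr w hw1,
        forall_of_le_normalizer (CfsgLib.Coprime.le_normalizer_centralizer
          (normalizer_le_normalizer_pCoreOf y hR)) r hr w hw2, k, ?_⟩
      show (r * w * r⁻¹) ^ x ^ k = 1
      rw [conj_pow, hk]
      group
    exact h1 hu
  have hWY : W ≤ Y := (Subgroup.closure_le _).mpr fun w hw => hw.1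
  have hEW : E ≤ W := fun e he => by
    obtain ⟨k, hk⟩ := PReduced.isPGroup_pCoreOf x M ⟨e, hEM he⟩
    exact Subgroup.subset_closure ⟨hEY he, hEc he, k, by simpa using congrArg Subtype.val hk⟩
  have hWM : W ≤ M := by
    refine hmax W (mem_family_of_le hY hWY (hWn (mem_normalizer_family hY)))
      ((Subgroup.closure_le _).mpr fun w ⟨hw1, hw2, hw3⟩ f hf => ?_)
    obtain ⟨k, hk⟩ := hF ⟨f, hf⟩
    exact h.commute_of_centralizes t hY hw1 (hFY hf) hw2 (hFc hf) hw3
      ⟨k, by simpa using congrArg Subtype.val hk⟩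
  refine ((le_inf hEM hEW).trans (PReduced.le_pCoreOf inf_le_right
    (le_normalizer_inf_of_le (hWM.trans (le_normalizer_core x M)) Subgroup.le_normalizer)
    ((PReduced.isPGroup_pCoreOf x M).to_le inf_le_left))).trans ?_
  exact PReduced.le_pCoreOf ((pCoreOf_le x W).trans hWY)
    (normalizer_le_normalizer_pCoreOf x (hWn Subgroup.le_normalizer))
    (PReduced.isPGroup_pCoreOf x W)

/-- A maximal member containing both cores of `M` equals `M`. -/
theorem eq_of_cores_le (t : Two A θ x y) {M Y : Subgroup G} (hM : Multi p A θ x y M)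
    (hY : IsMax p A θ Y) (h1 : Cfsg.pCoreOf x M ≤ Y) (h2 : Cfsg.pCoreOf y M ≤ Y) : Y = M := by
  have step : ∀ {M Y : Subgroup G}, Multi p A θ x y M → IsMax p A θ Y →
      Cfsg.pCoreOf x M ≤ Y → Cfsg.pCoreOf y M ≤ Y →
        Cfsg.pCoreOf x M ≤ Cfsg.pCoreOf x Y ∧ Cfsg.pCoreOf y M ≤ Cfsg.pCoreOf y Y := by
    intro M Y hM hY h1 h2
    have hYm := h.max_mem hY
    have hMm := h.max_mem hM.max
    have c1 := h.le_centralizer_core t hM hYm (h.inf_le_normalizer_of_max hY) h1 le_rfl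
    have c2 := h.le_centralizer_core t.symm hM.symm hYm (h.inf_le_normalizer_of_max hY) h2 le_rfl
    refine ⟨h.le_core_of_trick t hYm h1 h2 (PReduced.isPGroup_pCoreOf y M) c1 c2 le_rfl
      fun Z hZ hZc => ?_, h.le_core_of_trick t.symm hYm h2 h1 (PReduced.isPGroup_pCoreOf x M) c2 c1
        le_rfl fun Z hZ hZc => ?_⟩
    · exact h.le_max_of_normalizes hM.max (h.pCoreOf_mem hMm y) hM.coreY (le_normalizer_core y M)
        hZ (hZc.trans (Subgroup.centralizer_le_normalizer _))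
    · exact h.le_max_of_normalizes hM.max (h.pCoreOf_mem hMm x) hM.coreX (le_normalizer_core x M)
        hZ (hZc.trans (Subgroup.centralizer_le_normalizer _))
  obtain ⟨k1, k2⟩ := step hM hY h1 h2
  have hYM : Multi p A θ x y Y := ⟨hY, fun he => hM.coreX (le_bot_iff.mp (he ▸ k1)),
    fun he => hM.coreY (le_bot_iff.mp (he ▸ k2))⟩
  have hMm := h.max_mem hM.max
  have hYm := h.max_mem hY
  have j1 : Cfsg.pCoreOf x Y ≤ M := h.le_max_of_normalizes hM.max (h.pCoreOf_mem hMm y) hM.coreY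
    (le_normalizer_core y M) (h.pCoreOf_mem hYm x)
    (((pCoreOf_commute t.ne).trans (Subgroup.centralizer_le k2)).trans
      (Subgroup.centralizer_le_normalizer _))
  have j2 : Cfsg.pCoreOf y Y ≤ M := h.le_max_of_normalizes hM.max (h.pCoreOf_mem hMm x) hM.coreX
    (le_normalizer_core x M) (h.pCoreOf_mem hYm y)
    (((pCoreOf_commute t.ne.symm).trans (Subgroup.centralizer_le k1)).trans
      (Subgroup.centralizer_le_normalizer _))
  obtain ⟨l1, -⟩ := step hYM hM.max j1 j2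
  have hle : Y ≤ M := h.le_max_of_normalizes hM.max (h.pCoreOf_mem hMm x) hM.coreX
    (le_normalizer_core x M) hYm (le_antisymm l1 k1 ▸ le_normalizer_core x Y)
  exact le_antisymm hle (hY.2 hM.max.prop hle)

/-- The members normalizing a central invariant piece of `O_x(M)` lie in `M`. -/
theorem le_of_normalizes_piece (t : Two A θ x y) {M E : Subgroup G} (hM : Multi p A θ x y M)
    (hEm : E ∈ Cfsg.signalizerFamily p A θ) (hEC : Cfsg.signalizerInf A θ ≤
      Subgroup.normalizer (E : Set G)) (hE : E ≤ Zc x M) (hE1 : E ≠ ⊥) {Z : Subgroup G}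
    (hZ : Z ∈ Cfsg.signalizerFamily p A θ) (hZE : Z ≤ Subgroup.normalizer (E : Set G)) : Z ≤ M := by
  obtain ⟨Y, hY, hle⟩ := h.exists_max (h.normMember_mem hEm hE1) (h.le_normMember h.inf_mem hEC)
  have hMm := h.max_mem hM.max
  have h1 : Cfsg.pCoreOf x M ≤ Subgroup.normalizer (E : Set G) :=
    (Subgroup.le_centralizer_iff.mp (hE.trans inf_le_right)).trans
      (Subgroup.centralizer_le_normalizer _)
  have h2 : Cfsg.pCoreOf y M ≤ Subgroup.normalizer (E : Set G) :=
    ((pCoreOf_commute t.ne.symm).trans (Subgroup.centralizer_le (hE.trans inf_le_left))).trans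
      (Subgroup.centralizer_le_normalizer _)
  rw [← h.eq_of_cores_le t hM hY ((h.le_normMember (h.pCoreOf_mem hMm x) h1).trans hle)
    ((h.le_normMember (h.pCoreOf_mem hMm y) h2).trans hle)]
  exact (h.le_normMember hZ hZE).trans hle

/-- A maximal member containing central invariant pieces of both cores of `M` equals `M`. -/
theorem eq_of_pieces (t : Two A θ x y) {M Y Ex Ey : Subgroup G} (hM : Multi p A θ x y M)
    (hY : IsMax p A θ Y) (hXm : Ex ∈ Cfsg.signalizerFamily p A θ)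
    (hXC : Cfsg.signalizerInf A θ ≤ Subgroup.normalizer (Ex : Set G)) (hX : Ex ≤ Zc x M)
    (hX1 : Ex ≠ ⊥) (hXY : Ex ≤ Y) (hYm' : Ey ∈ Cfsg.signalizerFamily p A θ)
    (hYC : Cfsg.signalizerInf A θ ≤ Subgroup.normalizer (Ey : Set G)) (hY' : Ey ≤ Zc y M)
    (hY1 : Ey ≠ ⊥) (hYY : Ey ≤ Y) : Y = M := by
  have hYm := h.max_mem hY
  have hYN := h.inf_le_normalizer_of_max hY
  have hMN := h.inf_le_normalizer_of_max hM.max
  have c1 := h.le_centralizer_core t hM hYm hYN hXY (hX.trans inf_le_left)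
  have c2 := h.le_centralizer_core t.symm hM.symm hYm hYN hYY (hY'.trans inf_le_left)
  have k1 := h.le_core_of_trick t hYm hXY hYY
    ((PReduced.isPGroup_pCoreOf y M).to_le (hY'.trans inf_le_left)) c1 c2 (hX.trans inf_le_left)
    fun Z hZ hZc => h.le_of_normalizes_piece t.symm hM.symm hYm' hYC hY' hY1 hZ
      (hZc.trans (Subgroup.centralizer_le_normalizer _))
  have k2 := h.le_core_of_trick t.symm hYm hYY hXY
    ((PReduced.isPGroup_pCoreOf x M).to_le (hX.trans inf_le_left)) c2 c1 (hY'.trans inf_le_left)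
    fun Z hZ hZc => h.le_of_normalizes_piece t hM hXm hXC hX hX1 hZ
      (hZc.trans (Subgroup.centralizer_le_normalizer _))
  have hYmu : Multi p A θ x y Y := ⟨hY, fun he => hX1 (le_bot_iff.mp (he ▸ k1)),
    fun he => hY1 (le_bot_iff.mp (he ▸ k2))⟩
  have j1 : Cfsg.pCoreOf x Y ≤ M := h.le_of_normalizes_piece t.symm hM.symm hYm' hYC hY' hY1
    (h.pCoreOf_mem hYm x) ((Subgroup.le_centralizer_iff.mp c2).trans
      (Subgroup.centralizer_le_normalizer _))
  have j2 : Cfsg.pCoreOf y Y ≤ M := h.le_of_normalizes_piece t hM hXm hXC hX hX1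
    (h.pCoreOf_mem hYm y) ((Subgroup.le_centralizer_iff.mp c1).trans
      (Subgroup.centralizer_le_normalizer _))
  have hMm := h.max_mem hM.max
  have d1 := h.le_centralizer_core t hYmu hMm hMN j1 le_rfl
  have d2 := h.le_centralizer_core t.symm hYmu.symm hMm hMN j2 le_rfl
  refine h.eq_of_cores_le t hM hY ?_ ?_
  · exact h.le_max_of_normalizes hY (h.pCoreOf_mem hYm y) hYmu.coreY (le_normalizer_core y Y)
      (h.pCoreOf_mem hMm x) ((Subgroup.le_centralizer_iff.mp d2).trans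
        (Subgroup.centralizer_le_normalizer _))
  · exact h.le_max_of_normalizes hY (h.pCoreOf_mem hYm x) hYmu.coreX (le_normalizer_core x Y)
      (h.pCoreOf_mem hMm y) ((Subgroup.le_centralizer_iff.mp d1).trans
        (Subgroup.centralizer_le_normalizer _))

/-- A maximal member meeting `O_x(M)` equals `M` or has trivial `O_y`. -/
theorem eq_or_core_eq_bot (t : Two A θ x y) {M Y : Subgroup G} (hM : Multi p A θ x y M)
    (hY : IsMax p A θ Y) (hne : Y ⊓ Cfsg.pCoreOf x M ≠ ⊥) : Y = M ∨ Cfsg.pCoreOf y Y = ⊥ := by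
  refine or_iff_not_imp_right.mpr fun hy1 => ?_
  have hYm := h.max_mem hY
  have hMm := h.max_mem hM.max
  have hYN := h.inf_le_normalizer_of_max hY
  have hMN := h.inf_le_normalizer_of_max hM.max
  set Q := Y ⊓ Cfsg.pCoreOf x M with hQ
  have hQm : Q ∈ Cfsg.signalizerFamily p A θ := mem_family_of_le hYm inf_le_left
    (le_normalizer_inf_of_le (mem_normalizer_family hYm)
      (normalizer_le_normalizer_pCoreOf x (mem_normalizer_family hMm)))
  have hQC : Cfsg.signalizerInf A θ ≤ Subgroup.normalizer (Q : Set G) :=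
    le_normalizer_inf_of_le hYN (normalizer_le_normalizer_pCoreOf x hMN)
  have hQc := h.le_centralizer_core t hM hYm hYN (inf_le_left : Q ≤ Y) inf_le_right
  obtain ⟨Y', hY', hle⟩ := h.exists_max (h.normMember_mem hQm hne) (h.le_normMember h.inf_mem hQC)
  have hzx : Zc x M ≤ Subgroup.normalizer (Q : Set G) :=
    (inf_le_right.trans (Subgroup.centralizer_le inf_le_right)).trans
      (Subgroup.centralizer_le_normalizer _)
  have hzy : Zc y M ≤ Subgroup.normalizer (Q : Set G) :=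
    ((inf_le_left.trans (pCoreOf_commute t.ne.symm)).trans
      (Subgroup.centralizer_le inf_le_right)).trans (Subgroup.centralizer_le_normalizer _)
  have hY'M : Y' = M := h.eq_of_pieces t hM hY' (h.Zc_mem hMm) (le_normalizer_Zc x hMN) le_rfl
    (Zc_ne_bot hM.coreX) ((h.le_normMember (h.Zc_mem hMm) hzx).trans hle) (h.Zc_mem hMm)
    (le_normalizer_Zc y hMN) le_rfl (Zc_ne_bot hM.coreY)
    ((h.le_normMember (h.Zc_mem hMm) hzy).trans hle)
  subst hY'M
  have hTM : Cfsg.pCoreOf y Y ≤ Y' := (h.le_normMember (h.pCoreOf_mem hYm y)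
    ((Subgroup.le_centralizer_iff.mp hQc).trans (Subgroup.centralizer_le_normalizer _))).trans hle
  have hYmu : Multi p A θ x y Y := by
    refine ⟨hY, fun he => hne ?_, hy1⟩
    refine le_bot_iff.mp (he ▸ h.le_core_of_two t hYm inf_le_left
      ((PReduced.isPGroup_pCoreOf x Y').to_le inf_le_right) ?_ hQc)
    rw [he]
    intro u _ f hf
    rw [Subgroup.coe_bot, Set.mem_singleton_iff] at hf
    simp [hf]
  have d := h.le_centralizer_core t.symm hYmu.symm hMm hMN hTM le_rfl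
  have hxY : Cfsg.pCoreOf x Y' ≤ Y := h.le_max_of_normalizes hY (h.pCoreOf_mem hYm y) hy1
    (le_normalizer_core y Y) (h.pCoreOf_mem hMm x)
    ((Subgroup.le_centralizer_iff.mp d).trans (Subgroup.centralizer_le_normalizer _))
  set E := Zc y Y' ⊓ Subgroup.centralizer (Cfsg.pCoreOf y Y : Set G) with hE
  have hE1 : E ≠ ⊥ := inter_ne_bot_of_normalizes (h.Pi_isPGroup y)
    (inf_le_left.trans (h.pCoreOf_le_Pi hMm hMN y)) (h.pCoreOf_le_Pi hYm hYN y)
    (hTM.trans (le_normalizer_Zc y Subgroup.le_normalizer)) (Zc_ne_bot hM.coreY)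
  have hEm : E ∈ Cfsg.signalizerFamily p A θ := mem_family_of_le (h.Zc_mem hMm) inf_le_left
    (le_normalizer_inf_of_le (le_normalizer_Zc y (mem_normalizer_family hMm))
      (CfsgLib.Coprime.le_normalizer_centralizer
        (normalizer_le_normalizer_pCoreOf y (mem_normalizer_family hYm))))
  refine h.eq_of_pieces t hM hY (h.Zc_mem hMm) (le_normalizer_Zc x hMN) le_rfl
    (Zc_ne_bot hM.coreX) (inf_le_left.trans hxY) hEm ?_ inf_le_left hE1 ?_
  · exact le_normalizer_inf_of_le (le_normalizer_Zc y hMN)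
      (CfsgLib.Coprime.le_normalizer_centralizer (normalizer_le_normalizer_pCoreOf y hYN))
  · exact h.le_max_of_normalizes hY (h.pCoreOf_mem hYm y) hy1 (le_normalizer_core y Y) hEm
      (inf_le_right.trans (Subgroup.centralizer_le_normalizer _))

theorem mem_centralizer_plane {K : Subgroup G} (hK : IsPlane p A K) {e e' : G} (he : e ∈ K)
    (he1 : e ≠ 1) (he' : e' ∈ K) (hne : e' ∉ Subgroup.zpowers e) {v : G}
    (h1 : v ∈ Subgroup.centralizer ({e} : Set G)) (h2 : v ∈ Subgroup.centralizer ({e'} : Set G)) :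
    v ∈ Subgroup.centralizer (K : Set G) := by
  set H := Subgroup.centralizer ({v} : Set G) ⊓ K with hH
  have heH : e ∈ H := ⟨Subgroup.mem_centralizer_singleton_iff.mpr
    (Subgroup.mem_centralizer_singleton_iff.mp h1).symm, he⟩
  have he'H : e' ∈ H := ⟨Subgroup.mem_centralizer_singleton_iff.mpr
    (Subgroup.mem_centralizer_singleton_iff.mp h2).symm, he'⟩
  obtain ⟨m, hm, hHm⟩ := (Nat.dvd_prime_pow hp.out).mp
    (hK.2 ▸ Subgroup.card_dvd_of_le (inf_le_right : H ≤ K))
  have hlt : Nat.card (Subgroup.zpowers e) < Nat.card H :=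
    lt_of_le_of_ne (Subgroup.card_le_of_le (Subgroup.zpowers_le.mpr heH)) fun hc =>
      hne ((Subgroup.eq_of_le_of_card_ge (Subgroup.zpowers_le.mpr heH) hc.ge).ge he'H)
  rw [Nat.card_zpowers, (hp.out.eq_one_or_self_of_dvd _ (orderOf_dvd_of_pow_eq_one
    (h.pow_eq_one (hK.1 he)))).resolve_left (by rwa [orderOf_eq_one_iff]), hHm] at hlt
  conv_lhs at hlt => rw [← pow_one p]
  have h3 := (Nat.pow_lt_pow_iff_right hp.out.one_lt).mp hlt
  obtain rfl : m = 2 := by omega
  have hHK : H = K := Subgroup.eq_of_le_of_card_ge inf_le_right (by rw [hK.2, hHm])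
  intro b hb
  exact Subgroup.mem_centralizer_singleton_iff.mp (hHK.ge hb).1

theorem zpowers_eq_of_mem {e f : G} (he : e ∈ A) (hf : f ≠ 1) (hfe : f ∈ Subgroup.zpowers e) :
    Subgroup.zpowers f = Subgroup.zpowers e := by
  refine Subgroup.eq_of_le_of_card_ge (Subgroup.zpowers_le.mpr hfe) ?_
  have h1 := h.card_zpowers_le he
  have h2 := h.card_zpowers_le ((Subgroup.zpowers_le.mpr he) hfe)
  rw [Nat.card_zpowers] at h1 h2 ⊢
  rw [Nat.card_zpowers, (hp.out.eq_one_or_self_of_dvd _ h2).resolve_left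
    (by rwa [orderOf_eq_one_iff])]
  exact Nat.le_of_dvd hp.out.pos h1

/-- The configuration forced by `Pi x ⊄ M`. -/
theorem exists_fail (t : Two A θ x y) {M : Subgroup G} (hM : Multi p A θ x y M)
    (hne : ¬ Pi A θ x ≤ M) :
    ∃ K e, IsPlane p A K ∧ e ∈ K ∧ e ≠ 1 ∧
      Cfsg.pCoreOf x M ≤ Subgroup.centralizer ({e} : Set G) ∧
      Cfsg.pCoreOf y M ⊓ Subgroup.centralizer ({e} : Set G) = ⊥ ∧
      ∀ k ∈ K, k ∉ Subgroup.zpowers e →
        Cfsg.pCoreOf y M ⊓ Subgroup.centralizer ({k} : Set G) ≠ ⊥ ∧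
        Cfsg.pCoreOf x M ⊓ Subgroup.centralizer ({k} : Set G) = ⊥ := by
  have hMm := h.max_mem hM.max
  have hMN := h.inf_le_normalizer_of_max hM.max
  set Fx := Cfsg.pCoreOf x M with hFx
  set Fy := Cfsg.pCoreOf y M with hFy
  set T := Pi A θ x ⊓ M with hT
  have hTA : A ≤ Subgroup.normalizer (T : Set G) :=
    le_normalizer_inf_of_le (h.A_le_normalizer_Pi x) (mem_normalizer_family hMm)
  have hTC : Cfsg.signalizerInf A θ ≤ Subgroup.normalizer (T : Set G) :=
    le_normalizer_inf_of_le (h.inf_le_normalizer_Pi x) hMN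
  have hFT : Fx ≤ T := le_inf (h.pCoreOf_le_Pi hMm hMN x) (pCoreOf_le x M)
  set T' := Subgroup.normalizer (T : Set G) ⊓ Pi A θ x with hT'
  have hT'M : ¬ T' ≤ M := fun hle =>
    exists_normalizer_not_le (h.Pi_isPGroup x) (inf_le_left : T ≤ _)
      (fun hle' => hne (hle'.trans inf_le_right)) (le_inf inf_le_right hle)
  obtain ⟨K, hK, hKM⟩ : ∃ K, IsPlane p A K ∧
      ¬ T' ⊓ Subgroup.centralizer (K : Set G) ≤ M := by
    by_contra hc
    push Not at hc
    exact hT'M (h.le_of_planes (h.mem_family_Pi inf_le_right (le_normalizer_inf_of_le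
      (hTA.trans Subgroup.le_normalizer) (h.A_le_normalizer_Pi x))) hc)
  set GK := T' ⊓ Subgroup.centralizer (K : Set G) with hGK
  have hGA : A ≤ Subgroup.normalizer (GK : Set G) := le_normalizer_inf_of_le
    (le_normalizer_inf_of_le (hTA.trans Subgroup.le_normalizer) (h.A_le_normalizer_Pi x))
    (h.le_normalizer_centralizer hK.1)
  have hGC : Cfsg.signalizerInf A θ ≤ Subgroup.normalizer (GK : Set G) := le_normalizer_inf_of_le
    (le_normalizer_inf_of_le (hTC.trans Subgroup.le_normalizer) (h.inf_le_normalizer_Pi x))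
    (h.inf_le_normalizer_centralizer hK.1)
  have hGm := h.mem_family_Pi (inf_le_left.trans inf_le_right : GK ≤ Pi A θ x) hGA
  have hfix : ∀ k ∈ K, k ≠ 1 → Fx ⊓ Subgroup.centralizer ({k} : Set G) = ⊥ ∨
      Fy ⊓ Subgroup.centralizer ({k} : Set G) = ⊥ := by
    intro k hk hk1
    obtain ⟨X, hX, hkX⟩ := h.exists_max_theta (hK.1 hk) hk1
    have hXM : X ≠ M := by
      rintro rfl
      exact hKM (fun g hg => hkX (hGm.2.2.2 k (hK.1 hk) hk1
        ⟨hg, Subgroup.centralizer_le (by simpa using hk) hg.2⟩))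
    by_contra hc
    push Not at hc
    have h1 : X ⊓ Fx ≠ ⊥ := fun he => hc.1 (le_bot_iff.mp (he ▸ le_inf
      ((h.pCoreOf_mem hMm x).2.2.2 k (hK.1 hk) hk1 |>.trans hkX) inf_le_left))
    have h2 : X ⊓ Fy ≠ ⊥ := fun he => hc.2 (le_bot_iff.mp (he ▸ le_inf
      ((h.pCoreOf_mem hMm y).2.2.2 k (hK.1 hk) hk1 |>.trans hkX) inf_le_left))
    rcases h.max_core t hX with h3 | h3
    · exact h3 ((h.eq_or_core_eq_bot t.symm hM.symm hX h2).resolve_left hXM)
    · exact h3 ((h.eq_or_core_eq_bot t hM hX h1).resolve_left hXM)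
  set Vx := Fx ⊓ Subgroup.centralizer (T : Set G) with hVx
  have hTN : T ≤ Subgroup.normalizer (Fx : Set G) := inf_le_right.trans (le_normalizer_core x M)
  have hV1 : Vx ≠ ⊥ := inf_centralizer_ne_bot ((h.Pi_isPGroup x).to_le inf_le_left) hFT hTN hM.coreX
  have hVA : A ≤ Subgroup.normalizer (Vx : Set G) := le_normalizer_inf_of_le
    (normalizer_le_normalizer_pCoreOf x (mem_normalizer_family hMm))
    (CfsgLib.Coprime.le_normalizer_centralizer hTA)
  have hVC : Cfsg.signalizerInf A θ ≤ Subgroup.normalizer (Vx : Set G) := le_normalizer_inf_of_le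
    (normalizer_le_normalizer_pCoreOf x hMN) (CfsgLib.Coprime.le_normalizer_centralizer hTC)
  obtain ⟨e, he, he1, hVe⟩ := h.exists_point
    (h.mem_family_Pi ((inf_le_left.trans hFT).trans inf_le_left) hVA) hV1 hK
  have hye : Fy ⊓ Subgroup.centralizer ({e} : Set G) = ⊥ :=
    (hfix e he he1).resolve_left fun hb => hVe
      (le_bot_iff.mp (hb ▸ inf_le_inf_right _ inf_le_left))
  obtain ⟨k0, hk0, hk01, hyk0⟩ := h.exists_point (h.pCoreOf_mem hMm y) hM.coreY hK
  have hxk0 := (hfix k0 hk0 hk01).resolve_right hyk0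
  set Ve := Vx ⊓ Subgroup.centralizer ({e} : Set G) with hVedef
  have main : ∀ k ∈ K, k ∉ Subgroup.zpowers e →
      Fy ⊓ Subgroup.centralizer ({k} : Set G) ≠ ⊥ := by
    intro e' he' hne' hye'
    set W := conjClosure Ve GK with hW
    set Zt := T ⊓ Subgroup.centralizer (T : Set G) with hZt
    haveI : IsMulCommutative Zt := ⟨⟨fun u v => Subtype.ext (v.2.2 u u.2.1)⟩⟩
    have hGT : GK ≤ Subgroup.normalizer (T : Set G) := inf_le_left.trans inf_le_left
    have hWZ : W ≤ Zt := conjClosure_le_iff.mpr fun g hg v hv =>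
      ⟨forall_of_le_normalizer hGT g hg v (hFT hv.1.1),
        forall_of_le_normalizer (CfsgLib.Coprime.le_normalizer_centralizer hGT) g hg v hv.1.2⟩
    have hVeA : A ≤ Subgroup.normalizer (Ve : Set G) := le_normalizer_inf_of_le hVA
      ((h.le_centralizer (hK.1 he)).trans Subgroup.le_normalizer)
    have hWA : A ≤ Subgroup.normalizer (W : Set G) := le_normalizer_conjClosure hGA hVeA
    have hWC : Cfsg.signalizerInf A θ ≤ Subgroup.normalizer (W : Set G) :=
      le_normalizer_conjClosure hGC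
        (le_normalizer_inf_of_le hVC (h.inf_le_normalizer_centralizer' (hK.1 he)))
    have hWPi : W ≤ Pi A θ x := (hWZ.trans inf_le_left).trans inf_le_left
    have hWM : W ≤ M := (hWZ.trans inf_le_left).trans inf_le_right
    have hge : ∀ g ∈ GK, e' * g = g * e' := fun g hg => hg.2 e' he'
    have hWe : W ⊓ Subgroup.centralizer ({e'} : Set G) = ⊥ := by
      refine inf_centralizer_iSup_eq_bot (h.pow_eq_one (hK.1 he'))
        (fun g => (le_iSup (fun g : GK => MulAut.conj (g : G) • Ve) g).trans hWZ)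
        (fun hd => (h.Pi_mem x).2.1
          (hd.trans (Subgroup.card_dvd_of_le (inf_le_left.trans inf_le_left)))) (fun g => ?_)
        fun g => ?_
      · rw [mem_normalizer_iff_conj_smul, ← mul_smul, ← map_mul, hge g g.2, map_mul, mul_smul,
          conj_smul_eq_self_of_mem_normalizer (hVeA (hK.1 he'))]
      · refine eq_bot_iff.mpr ?_
        rintro _ ⟨⟨v, hv, rfl⟩, hvc⟩
        have hvc' : v ∈ Subgroup.centralizer ({e'} : Set G) := by
          have hg : (g : G) ∈ Subgroup.centralizer ({e'} : Set G) :=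
            Subgroup.mem_centralizer_singleton_iff.mpr (hge g g.2).symm
          have h1 : (g : G) * v * (g : G)⁻¹ ∈ Subgroup.centralizer ({e'} : Set G) := hvc
          simpa [mul_assoc] using mul_mem (mul_mem (inv_mem hg) h1) hg
        have h2 : v ∈ Fx ⊓ Subgroup.centralizer ({k0} : Set G) :=
          ⟨hv.1.1, Subgroup.centralizer_le (by simpa using hk0)
            (h.mem_centralizer_plane hK he he1 he' hne' hv.2 hvc')⟩
        rw [hxk0, Subgroup.mem_bot] at h2
        simp [h2]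
    have hpy : p.Coprime y := by
      obtain ⟨n, hn⟩ := IsPGroup.iff_card.mp (PReduced.isPGroup_pCoreOf y M)
      have h1 := h.p_coprime (h.pCoreOf_mem hMm y)
      rw [hn] at h1
      refine (Nat.coprime_pow_right_iff (Nat.pos_of_ne_zero ?_) _ _).mp h1
      rintro rfl
      rw [pow_zero] at hn
      exact hM.coreY (Subgroup.eq_bot_of_card_eq _ hn)
    have hWy : W ≤ Subgroup.centralizer (Fy : Set G) := by
      refine le_centralizer_of_fpf (p := p) (PReduced.isPGroup_pCoreOf y M)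
        (hWM.trans (le_normalizer_core y M))
        (coprime_of_isPGroup t.ne ((h.Pi_isPGroup x).to_le hWPi)) hpy
        (h.p_coprime (h.mem_family_Pi hWPi hWA)) (h.pow_eq_one (hK.1 he'))
        (normalizer_le_normalizer_pCoreOf y (mem_normalizer_family hMm) (hK.1 he'))
        (forall_of_le_normalizer hWA e' (hK.1 he')) (fun w hw hc => ?_) fun f hf hc w _ => ?_
      · have h1 : w ∈ W ⊓ Subgroup.centralizer ({e'} : Set G) :=
          ⟨hw, Subgroup.mem_centralizer_singleton_iff.mpr hc.symm⟩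
        rwa [hWe, Subgroup.mem_bot] at h1
      · have h1 : f ∈ Fy ⊓ Subgroup.centralizer ({e'} : Set G) :=
          ⟨hf, Subgroup.mem_centralizer_singleton_iff.mpr hc.symm⟩
        rw [hye', Subgroup.mem_bot] at h1
        simp [h1]
    have hW1 : W ≠ ⊥ := fun hb => hVe (le_bot_iff.mp (hb ▸ le_conjClosure Ve GK))
    have hWm := h.mem_family_Pi hWPi hWA
    obtain ⟨Y, hY, hle⟩ := h.exists_max (h.normMember_mem hWm hW1)
      (h.le_normMember h.inf_mem hWC)
    have hzy : Zc y M ≤ Subgroup.normalizer (W : Set G) :=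
      (inf_le_left.trans (Subgroup.le_centralizer_iff.mp hWy)).trans
        (Subgroup.centralizer_le_normalizer _)
    have hYM : Y = M := by
      refine h.eq_of_pieces t hM hY (Ex := Ve) (mem_family_of_le hWm (le_conjClosure _ _) hVeA)
        (le_normalizer_inf_of_le hVC (h.inf_le_normalizer_centralizer' (hK.1 he))) ?_ hVe
        ((le_conjClosure Ve GK).trans ((h.le_normMember hWm Subgroup.le_normalizer).trans hle))
        (h.Zc_mem hMm) (le_normalizer_Zc y hMN) le_rfl (Zc_ne_bot hM.coreY)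
        ((h.le_normMember (h.Zc_mem hMm) hzy).trans hle)
      exact inf_le_left.trans (le_inf inf_le_left
        (inf_le_right.trans (Subgroup.centralizer_le hFT)))
    exact hKM (hYM ▸ (h.le_normMember hGm (le_normalizer_conjClosure_self _ _)).trans hle)
  have main' : ∀ k ∈ K, k ∉ Subgroup.zpowers e →
      Fy ⊓ Subgroup.centralizer ({k} : Set G) ≠ ⊥ ∧
        Fx ⊓ Subgroup.centralizer ({k} : Set G) = ⊥ := fun k hk hk' =>
    ⟨main k hk hk', (hfix k hk fun hk1 => hk' (hk1 ▸ one_mem _)).resolve_right (main k hk hk')⟩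
  refine ⟨K, e, hK, he, he1, h.le_of_points (h.pCoreOf_mem hMm x) hK fun f hf hf1 => ?_, hye, main'⟩
  by_cases hfe : f ∈ Subgroup.zpowers e
  · refine inf_le_right.trans fun v hv => ?_
    have h1 := mem_centralizer_singleton_zpowers hv
    rw [h.zpowers_eq_of_mem (hK.1 he) hf1 hfe] at h1
    exact Subgroup.centralizer_le (by simp) h1
  · rw [(main' f hf hfe).2]
    exact bot_le

theorem Pi_le_or_Pi_le (t : Two A θ x y) {M : Subgroup G} (hM : Multi p A θ x y M) :
    Pi A θ x ≤ M ∨ Pi A θ y ≤ M := by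
  by_contra hc
  push Not at hc
  obtain ⟨K, e, hK, he, he1, hxe, hye, hkx⟩ := h.exists_fail t hM hc.1
  obtain ⟨K', e', hK', he', he'1, hye', hxe', hky⟩ := h.exists_fail t.symm hM.symm hc.2
  have aux : ∀ {x y : ℕ} {K : Subgroup G} {e e' : G},
      IsPlane p A K → e ∈ K → e' ∈ A → e ≠ 1 →
      Cfsg.pCoreOf x M ≠ ⊥ →
      Cfsg.pCoreOf x M ≤ Subgroup.centralizer ({e} : Set G) →
      Cfsg.pCoreOf y M ≤ Subgroup.centralizer ({e'} : Set G) →
      Cfsg.pCoreOf y M ⊓ Subgroup.centralizer ({e} : Set G) = ⊥ →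
      Cfsg.pCoreOf x M ⊓ Subgroup.centralizer ({e'} : Set G) = ⊥ →
      (∀ k ∈ K, k ∉ Subgroup.zpowers e →
        Cfsg.pCoreOf y M ⊓ Subgroup.centralizer ({k} : Set G) ≠ ⊥) → e' ∉ K := by
    intro x y K e e' hK he he'A he1 hne hxe hye' hye hxe' hk he'K
    have hnot : e' ∉ Subgroup.zpowers e := fun hm => hne (le_bot_iff.mp (hxe' ▸ le_inf le_rfl
      fun v hv => by
        have := mem_centralizer_singleton_zpowers (hxe hv) e' hm
        exact Subgroup.mem_centralizer_singleton_iff.mpr this.symm))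
    refine hk (e * e') (mul_mem he he'K) (fun hm => hnot
      (by simpa using mul_mem (inv_mem (Subgroup.mem_zpowers e)) hm)) (le_bot_iff.mp ?_)
    rintro v ⟨hv, hvc⟩
    rw [← hye]
    refine ⟨hv, ?_⟩
    have h1 : e' ∈ Subgroup.centralizer ({v} : Set G) :=
      Subgroup.mem_centralizer_singleton_iff.mpr
        (Subgroup.mem_centralizer_singleton_iff.mp (hye' hv)).symm
    have h2 : e * e' ∈ Subgroup.centralizer ({v} : Set G) :=
      Subgroup.mem_centralizer_singleton_iff.mpr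
        (Subgroup.mem_centralizer_singleton_iff.mp hvc).symm
    exact Subgroup.mem_centralizer_singleton_iff.mpr (Subgroup.mem_centralizer_singleton_iff.mp
      (by simpa using mul_mem h2 (inv_mem h1))).symm
  have h1 : e' ∉ K := aux hK he (hK'.1 he') he1 hM.coreX hxe hye' hye hxe' fun k hk hk' =>
    (hkx k hk hk').1
  have h2 : e ∉ K' := aux hK' he' (hK.1 he) he'1 hM.coreY hye' hxe hxe' hye fun k hk hk' =>
    (hky k hk hk').1
  obtain ⟨k, hk1, hkK, hkK'⟩ := h.exists_mem_inter hK hK'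
  have hke : k ∉ Subgroup.zpowers e := fun hm => h2 (Subgroup.zpowers_le.mp
    ((h.zpowers_eq_of_mem (hK.1 he) hk1 hm) ▸ Subgroup.zpowers_le.mpr hkK'))
  have hke' : k ∉ Subgroup.zpowers e' := fun hm => h1 (Subgroup.zpowers_le.mp
    ((h.zpowers_eq_of_mem (hK'.1 he') hk1 hm) ▸ Subgroup.zpowers_le.mpr hkK))
  exact (hky k hkK' hke').1 (hkx k hkK hke).2

theorem multi_unique (t : Two A θ x y) {M M' : Subgroup G} (hM : Multi p A θ x y M)
    (hM' : Multi p A θ x y M') : M = M' := by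
  have hm' := h.max_mem hM'.max
  have hN' := h.inf_le_normalizer_of_max hM'.max
  rcases h.Pi_le_or_Pi_le t hM with hle | hle
  · refine (h.eq_or_core_eq_bot t hM' hM.max fun he => hM'.coreX ?_).resolve_right hM.coreY
    rw [← le_bot_iff, ← he]
    exact le_inf ((h.pCoreOf_le_Pi hm' hN' x).trans hle) le_rfl
  · refine (h.eq_or_core_eq_bot t.symm hM'.symm hM.max fun he => hM'.coreY ?_).resolve_right
      hM.coreX
    rw [← le_bot_iff, ← he]
    exact le_inf ((h.pCoreOf_le_Pi hm' hN' y).trans hle) le_rfl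

/-! #### Covering -/

theorem center_le_core_of_single (t : Two A θ x y) {X : Subgroup G} (hX : IsMax p A θ X)
    (hy1 : Cfsg.pCoreOf y X = ⊥) :
    Pi A θ x ⊓ Subgroup.centralizer (Pi A θ x : Set G) ≤ Cfsg.pCoreOf x X := by
  have hXm := h.max_mem hX
  have hx1 : Cfsg.pCoreOf x X ≠ ⊥ := (h.max_core t hX).resolve_right (not_not.mpr hy1)
  set Z := Pi A θ x ⊓ Subgroup.centralizer (Pi A θ x : Set G) with hZ
  have hZm : Z ∈ Cfsg.signalizerFamily p A θ := h.mem_family_Pi inf_le_left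
    (le_normalizer_inf_of_le (h.A_le_normalizer_Pi x)
      (CfsgLib.Coprime.le_normalizer_centralizer (h.A_le_normalizer_Pi x)))
  have hc : Z ≤ Subgroup.centralizer (Cfsg.pCoreOf x X : Set G) := inf_le_right.trans
    (Subgroup.centralizer_le (h.pCoreOf_le_Pi hXm (h.inf_le_normalizer_of_max hX) x))
  refine h.le_core_of_two t hXm (h.le_max_of_normalizes hX (h.pCoreOf_mem hXm x) hx1
    (le_normalizer_core x X) hZm (hc.trans (Subgroup.centralizer_le_normalizer _)))
    ((h.Pi_isPGroup x).to_le inf_le_left) hc ?_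
  rw [hy1]
  intro u _ f hf
  rw [Subgroup.coe_bot, Set.mem_singleton_iff] at hf
  simp [hf]

theorem Z0_le_core_of_single (t : Two A θ x y) {X : Subgroup G} (hX : IsMax p A θ X)
    (hy1 : Cfsg.pCoreOf y X = ⊥) : Z0 p A θ x y ≤ Cfsg.pCoreOf x X :=
  inf_le_left.trans (h.center_le_core_of_single t hX hy1)

theorem covered_or (t : Two A θ x y) {a : G} (ha : a ∈ A) (ha1 : a ≠ 1) :
    Covered p A θ x y a ∨ Covered p A θ y x a := by
  obtain ⟨X, hX, haX⟩ := h.exists_max_theta ha ha1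
  by_cases hy1 : Cfsg.pCoreOf y X = ⊥
  · exact Or.inl ⟨X, h.max_mem hX, haX, h.Z0_le_core_of_single t hX hy1⟩
  by_cases hx1 : Cfsg.pCoreOf x X = ⊥
  · exact Or.inr ⟨X, h.max_mem hX, haX, h.Z0_le_core_of_single t.symm hX hx1⟩
  rcases h.Pi_le_or_Pi_le t ⟨hX, hx1, hy1⟩ with hle | hle
  · exact Or.inl ⟨X, h.max_mem hX, haX, inf_le_right.trans
      (iInf_le (fun M : {M : Subgroup G // Multi p A θ x y M ∧ Pi A θ x ≤ M} =>
        Cfsg.pCoreOf x (M : Subgroup G)) ⟨X, ⟨hX, hx1, hy1⟩, hle⟩)⟩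
  · exact Or.inr ⟨X, h.max_mem hX, haX, inf_le_right.trans
      (iInf_le (fun M : {M : Subgroup G // Multi p A θ y x M ∧ Pi A θ y ≤ M} =>
        Cfsg.pCoreOf y (M : Subgroup G)) ⟨X, ⟨hX, hy1, hx1⟩, hle⟩)⟩

theorem covered_of_bad (t : Two A θ x y) {a : G} (ha : a ∈ A) (ha1 : a ≠ 1)
    (hb : ¬ Good p A θ x a) : Covered p A θ y x a := by
  obtain ⟨X, hX, haX⟩ := h.exists_max_theta ha ha1
  have hx1 : Cfsg.pCoreOf x X = ⊥ := by
    by_contra hne
    exact hb ⟨X, h.max_mem hX, haX, hne⟩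
  exact ⟨X, h.max_mem hX, haX, h.Z0_le_core_of_single t.symm hX hx1⟩

theorem Z0_le_Pi (v w : ℕ) : Z0 p A θ v w ≤ Pi A θ v := inf_le_left.trans inf_le_left

theorem A_le_normalizer_Z0 (v w : ℕ) : A ≤ Subgroup.normalizer (Z0 p A θ v w : Set G) := by
  refine le_normalizer_inf_of_le (le_normalizer_inf_of_le (h.A_le_normalizer_Pi v)
    (CfsgLib.Coprime.le_normalizer_centralizer (h.A_le_normalizer_Pi v))) ?_
  intro a ha
  rw [Subgroup.mem_normalizer_iff]
  intro g
  simp only [Subgroup.mem_iInf]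
  exact forall_congr' fun M => Subgroup.mem_normalizer_iff.mp
    (normalizer_le_normalizer_pCoreOf v (mem_normalizer_family (h.max_mem M.2.1.max)) ha) g

theorem inf_le_normalizer_Z0 (v w : ℕ) :
    Cfsg.signalizerInf A θ ≤ Subgroup.normalizer (Z0 p A θ v w : Set G) := by
  refine le_normalizer_inf_of_le (le_normalizer_inf_of_le (h.inf_le_normalizer_Pi v)
    (CfsgLib.Coprime.le_normalizer_centralizer (h.inf_le_normalizer_Pi v))) ?_
  intro a ha
  rw [Subgroup.mem_normalizer_iff]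
  intro g
  simp only [Subgroup.mem_iInf]
  exact forall_congr' fun M => Subgroup.mem_normalizer_iff.mp
    (normalizer_le_normalizer_pCoreOf v (h.inf_le_normalizer_of_max M.2.1.max) ha) g

theorem Pi_ne_bot (t : Two A θ x y) : Pi A θ y ≠ ⊥ := by
  intro he
  have hsingle : ∀ {X : Subgroup G}, IsMax p A θ X → Cfsg.pCoreOf y X = ⊥ := fun {X} hX =>
    le_bot_iff.mp (he ▸ h.pCoreOf_le_Pi (h.max_mem hX) (h.inf_le_normalizer_of_max hX) y)
  set U := Pi A θ x ⊓ Subgroup.centralizer (Pi A θ x : Set G) with hU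
  have hUA : A ≤ Subgroup.normalizer (U : Set G) := le_normalizer_inf_of_le
    (h.A_le_normalizer_Pi x) (CfsgLib.Coprime.le_normalizer_centralizer (h.A_le_normalizer_Pi x))
  have hU' : Universal A θ x U := by
    refine ⟨inf_le_left, hUA, le_normalizer_inf_of_le (h.inf_le_normalizer_Pi x)
      (CfsgLib.Coprime.le_normalizer_centralizer (h.inf_le_normalizer_Pi x)), fun b hb hb1 => ?_⟩
    obtain ⟨X, hX, hbX⟩ := h.exists_max_theta hb hb1
    have h1 : U ⊓ Subgroup.centralizer ({b} : Set G) ≤ θ b ⊓ Cfsg.pCoreOf x X :=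
      le_inf ((h.mem_family_Pi inf_le_left hUA).2.2.2 b hb hb1)
        (inf_le_left.trans (h.center_le_core_of_single t hX (hsingle hX)))
    exact h1.trans (PReduced.le_pCoreOf inf_le_left (le_normalizer_inf_of_le Subgroup.le_normalizer
      (hbX.trans (le_normalizer_core x X))) ((PReduced.isPGroup_pCoreOf x X).to_le inf_le_right))
  have hL : Lam A θ x ≠ ⊥ := by
    obtain ⟨a, ha, ha1⟩ := h.exists_ne_one
    obtain ⟨X, hX, -⟩ := h.exists_max_theta ha ha1
    have hP : Pi A θ x ≠ ⊥ := fun hb => (h.max_core t hX).elim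
      (fun h1 => h1 (le_bot_iff.mp
        (hb ▸ h.pCoreOf_le_Pi (h.max_mem hX) (h.inf_le_normalizer_of_max hX) x)))
      fun h1 => h1 (hsingle hX)
    exact fun hb => inf_centralizer_ne_bot (h.Pi_isPGroup x) le_rfl Subgroup.le_normalizer hP
      (le_bot_iff.mp (hb ▸ h.le_Lam hU'))
  obtain ⟨a, ha, ha1, hb⟩ := h.exists_bad hL
  obtain ⟨X, hX, haX⟩ := h.exists_max_theta ha ha1
  exact hb ⟨X, h.max_mem hX, haX, (h.max_core t hX).resolve_right fun h1 => h1 (hsingle hX)⟩

theorem Z0_ne_bot (t : Two A θ x y) : Z0 p A θ x y ≠ ⊥ := by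
  have hP : Pi A θ x ≠ ⊥ := h.Pi_ne_bot t.symm
  by_cases hex : ∃ M, Multi p A θ x y M ∧ Pi A θ x ≤ M
  · obtain ⟨M, hM, hle⟩ := hex
    intro he
    refine inf_centralizer_ne_bot (h.Pi_isPGroup x) (h.pCoreOf_le_Pi (h.max_mem hM.max)
      (h.inf_le_normalizer_of_max hM.max) x) (hle.trans (le_normalizer_core x M)) hM.coreX ?_
    rw [← le_bot_iff, ← he]
    refine le_inf (inf_le_inf_right _ (h.pCoreOf_le_Pi (h.max_mem hM.max)
      (h.inf_le_normalizer_of_max hM.max) x)) (le_iInf fun M' => inf_le_left.trans (le_of_eq ?_))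
    rw [h.multi_unique t hM M'.2.1]
  · intro he
    refine inf_centralizer_ne_bot (h.Pi_isPGroup x) le_rfl Subgroup.le_normalizer hP ?_
    rw [← le_bot_iff, ← he]
    exact le_inf le_rfl (le_iInf fun M => absurd ⟨_, M.2⟩ hex)

theorem inf_le_core_of_covered {v w : ℕ} [Fact v.Prime] {U : Subgroup G}
    (hU : U ≤ Z0 p A θ v w) (hUA : A ≤ Subgroup.normalizer (U : Set G)) {b : G} (hb : b ∈ A)
    (hb1 : b ≠ 1) (hc : Covered p A θ v w b) :
    U ⊓ Subgroup.centralizer ({b} : Set G) ≤ Cfsg.pCoreOf v (θ b) := by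
  obtain ⟨X, hX, hbX, hZ⟩ := hc
  exact (le_inf ((h.mem_family_Pi (hU.trans (h.Z0_le_Pi v w)) hUA).2.2.2 b hb hb1)
    (inf_le_left.trans (hU.trans hZ))).trans (PReduced.le_pCoreOf inf_le_left
      (le_normalizer_inf_of_le Subgroup.le_normalizer (hbX.trans (le_normalizer_core v X)))
      ((PReduced.isPGroup_pCoreOf v X).to_le inf_le_right))

theorem conj_mem_of_covered {v w : ℕ} [Fact v.Prime] {f : G} (hf : f ∈ A) (hf1 : f ≠ 1)
    (hc : Covered p A θ v w f) {d u : G} (hd : d ∈ θ f) (hu : u ∈ Z0 p A θ v w) :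
    d * u * d⁻¹ ∈ Pi A θ v := by
  obtain ⟨X, hX, hfX, hZ⟩ := hc
  exact h.pCoreOf_le_Pi hX (((h.inf_le_theta hf hf1).trans hfX).trans Subgroup.le_normalizer) v
    (forall_of_le_normalizer (le_normalizer_core v X) d (hfX hd) u (hZ hu))

/-- Without a universal subgroup in the centre of `Pi y` the covered points are confined. -/
theorem cover_cases (t : Two A θ x y)
    (hno : ∀ U, Universal A θ y U → U ≤ Z0 p A θ y x → U = ⊥) :
    (Z0 p A θ y x ≤ Subgroup.centralizer (A : Set G) ∧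
      ∃ L, IsPlane p A L ∧ ∀ f ∈ L, f ≠ 1 → ¬ Covered p A θ y x f) ∨
    ∃ B, IsPlane p A B ∧ (∀ f ∈ A, f ≠ 1 → Covered p A θ y x f → f ∈ B) ∧
      ∃ b ∈ B, b ≠ 1 ∧ ¬ Covered p A θ y x b := by
  set Z := Z0 p A θ y x with hZ
  have hZA := h.A_le_normalizer_Z0 y x
  have hZC := h.inf_le_normalizer_Z0 y x
  have hZm := h.mem_family_Pi (h.Z0_le_Pi y x) hZA
  by_cases hfix : Z ≤ Subgroup.centralizer (A : Set G)
  · refine Or.inl ⟨hfix, ?_⟩
    obtain ⟨b, hb, hb1, hnb⟩ : ∃ b ∈ A, b ≠ 1 ∧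
        ¬ Z ⊓ Subgroup.centralizer ({b} : Set G) ≤ Cfsg.pCoreOf y (θ b) := by
      by_contra hc
      push Not at hc
      exact h.Z0_ne_bot t.symm (hno Z ⟨h.Z0_le_Pi y x, hZA, hZC, hc⟩ le_rfl)
    by_contra hcov
    push Not at hcov
    refine hnb ((le_inf inf_le_left (hZm.2.2.2 b hb hb1)).trans
      (h.inf_le_pCoreOf_of_conj (h.theta_mem hb hb1) (h.Z0_le_Pi y x)
        fun v _ _ B hB d hd hdB s hs => ?_))
    obtain ⟨K, hK, hbK, hle⟩ := h.exists_plane_through hb hB
    obtain ⟨f, hf, hf1, hcf⟩ := hcov K hK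
    have hdθ : d ∈ θ b := coreTwo_le y v _ hd
    exact h.conj_mem_of_covered (hK.1 hf) hf1 hcf (h.solv.1.2.2.2 b hb hb1 f (hK.1 hf) hf1
      ⟨hdθ, Subgroup.centralizer_le (by simpa using hf)
        (hle ⟨h.solv.1.1 b hb hb1 hdθ, hdB⟩)⟩) hs
  · right
    obtain ⟨B, hB, hnB⟩ : ∃ B, IsPlane p A B ∧
        ¬ Z ⊓ Subgroup.centralizer (B : Set G) ≤ Subgroup.centralizer (A : Set G) := by
      by_contra hc
      push Not at hc
      exact hfix (h.le_of_planes hZm hc)
    obtain ⟨f0, hf0, hf0B, -⟩ := h.exists_not_mem hB hB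
    set V := Z ⊓ Subgroup.centralizer (B : Set G) with hV
    set F0 := Subgroup.zpowers f0 with hF0
    haveI : IsMulCommutative V := ⟨⟨fun u v => Subtype.ext
      (show (u : G) * v = v * u from v.2.1.1.2 u u.2.1.1.1)⟩⟩
    have hVA : A ≤ Subgroup.normalizer (V : Set G) :=
      le_normalizer_inf_of_le hZA (h.le_normalizer_centralizer hB.1)
    have hFV : F0 ≤ Subgroup.normalizer (V : Set G) := (Subgroup.zpowers_le.mpr hf0).trans hVA
    set U := ⁅V, F0⁆ with hU
    have hUV : U ≤ V := commutator_le_left_of_le_normalizer hFV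
    have hVm := mem_family_of_le hZm (inf_le_left : V ≤ Z) hVA
    have hUA : A ≤ Subgroup.normalizer (U : Set G) := le_normalizer_commutator hVA
      (le_normalizer_of_forall fun a ha g hg => by
        rw [h.comm ha ((Subgroup.zpowers_le.mpr hf0) hg), mul_inv_cancel_right]
        exact hg)
    have hUC : Cfsg.signalizerInf A θ ≤ Subgroup.normalizer (U : Set G) :=
      le_normalizer_commutator
        (le_normalizer_inf_of_le hZC (h.inf_le_normalizer_centralizer hB.1))
        (le_normalizer_of_forall fun c hc g hg => by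
          rw [← h.inf_le_centralizer hc g ((Subgroup.zpowers_le.mpr hf0) hg),
            mul_inv_cancel_right]
          exact hg)
    have hcop : (Nat.card F0).Coprime (Nat.card V) :=
      (h.coprime hVm).coprime_dvd_left (Subgroup.card_dvd_of_le (Subgroup.zpowers_le.mpr hf0))
    have hU0 : U ⊓ Subgroup.centralizer ({f0} : Set G) = ⊥ := le_bot_iff.mp <| by
      rw [← centralizer_inf_commutator_eq_bot hFV hcop]
      exact le_inf (le_inf (inf_le_left.trans hUV)
        (inf_le_right.trans fun _ hv => mem_centralizer_singleton_zpowers hv)) inf_le_left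
    have hUf : ∀ f ∈ A, f ∉ B → U ⊓ Subgroup.centralizer ({f} : Set G) = ⊥ := fun f hf hfB =>
      le_bot_iff.mp <| hU0 ▸ le_inf inf_le_left fun v hv =>
        Subgroup.centralizer_le (by simpa using hf0)
          (h.mem_centralizer_of_plane hB hf hfB (hUV hv.1).2 hv.2)
    have hU1 : U ≠ ⊥ := fun he => hnB fun v hv => h.mem_centralizer_of_plane hB hf0 hf0B hv.2
      (Subgroup.centralizer_le (by simp [hF0])
        (Subgroup.commutator_eq_bot_iff_le_centralizer.mp he hv))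
    have hUZ : U ≤ Z := hUV.trans inf_le_left
    have hUm := mem_family_of_le hZm hUZ hUA
    obtain ⟨b, hb, hb1, hnb⟩ : ∃ b ∈ A, b ≠ 1 ∧
        ¬ U ⊓ Subgroup.centralizer ({b} : Set G) ≤ Cfsg.pCoreOf y (θ b) := by
      by_contra hc
      push Not at hc
      exact hU1 (hno U ⟨hUZ.trans (h.Z0_le_Pi y x), hUA, hUC, hc⟩ hUZ)
    have hbB : b ∈ B := by
      by_contra hbB
      exact hnb ((hUf b hb hbB).le.trans bot_le)
    have hbcov : ¬ Covered p A θ y x b := fun hc =>
      hnb (h.inf_le_core_of_covered hUZ hUA hb hb1 hc)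
    refine ⟨B, hB, fun f hf hf1 hcf => ?_, b, hbB, hb1, hbcov⟩
    by_contra hfB
    have hUθ : U ≤ θ b := fun u hu => hUm.2.2.2 b hb hb1
      ⟨hu, Subgroup.centralizer_le (by simpa using hbB) (hUV hu).2⟩
    have hθm := h.theta_mem hb hb1
    refine hnb (inf_le_left.trans (le_pCoreOf_of_fpf (p := p) hθm.1 hθm.2.1 hUθ
      ((h.Pi_isPGroup y).to_le (hUZ.trans (h.Z0_le_Pi y x))) (h.pow_eq_one hf)
      (mem_normalizer_family hθm hf) (hUA hf) (fun u hu hc => ?_) fun v hv hvy d hd hdf u hu => ?_))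
    · have h1 : u ∈ U ⊓ Subgroup.centralizer ({f} : Set G) :=
        ⟨hu, Subgroup.mem_centralizer_singleton_iff.mpr hc.symm⟩
      rw [hUf f hf hfB, Subgroup.mem_bot] at h1
      rw [h1]
      exact one_mem _
    · haveI := Fact.mk hv
      have hdθ : d ∈ θ f := hθm.2.2.2 f hf hf1
        ⟨coreTwo_le y v _ hd, Subgroup.mem_centralizer_singleton_iff.mpr hdf.symm⟩
      refine mem_pCoreOf_of_mem_coreTwo hvy.symm (h.Pi_isPGroup y) ?_
        (mul_mem (h.conj_mem_of_covered hf hf1 hcf hdθ (hUZ hu))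
          (inv_mem (h.Z0_le_Pi y x (hUZ hu))))
      have := mul_mem hd (forall_of_le_normalizer
        (normalizer_le_normalizer_coreTwo y v (A := θ b) (X := θ b) Subgroup.le_normalizer) u
          (hUθ hu) _ (inv_mem hd))
      simpa [mul_assoc] using this

/-- One of the two primes has a universal subgroup in the centre. -/
theorem exists_universal_center (t : Two A θ x y) :
    (∃ U, Universal A θ x U ∧ U ≤ Z0 p A θ x y ∧ U ≠ ⊥) ∨
      ∃ U, Universal A θ y U ∧ U ≤ Z0 p A θ y x ∧ U ≠ ⊥ := by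
  by_contra hc
  push Not at hc
  have cy := h.cover_cases t hc.2
  have cx := h.cover_cases t.symm hc.1
  rcases cy with ⟨-, L, hL, hLn⟩ | ⟨B, hB, hBc, b, hbB, hb1, hbn⟩ <;>
    rcases cx with ⟨-, L', hL', hL'n⟩ | ⟨B', hB', hB'c, b', hb'B, hb'1, hb'n⟩
  · obtain ⟨f, hf1, hf, hf'⟩ := h.exists_mem_inter hL hL'
    rcases h.covered_or t (hL.1 hf) hf1 with h1 | h1
    exacts [hL'n f hf' hf1 h1, hLn f hf hf1 h1]
  · have hLB : L ≤ B' := fun f hf => by
      rcases eq_or_ne f 1 with rfl | hf1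
      · exact one_mem _
      · exact hB'c f (hL.1 hf) hf1 ((h.covered_or t (hL.1 hf) hf1).resolve_right (hLn f hf hf1))
    have hbL : b' ∈ L :=
      (Subgroup.eq_of_le_of_card_ge hLB (by rw [hL.2, hB'.2])).ge hb'B
    exact (h.covered_or t (hL.1 hbL) hb'1).elim hb'n (hLn b' hbL hb'1)
  · have hLB : L' ≤ B := fun f hf => by
      rcases eq_or_ne f 1 with rfl | hf1
      · exact one_mem _
      · exact hBc f (hL'.1 hf) hf1 ((h.covered_or t (hL'.1 hf) hf1).resolve_left (hL'n f hf hf1))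
    have hbL : b ∈ L' :=
      (Subgroup.eq_of_le_of_card_ge hLB (by rw [hL'.2, hB.2])).ge hbB
    exact (h.covered_or t (hL'.1 hbL) hb1).elim (hL'n b hbL hb1) hbn
  · obtain ⟨c, hc', hcB, hcB'⟩ := h.exists_not_mem hB hB'
    have hc1 : c ≠ 1 := fun he => hcB (he ▸ one_mem _)
    exact (h.covered_or t hc' hc1).elim (fun h1 => hcB' (hB'c c hc' hc1 h1))
      fun h1 => hcB (hBc c hc' hc1 h1)

end Minimal

end CfsgLib.Signalizer
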