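import Mathlib
import Cfsg.Agent.Lib.Signalizer.Pair

/-!
Two primes: the plane centralizing the universal subgroup, and the final contradiction.
-/

set_option autoImplicit false
set_option linter.style.haveILetI false
set_option linter.unusedSectionVars false

open Pointwise
open CfsgLib.Coprime
open scoped commutatorElement

namespace CfsgLib.Signalizer

variable {G : Type*} [Group G] [Finite G]

/-- An element moving `V` only along a subgroup `M` fixed by `s` and by `e s e⁻¹`. -/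
theorem twist_mem_centralizer {v : ℕ} [hv : Fact v.Prime] {V M : Subgroup G} (hV : IsPGroup v V)
    {s e : G} (hs : s ∈ Subgroup.normalizer (V : Set G)) (he : e ∈ Subgroup.normalizer (V : Set G))
    (hM : M ≤ V) (heM : e ∈ Subgroup.normalizer (M : Set G))
    (hsM : ∀ m ∈ M, s * m = m * s) (hsM' : ∀ m ∈ M, e * s * e⁻¹ * m = m * (e * s * e⁻¹))
    (hgen : V ≤ M ⊔ V ⊓ Subgroup.centralizer ({e} : Set G))
    (hc : (orderOf (s⁻¹ * (e * s * e⁻¹))).Coprime v) :
    s⁻¹ * (e * s * e⁻¹) ∈ Subgroup.centralizer (V : Set G) := by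
  set c := s⁻¹ * (e * s * e⁻¹) with hcdef
  have hcN : c ∈ Subgroup.normalizer (V : Set G) :=
    mul_mem (inv_mem hs) (mul_mem (mul_mem he hs) (inv_mem he))
  letI : CommGroup (↥V ⧸ frattini ↥V) :=
    { (inferInstance : Group (↥V ⧸ frattini ↥V)) with
      mul_comm := isMulCommutative_frattini_quotient hV }
  set φ := frattiniAct V with hφ
  set S := φ ⟨s, hs⟩ with hS
  set E := φ ⟨e, he⟩ with hE
  set Mb := (M.subgroupOf V).map (QuotientGroup.mk' (frattini ↥V)) with hMb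
  have fixes : ∀ (g : G) (hg : g ∈ Subgroup.normalizer (V : Set G)), (∀ m ∈ M, g * m = m * g) →
      ∀ q ∈ Mb, φ ⟨g, hg⟩ q = q := by
    rintro g hg hgM _ ⟨m, hm, rfl⟩
    rw [QuotientGroup.mk'_apply, hφ, frattiniAct_mk]
    congr 1
    refine Subtype.ext ?_
    show g * (m : G) * g⁻¹ = m
    rw [hgM m hm, mul_inv_cancel_right]
  have hEM : ∀ q ∈ Mb, E q ∈ Mb := by
    rintro _ ⟨m, hm, rfl⟩
    rw [QuotientGroup.mk'_apply, hE, hφ, frattiniAct_mk]
    exact ⟨_, (Subgroup.mem_normalizer_iff.mp heM _).mp hm, rfl⟩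
  let H : Subgroup (↥V ⧸ frattini ↥V) :=
    { carrier := {u | E u * u⁻¹ ∈ Mb}
      one_mem' := by simp
      mul_mem' := fun {a b} ha hb => by
        show E (a * b) * (a * b)⁻¹ ∈ Mb
        rw [map_mul, mul_inv, mul_mul_mul_comm]
        exact mul_mem ha hb
      inv_mem' := fun {a} ha => by
        show E a⁻¹ * a⁻¹⁻¹ ∈ Mb
        rw [map_inv, ← mul_inv]
        exact inv_mem ha }
  have hH : ∀ u, E u * u⁻¹ ∈ Mb := by
    intro u
    obtain ⟨u, rfl⟩ := QuotientGroup.mk'_surjective (frattini ↥V) u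
    have h1 : V ≤ (H.comap (QuotientGroup.mk' (frattini ↥V))).map V.subtype := by
      refine hgen.trans (sup_le (fun m hm => ⟨⟨m, hM hm⟩, ?_, rfl⟩) fun m hm =>
        ⟨⟨m, hm.1⟩, ?_, rfl⟩)
      · show E _ * _ ∈ Mb
        exact mul_mem (hEM _ ⟨_, hm, rfl⟩) (inv_mem ⟨_, hm, rfl⟩)
      · show E _ * _ ∈ Mb
        have h2 : E (QuotientGroup.mk' (frattini ↥V) ⟨m, hm.1⟩) =
            QuotientGroup.mk' (frattini ↥V) ⟨m, hm.1⟩ := by
          rw [QuotientGroup.mk'_apply, hE, hφ, frattiniAct_mk]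
          congr 1
          refine Subtype.ext ?_
          show e * m * e⁻¹ = m
          rw [(Subgroup.mem_centralizer_singleton_iff.mp hm.2).symm, mul_inv_cancel_right]
        rw [h2, mul_inv_cancel]
        exact one_mem _
    obtain ⟨u', hu', hue⟩ := h1 u.2
    rw [← (Subtype.ext hue : u' = u)]
    exact hu'
  have hSfix : ∀ q ∈ Mb, S q = q := fixes s hs hsM
  set Cb := φ ⟨c, hcN⟩ with hCb
  have hCeq : Cb = S⁻¹ * (E * S * E⁻¹) := by
    rw [hCb, hS, hE, ← map_inv, ← map_inv, ← map_mul, ← map_mul, ← map_mul]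
    rfl
  have hCfix : ∀ q ∈ Mb, Cb q = q := fixes c hcN fun m hm => by
    have h1 : Commute s m := hsM m hm
    exact (h1.inv_left.mul_left (show Commute (e * s * e⁻¹) m from hsM' m hm)).eq
  have hstep : ∀ u, Cb u * u⁻¹ ∈ Mb := by
    intro u
    set m1 := E⁻¹ u * u⁻¹ with hm1'
    have hm1 : m1 ∈ Mb := by
      have h1 := inv_mem (hH (E⁻¹ u))
      rwa [MulAut.apply_inv_self, mul_inv, inv_inv, mul_comm] at h1
    set m2 := E (S u) * (S u)⁻¹ with hm2'
    have hm2 : m2 ∈ Mb := hH (S u)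
    have hEu : E⁻¹ u = m1 * u := by rw [hm1', inv_mul_cancel_right]
    have hEm1 := hEM m1 hm1
    have h1 : Cb u = E m1 * m2 * u := by
      rw [hCeq, MulAut.mul_apply, MulAut.mul_apply, MulAut.mul_apply, hEu, map_mul, hSfix m1 hm1,
        map_mul, show E (S u) = m2 * S u by rw [hm2', inv_mul_cancel_right], ← mul_assoc, map_mul]
      have h2 : S⁻¹ (E m1 * m2) = E m1 * m2 := by
        conv_lhs => rw [← hSfix _ (mul_mem hEm1 hm2)]
        rw [MulAut.inv_apply_self]
      rw [h2, MulAut.inv_apply_self]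
    rw [h1, mul_inv_cancel_right]
    exact mul_mem hEm1 hm2
  have hone : Cb = 1 := by
    ext u
    obtain ⟨m, hm, hCu⟩ : ∃ m ∈ Mb, Cb u = m * u :=
      ⟨_, hstep u, by rw [inv_mul_cancel_right]⟩
    have hn : ∀ n : ℕ, (Cb ^ n) u = m ^ n * u := by
      intro n
      induction n with
      | zero => simp
      | succ n ih =>
        rw [pow_succ', MulAut.mul_apply, ih, map_mul, map_pow, hCfix m hm, hCu, ← mul_assoc,
          ← pow_succ]
    have h1 := hn (orderOf c)
    rw [hCb, ← map_pow, show (⟨c, hcN⟩ : ↥(Subgroup.normalizer (V : Set G))) ^ orderOf c = 1 from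
      Subtype.ext (by simpa using pow_orderOf_eq_one c), map_one, MulAut.one_apply,
      eq_comm, mul_eq_right] at h1
    obtain ⟨k, hk⟩ := IsPGroup.iff_card.mp hV
    have h2 : orderOf m ∣ v ^ k :=
      (orderOf_dvd_natCard m).trans (hk ▸ Subgroup.card_quotient_dvd_card _)
    have h3 : orderOf m = 1 :=
      Nat.eq_one_of_dvd_coprimes (hc.pow_right k) (orderOf_dvd_of_pow_eq_one h1) h2
    rw [orderOf_eq_one_iff] at h3
    rw [hCu, h3, one_mul, MulAut.one_apply]
  have hW : Subgroup.zpowers c ≤ Subgroup.centralizer (V : Set G) := by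
    refine frattiniAct_eq_one (v := v) hV (Subgroup.zpowers_le.mpr hcN)
      (by rw [Nat.card_zpowers]; exact hc) fun w => ?_
    obtain ⟨w, hw⟩ := w
    obtain ⟨k, rfl⟩ := hw
    have h1 : (⟨c ^ k, (Subgroup.zpowers_le.mpr hcN) ⟨k, rfl⟩⟩ :
        ↥(Subgroup.normalizer (V : Set G))) = ⟨c, hcN⟩ ^ k := Subtype.ext (by simp)
    show φ _ = 1
    rw [h1, map_zpow, ← hCb, hone, one_zpow]
  exact hW (Subgroup.mem_zpowers c)

variable {p : ℕ} [hp : Fact p.Prime] {A : Subgroup G} {θ : G → Subgroup G}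
  {x y : ℕ} [hx : Fact x.Prime] [hy : Fact y.Prime]

namespace Minimal

variable (h : Minimal p A θ)
include h

/-- A subgroup moved by the values at two points of a plane only inside `Pi x` is universal. -/
theorem universal_of_two {K : Subgroup G} (hK : IsPlane p A K) {e f : G} (he : e ∈ K) (he1 : e ≠ 1)
    (hf : f ∈ K) (hfe : f ∉ Subgroup.zpowers e) {W : Subgroup G} (hW : W ≤ Pi A θ x)
    (hWA : A ≤ Subgroup.normalizer (W : Set G))
    (hWC : Cfsg.signalizerInf A θ ≤ Subgroup.normalizer (W : Set G))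
    (hWK : W ⊓ Subgroup.centralizer (K : Set G) = ⊥)
    (hc : ∀ i, i = e ∨ i = f → ∀ d ∈ θ i, ∀ w ∈ W, d * w * d⁻¹ ∈ Pi A θ x) :
    Universal A θ x W := by
  refine ⟨hW, hWA, hWC, fun j hj hj1 => ?_⟩
  have hθm := h.theta_mem hj hj1
  set U := W ⊓ Subgroup.centralizer ({j} : Set G) with hU
  have hUA : A ≤ Subgroup.normalizer (U : Set G) :=
    le_normalizer_inf_of_le hWA ((h.le_centralizer hj).trans Subgroup.le_normalizer)
  have hUθ : U ≤ θ j := (h.mem_family_Pi hW hWA).2.2.2 j hj hj1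
  have hf1 : f ≠ 1 := fun hc' => hfe (hc' ▸ one_mem _)
  have push : ∀ i, i = e ∨ i = f → ∀ V : Subgroup G, V ≤ U →
      A ≤ Subgroup.normalizer (V : Set G) →
      (∀ v ∈ V, i * v = v * i → v ∈ Cfsg.pCoreOf x (θ j)) → V ≤ Cfsg.pCoreOf x (θ j) := by
    intro i hi V hVU hVA hfix
    have hiK : i ∈ K := by rcases hi with rfl | rfl; exacts [he, hf]
    have hi1 : i ≠ 1 := by rcases hi with rfl | rfl; exacts [he1, hf1]
    refine le_pCoreOf_of_fpf (p := p) hθm.1 hθm.2.1 (hVU.trans hUθ)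
      ((h.Pi_isPGroup x).to_le ((hVU.trans inf_le_left).trans hW)) (h.pow_eq_one (hK.1 hiK))
      (mem_normalizer_family hθm (hK.1 hiK)) (hVA (hK.1 hiK)) hfix fun v hv hvx d hd hdi u hu => ?_
    haveI := Fact.mk hv
    have hdθ : d ∈ θ i := hθm.2.2.2 i (hK.1 hiK) hi1
      ⟨coreTwo_le x v _ hd, Subgroup.mem_centralizer_singleton_iff.mpr hdi.symm⟩
    refine mem_pCoreOf_of_mem_coreTwo hvx.symm (h.Pi_isPGroup x) ?_
      (mul_mem (hc i hi d hdθ u (hVU hu).1) (inv_mem (hW (hVU hu).1)))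
    have := mul_mem hd (forall_of_le_normalizer
      (normalizer_le_normalizer_coreTwo x v (A := θ j) (X := θ j) Subgroup.le_normalizer) u
        (hUθ (hVU hu)) _ (inv_mem hd))
    simpa [mul_assoc] using this
  refine push f (Or.inr rfl) U le_rfl hUA fun u hu hfu => ?_
  have huU : u ∈ U ⊓ Subgroup.centralizer ({f} : Set G) :=
    ⟨hu, Subgroup.mem_centralizer_singleton_iff.mpr hfu.symm⟩
  refine push e (Or.inl rfl) (U ⊓ Subgroup.centralizer ({f} : Set G)) inf_le_left
    (le_normalizer_inf_of_le hUA ((h.le_centralizer (hK.1 hf)).trans Subgroup.le_normalizer))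
    (fun v hv hev => ?_) huU
  have h1 : v ∈ W ⊓ Subgroup.centralizer (K : Set G) := ⟨hv.1.1,
    h.mem_centralizer_plane hK he he1 hf hfe (Subgroup.mem_centralizer_singleton_iff.mpr hev.symm)
      hv.2⟩
  rw [hWK, Subgroup.mem_bot] at h1
  rw [h1]
  exact one_mem _

/-- The conjugates of the central universal subgroup under two good points. -/
theorem two_good_step {a : G} (ha : a ∈ A) (ha1 : a ≠ 1) (hb : ¬ Good p A θ x a) {S : Subgroup G}
    (hSL : S ≤ Lam A θ x) (hSc : S ≤ Subgroup.centralizer (Pi A θ x : Set G))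
    (hSA : A ≤ Subgroup.normalizer (S : Set G))
    (hSC : Cfsg.signalizerInf A θ ≤ Subgroup.normalizer (S : Set G))
    {K : Subgroup G} (hK : IsPlane p A K) (haK : a ∈ K) {e f : G} (he : e ∈ K) (he1 : e ≠ 1)
    (hge : Good p A θ x e) (hf : f ∈ K) (hfe : f ∉ Subgroup.zpowers e) (hgf : Good p A θ x f)
    {N T : Subgroup G} (hN : N ≤ θ a) (hTle : T ≤ θ a)
    (hTK : T ≤ Subgroup.centralizer (K : Set G)) (hNA : A ≤ Subgroup.normalizer (N : Set G))
    (hNC : Cfsg.signalizerInf A θ ≤ Subgroup.normalizer (N : Set G))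
    (hTA : A ≤ Subgroup.normalizer (T : Set G))
    (hTC : Cfsg.signalizerInf A θ ≤ Subgroup.normalizer (T : Set G))
    (hTN : T ≤ Subgroup.normalizer (N : Set G)) (hP : conjClosure S N ≤ Lam A θ x) :
    conjClosure S (N ⊔ T) ≤ Lam A θ x := by
  have hf1 : f ≠ 1 := fun hc' => hfe (hc' ▸ one_mem _)
  set W := conjClosure S (N ⊔ T) with hW
  have hTi : ∀ i ∈ K, i ≠ 1 → T ≤ θ i := fun i hi hi1 t ht => (h.theta_mem ha ha1).2.2.2 i
    (hK.1 hi) hi1 ⟨hTle ht, Subgroup.centralizer_le (by simpa using hi) (hTK ht)⟩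
  have hconj : ∀ i ∈ K, i ≠ 1 → Good p A θ x i → ∀ d ∈ θ i, ∀ g ∈ N ⊔ T, ∀ s ∈ S,
      d * (g * s * g⁻¹) * d⁻¹ ∈ Pi A θ x := by
    intro i hi hi1 hgi d hd g hg s hs
    obtain ⟨n, hn, t, ht, rfl⟩ := exists_mul_eq h hTN hg
    rw [show d * (n * t * s * (n * t)⁻¹) * d⁻¹ =
      d * t * ((t⁻¹ * n * t) * s * (t⁻¹ * n * t)⁻¹) * (d * t)⁻¹ by group]
    refine h.conj_Lam_mem_of_good (hK.1 hi) hi1 hgi (mul_mem hd (hTi i hi hi1 ht))
      (hP (conj_mem_conjClosure ?_ hs))
    simpa using forall_of_le_normalizer hTN t⁻¹ (inv_mem ht) n hn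
  have hWPi : W ≤ Pi A θ x := conjClosure_le_iff.mpr fun g hg s hs => by
    simpa using hconj e he he1 hge 1 (one_mem _) g hg s hs
  have hWcomm : W ≤ Subgroup.centralizer (W : Set G) := by
    refine conjClosure_le_iff.mpr fun g hg s hs => ?_
    have hle : W ≤ Subgroup.centralizer ({g * s * g⁻¹} : Set G) := by
      refine conjClosure_le_iff.mpr fun g' hg' s' hs' => ?_
      refine Subgroup.mem_centralizer_singleton_iff.mpr ?_
      have h1 := hSc hs' _ (hWPi (conj_mem_conjClosure (mul_mem (inv_mem hg') hg) hs))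
      calc g' * s' * g'⁻¹ * (g * s * g⁻¹)
          = g' * (s' * (g'⁻¹ * g * s * (g'⁻¹ * g)⁻¹)) * g'⁻¹ := by group
        _ = g' * (g'⁻¹ * g * s * (g'⁻¹ * g)⁻¹ * s') * g'⁻¹ := by rw [h1]
        _ = g * s * g⁻¹ * (g' * s' * g'⁻¹) := by group
    intro w hw
    exact Subgroup.mem_centralizer_singleton_iff.mp (hle hw)
  haveI : IsMulCommutative W := ⟨⟨fun u v => Subtype.ext (hWcomm v.2 u u.2)⟩⟩
  have hNTa : N ⊔ T ≤ θ a := sup_le hN hTle
  have hWA : A ≤ Subgroup.normalizer (W : Set G) :=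
    le_normalizer_conjClosure (le_normalizer_sup_of_le hNA hTA) hSA
  have hWa : W ⊓ Subgroup.centralizer ({a} : Set G) = ⊥ := by
    refine inf_centralizer_iSup_eq_bot (Z := W) (h.pow_eq_one ha)
      (fun g => le_iSup (fun g : ↥(N ⊔ T) => MulAut.conj (g : G) • S) g)
      (fun hd => (h.Pi_mem x).2.1 (hd.trans (Subgroup.card_dvd_of_le hWPi))) (fun g => ?_)
      fun g => ?_
    · rw [mem_normalizer_iff_conj_smul, ← mul_smul, ← map_mul,
        ← Subgroup.mem_centralizer_singleton_iff.mp (h.solv.1.1 a ha ha1 (hNTa g.2)), map_mul,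
        mul_smul, conj_smul_eq_self_of_mem_normalizer (hSA ha)]
    · refine eq_bot_iff.mpr ?_
      rintro _ ⟨⟨s, hs, rfl⟩, hsc⟩
      have hga := h.solv.1.1 a ha ha1 (hNTa g.2)
      have h1 : (g : G) * s * (g : G)⁻¹ ∈ Subgroup.centralizer ({a} : Set G) := hsc
      have h2 : s ∈ Lam A θ x ⊓ Subgroup.centralizer ({a} : Set G) :=
        ⟨hSL hs, by simpa [mul_assoc] using mul_mem (mul_mem (inv_mem hga) h1) hga⟩
      rw [h.Lam_inf_centralizer_of_bad ha ha1 hb, Subgroup.mem_bot] at h2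
      simp [h2]
  refine h.le_Lam (h.universal_of_two hK he he1 hf hfe hWPi hWA
    (le_normalizer_conjClosure (le_normalizer_sup_of_le hNC hTC) hSC)
    (le_bot_iff.mp (hWa ▸ inf_le_inf_left _ (Subgroup.centralizer_le (by simpa using haK))))
    fun i hi d hd w hw => ?_)
  have hiK : i ∈ K := by rcases hi with rfl | rfl; exacts [he, hf]
  have hi1 : i ≠ 1 := by rcases hi with rfl | rfl; exacts [he1, hf1]
  have hgi : Good p A θ x i := by rcases hi with rfl | rfl; exacts [hge, hgf]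
  have hle : W ≤ (Pi A θ x).comap (MulAut.conj d).toMonoidHom :=
    conjClosure_le_iff.mpr fun g hg s hs => hconj i hiK hi1 hgi d hd g hg s hs
  exact hle hw

/-- Only one line of good points on a plane: the universal subgroup centralizes it. -/
theorem Lam_le_centralizer_of_exceptional {K : Subgroup G} (hK : IsPlane p A K) {e : G}
    (he : e ∈ K) (hexc : ∀ f ∈ K, f ≠ 1 → Good p A θ x f → f ∈ Subgroup.zpowers e) :
    Lam A θ x ≤ Subgroup.centralizer ({e} : Set G) := by
  refine h.le_of_points h.Lam_mem hK fun f hf hf1 => ?_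
  by_cases hfe : f ∈ Subgroup.zpowers e
  · refine inf_le_right.trans fun v hv => ?_
    have h1 := mem_centralizer_singleton_zpowers hv
    rw [h.zpowers_eq_of_mem (hK.1 he) hf1 hfe] at h1
    exact Subgroup.centralizer_le (by simp) h1
  · rw [h.Lam_inf_centralizer_of_bad (hK.1 hf) hf1 fun hg => hfe (hexc f hf hf1 hg)]
    exact bot_le

/-- The plane centralizing the universal subgroup. -/
theorem exists_plane_Lam (hS0 : Lam A θ x ⊓ Subgroup.centralizer (Pi A θ x : Set G) ≠ ⊥) :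
    ∃ B, IsPlane p A B ∧ Lam A θ x ≤ Subgroup.centralizer (B : Set G) ∧
      ∀ L, IsPlane p A L → L ≠ B → ∃ f ∈ L, f ≠ 1 ∧ ¬ Good p A θ x f := by
  set S := Lam A θ x ⊓ Subgroup.centralizer (Pi A θ x : Set G) with hS
  have hL : Lam A θ x ≠ ⊥ := fun he => hS0 (le_bot_iff.mp (he ▸ inf_le_left))
  have hSL : S ≤ Lam A θ x := inf_le_left
  have hSc : S ≤ Subgroup.centralizer (Pi A θ x : Set G) := inf_le_right
  have hSA : A ≤ Subgroup.normalizer (S : Set G) := le_normalizer_inf_of_le h.A_le_normalizer_Lam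
    (CfsgLib.Coprime.le_normalizer_centralizer (h.A_le_normalizer_Pi x))
  have hSC : Cfsg.signalizerInf A θ ≤ Subgroup.normalizer (S : Set G) :=
    le_normalizer_inf_of_le h.inf_le_normalizer_Lam
      (CfsgLib.Coprime.le_normalizer_centralizer (h.inf_le_normalizer_Pi x))
  obtain ⟨a, ha, ha1, hb⟩ := h.exists_bad hL
  have hθm := h.theta_mem ha ha1
  have hθa := h.solv.1.1 a ha ha1
  have hCθ := h.inf_le_theta ha ha1
  have hgood : ∀ V : Subgroup G, S ≤ V → V ≤ Pi A θ x → A ≤ Subgroup.normalizer (V : Set G) →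
      θ a ≤ Subgroup.normalizer (V : Set G) → False := fun V hSV hV hVA hVn =>
    hb (h.good_of_normalizes ha ha1 (h.mem_family_Pi hV hVA)
      (fun he => hS0 (le_bot_iff.mp (he ▸ hSV))) ((h.Pi_isPGroup x).to_le hV) hVn)
  -- exceptional planes at `a`
  obtain ⟨K, hK, haK, e, he, he1, hge, hexc⟩ : ∃ K, IsPlane p A K ∧ a ∈ K ∧ ∃ e ∈ K, e ≠ 1 ∧
      Good p A θ x e ∧ ∀ f ∈ K, f ≠ 1 → Good p A θ x f → f ∈ Subgroup.zpowers e := by
    by_contra hc
    push Not at hc
    refine hgood (conjClosure S (θ a)) (le_conjClosure _ _) ?_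
      (le_normalizer_conjClosure (mem_normalizer_family hθm) hSA)
      (le_normalizer_conjClosure_self _ _)
    refine le_trans ?_ h.Lam_le_Pi
    refine h.climb ha hθm hθa hCθ (P := fun N => conjClosure S N ≤ Lam A θ x)
      (conjClosure_le_iff.mpr fun t ht u hu => ?_) ?_
    · rw [Subgroup.mem_bot] at ht
      simpa [ht] using hSL hu
    intro N T K hK haK hN hT hTK hNA hNC hTA hTC hTN hP
    obtain ⟨e, he, he1, hge⟩ := h.exists_good_of_plane hL hK
    obtain ⟨f, hf, hf1, hgf, hfe⟩ := hc K hK haK e he he1 hge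
    exact h.two_good_step ha ha1 hb hSL hSc hSA hSC hK haK he he1 hge hf hfe hgf hN hT hTK hNA hNC
      hTA hTC hTN hP
  have hΛe := h.Lam_le_centralizer_of_exceptional hK he hexc
  -- a second exceptional plane
  obtain ⟨K', hK', haK', heK', e', he', he'1, hge', hexc'⟩ : ∃ K', IsPlane p A K' ∧ a ∈ K' ∧
      e ∉ K' ∧ ∃ e' ∈ K', e' ≠ 1 ∧ Good p A θ x e' ∧
        ∀ f ∈ K', f ≠ 1 → Good p A θ x f → f ∈ Subgroup.zpowers e' := by
    by_contra hc
    push Not at hc
    have hnorm : ∀ T K' : Subgroup G, IsPlane p A K' → a ∈ K' → e ∉ K' → T ≤ θ a →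
        T ≤ Subgroup.centralizer (K' : Set G) → A ≤ Subgroup.normalizer (T : Set G) →
        Cfsg.signalizerInf A θ ≤ Subgroup.normalizer (T : Set G) →
        T ≤ Subgroup.normalizer (S : Set G) := by
      intro T K' hK' haK' heK' hT hTK hTA hTC
      obtain ⟨g0, hg0, hg01, hgg0⟩ := h.exists_good_of_plane hL hK'
      obtain ⟨f, hf, hf1, hgf, hfe⟩ := hc K' hK' haK' heK' g0 hg0 hg01 hgg0
      have hWΛ : conjClosure S (⊥ ⊔ T) ≤ Lam A θ x := by
        refine h.two_good_step ha ha1 hb hSL hSc hSA hSC hK' haK' hg0 hg01 hgg0 hf hfe hgf bot_le hT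
          hTK (by rw [Subgroup.normalizer_eq_top_iff.mpr inferInstance]; exact le_top)
          (by rw [Subgroup.normalizer_eq_top_iff.mpr inferInstance]; exact le_top) hTA hTC
          (by rw [Subgroup.normalizer_eq_top_iff.mpr inferInstance]; exact le_top)
          (conjClosure_le_iff.mpr fun t ht u hu => ?_)
        rw [Subgroup.mem_bot] at ht
        simpa [ht] using hSL hu
      rw [bot_sup_eq] at hWΛ
      set E := Subgroup.zpowers e with hE
      have hET : E ≤ Subgroup.normalizer (T : Set G) :=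
        (Subgroup.zpowers_le.mpr (hK.1 he)).trans hTA
      have hcop : (Nat.card E).Coprime (Nat.card T) :=
        (h.coprime (mem_family_of_le hθm hT hTA)).coprime_dvd_left
          (Subgroup.card_dvd_of_le (Subgroup.zpowers_le.mpr (hK.1 he)))
      rw [← commutator_sup_centralizer hET hcop
        (Or.inl (Group.isSolvable_of_comm fun u v => mul_comm' u v))]
      refine sup_le ((Subgroup.commutator_le.mpr fun t ht g hg => ?_).trans
        (Subgroup.centralizer_le_normalizer _)) fun t ht => ?_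
      · intro s hs
        have hge1 : ∀ s ∈ S, g * s = s * g := fun s hs =>
          ((mem_centralizer_singleton_zpowers (hΛe (hSL hs))) g hg)
        have h1 : g * (t⁻¹ * s * t) = t⁻¹ * s * t * g := by
          have hm : t⁻¹ * s * t ∈ Lam A θ x := by
            simpa using hWΛ (conj_mem_conjClosure (inv_mem ht) hs)
          exact (mem_centralizer_singleton_zpowers (hΛe hm)) g hg
        have h2 : s * g⁻¹ = g⁻¹ * s :=
          ((show Commute g s from hge1 s hs).inv_left.eq).symm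
        show s * ⁅t, g⁆ = ⁅t, g⁆ * s
        rw [commutatorElement_def]
        calc s * (t * g * t⁻¹ * g⁻¹) = t * ((t⁻¹ * s * t) * g) * t⁻¹ * g⁻¹ := by group
          _ = t * (g * (t⁻¹ * s * t)) * t⁻¹ * g⁻¹ := by rw [h1]
          _ = t * g * t⁻¹ * (s * g⁻¹) := by group
          _ = t * g * t⁻¹ * (g⁻¹ * s) := by rw [h2]
          _ = t * g * t⁻¹ * g⁻¹ * s := by group
      · have htA : t ∈ Subgroup.centralizer (A : Set G) :=
          h.mem_centralizer_of_plane hK' (hK.1 he) heK' (hTK ht.1)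
            (Subgroup.centralizer_le (by simp [hE]) ht.2)
        exact hSC (h.inf_centralizer_le_inf hθm ⟨hT ht.1, htA⟩)
    have hprod : ∀ g ∈ θ a, ∃ u ∈ Subgroup.normalizer (S : Set G), ∃ c ∈ θ a,
        c ∈ Subgroup.centralizer ({e} : Set G) ∧ u * c = g := by
      refine h.climb ha hθm hθa hCθ (P := fun N => ∀ g ∈ N, ∃ u ∈ Subgroup.normalizer (S : Set G),
        ∃ c ∈ θ a, c ∈ Subgroup.centralizer ({e} : Set G) ∧ u * c = g) (fun g hg => ?_) ?_
      · rw [Subgroup.mem_bot] at hg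
        exact ⟨1, one_mem _, 1, one_mem _, one_mem _, by simp [hg]⟩
      intro N T K' hK' haK' _ hT hTK _ _ hTA hTC hTN hP g hg
      obtain ⟨n, hn, t, ht, rfl⟩ := exists_mul_eq h hTN hg
      by_cases heK' : e ∈ K'
      · obtain ⟨u, hu, c, hc1, hc2, rfl⟩ := hP n hn
        exact ⟨u, hu, c * t, mul_mem hc1 (hT ht),
          mul_mem hc2 (Subgroup.centralizer_le (by simpa using heK') (hTK ht)), by group⟩
      · obtain ⟨u, hu, c, hc1, hc2, he'⟩ := hP (t⁻¹ * n * t)
          (by simpa using forall_of_le_normalizer hTN t⁻¹ (inv_mem ht) n hn)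
        refine ⟨t * u, mul_mem (hnorm T K' hK' haK' heK' hT hTK hTA hTC ht) hu, c, hc1, hc2, ?_⟩
        rw [mul_assoc, he']
        group
    refine hgood (conjClosure S (θ a)) (le_conjClosure _ _)
      (conjClosure_le_iff.mpr fun g hg s hs => ?_)
      (le_normalizer_conjClosure (mem_normalizer_family hθm) hSA)
      (le_normalizer_conjClosure_self _ _)
    obtain ⟨u, hu, c, hc1, hc2, he'⟩ := hprod g⁻¹ (inv_mem hg)
    have hg' : g = c⁻¹ * u⁻¹ := by rw [← mul_inv_rev, he', inv_inv]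
    rw [hg', show c⁻¹ * u⁻¹ * s * (c⁻¹ * u⁻¹)⁻¹ = c⁻¹ * (u⁻¹ * s * u⁻¹⁻¹) * c⁻¹⁻¹ by group]
    refine h.conj_Lam_mem_of_good (hK.1 he) he1 hge (inv_mem ?_)
      (hSL ((Subgroup.mem_normalizer_iff.mp (inv_mem hu) s).mp hs))
    exact hθm.2.2.2 e (hK.1 he) he1 ⟨hc1, hc2⟩
  have hΛe' := h.Lam_le_centralizer_of_exceptional hK' he' hexc'
  have hne : e' ∉ Subgroup.zpowers e := fun hm => heK' (Subgroup.zpowers_le.mp
    ((h.zpowers_eq_of_mem (hK.1 he) he'1 hm) ▸ Subgroup.zpowers_le.mpr he'))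
  obtain ⟨B, hB, heB, he'B⟩ := h.exists_plane (hK.1 he) (hK'.1 he')
  refine ⟨B, hB, fun v hv => h.mem_centralizer_plane hB heB he1 he'B hne (hΛe hv) (hΛe' hv),
    fun L hL' hLB => ?_⟩
  by_contra hall
  push Not at hall
  obtain ⟨f, hf1, hfL, hfK⟩ := h.exists_mem_inter hL' hK
  obtain ⟨f', hf'1, hf'L, hf'K⟩ := h.exists_mem_inter hL' hK'
  have heL : e ∈ L := Subgroup.zpowers_le.mp
    ((h.zpowers_eq_of_mem (hK.1 he) hf1 (hexc f hfK hf1 (hall f hfL hf1))) ▸
      Subgroup.zpowers_le.mpr hfL)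
  have he'L : e' ∈ L := Subgroup.zpowers_le.mp
    ((h.zpowers_eq_of_mem (hK'.1 he') hf'1 (hexc' f' hf'K hf'1 (hall f' hf'L hf'1))) ▸
      Subgroup.zpowers_le.mpr hf'L)
  exact hne (h.inter_le_zpowers hL' hB hLB he1 heL heB ⟨he'L, he'B⟩)

theorem not_mem_plane_Lam {B : Subgroup G} (hL : Lam A θ x ≠ ⊥) (hB : IsPlane p A B)
    (hΛ : Lam A θ x ≤ Subgroup.centralizer (B : Set G)) {a : G} (ha : a ∈ A) (ha1 : a ≠ 1)
    (hb : ¬ Good p A θ x a) : a ∉ B := fun haB => hL (le_bot_iff.mp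
  (h.Lam_inf_centralizer_of_bad ha ha1 hb ▸
    le_inf le_rfl (hΛ.trans (Subgroup.centralizer_le (by simpa using haB)))))

theorem exists_bad_avoid {B P : Subgroup G} (hL : Lam A θ x ≠ ⊥) (hB : IsPlane p A B)
    (hΛ : Lam A θ x ≤ Subgroup.centralizer (B : Set G))
    (hbad : ∀ L, IsPlane p A L → L ≠ B → ∃ f ∈ L, f ≠ 1 ∧ ¬ Good p A θ x f)
    (hP : IsPlane p A P) : ∃ a ∈ A, a ≠ 1 ∧ ¬ Good p A θ x a ∧ a ∉ P := by
  obtain ⟨e0, he01, he0B, he0P⟩ := h.exists_mem_inter hB hP
  obtain ⟨c, hc, hcB, hcP⟩ := h.exists_not_mem hB hP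
  obtain ⟨L, hL', he0L, hcL⟩ := h.exists_plane (hB.1 he0B) hc
  obtain ⟨a, haL, ha1, hb⟩ := hbad L hL' fun he => hcB (he ▸ hcL)
  refine ⟨a, hL'.1 haL, ha1, hb, fun haP => h.not_mem_plane_Lam hL hB hΛ (hL'.1 haL) ha1 hb ?_⟩
  exact (Subgroup.zpowers_le.mpr he0B)
    (h.inter_le_zpowers hL' hP (fun he => hcP (he ▸ hcL)) he01 he0L he0P ⟨haL, haP⟩)

theorem core_inf_centralizer_of_bad (t : Two A θ x y) {M : Subgroup G}
    (hM : Multi p A θ x y M) {a : G} (ha : a ∈ A) (ha1 : a ≠ 1) (hb : ¬ Good p A θ x a) :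
    Cfsg.pCoreOf x M ⊓ Subgroup.centralizer ({a} : Set G) = ⊥ := by
  obtain ⟨X, hX, haX⟩ := h.exists_max_theta ha ha1
  have hX0 : Cfsg.pCoreOf x X = ⊥ := by
    by_contra hne
    exact hb ⟨X, h.max_mem hX, haX, hne⟩
  have hQX : Cfsg.pCoreOf x M ⊓ Subgroup.centralizer ({a} : Set G) ≤ X :=
    ((h.pCoreOf_mem (h.max_mem hM.max) x).2.2.2 a ha ha1).trans haX
  refine le_bot_iff.mp ((h.le_core_of_two t (h.max_mem hX) hQX
    ((PReduced.isPGroup_pCoreOf x M).to_le inf_le_left) ?_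
    (h.le_centralizer_core t hM (h.max_mem hX) (h.inf_le_normalizer_of_max hX) hQX inf_le_left)).trans
    hX0.le)
  rw [hX0]
  intro u _ f hf
  rw [Subgroup.coe_bot, Set.mem_singleton_iff] at hf
  simp [hf]

theorem core_le_centralizer_plane (t : Two A θ x y) {B : Subgroup G}
    (hbad : ∀ L, IsPlane p A L → L ≠ B → ∃ f ∈ L, f ≠ 1 ∧ ¬ Good p A θ x f) {M : Subgroup G}
    (hM : Multi p A θ x y M) : Cfsg.pCoreOf x M ≤ Subgroup.centralizer (B : Set G) := by
  refine h.le_of_planes (h.pCoreOf_mem (h.max_mem hM.max) x) fun L hL => ?_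
  rcases eq_or_ne L B with rfl | hne
  · exact inf_le_right
  obtain ⟨a, haL, ha1, hb⟩ := hbad L hL hne
  refine le_trans ?_ bot_le
  rw [← h.core_inf_centralizer_of_bad t hM (hL.1 haL) ha1 hb]
  exact inf_le_inf_left _ (Subgroup.centralizer_le (by simpa using haL))

theorem Pi_y_le_multi (t : Two A θ x y) (hL : Lam A θ x ≠ ⊥) {B : Subgroup G}
    (hB : IsPlane p A B)
    (hbad : ∀ L, IsPlane p A L → L ≠ B → ∃ f ∈ L, f ≠ 1 ∧ ¬ Good p A θ x f) {M : Subgroup G}
    (hM : Multi p A θ x y M) : Pi A θ y ≤ M := by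
  by_contra hne
  obtain ⟨K, e, hK, he, he1, -, hxe, hk⟩ := h.exists_fail t.symm hM.symm hne
  have hD := h.core_le_centralizer_plane t hbad hM
  obtain ⟨a, ha, ha1, hb⟩ := h.exists_bad hL
  have hin : ∀ k ∈ K, k ∉ Subgroup.zpowers e → k ∈ B := by
    intro k hkK hke
    by_contra hkB
    refine (hk k hkK hke).1 (le_bot_iff.mp ?_)
    rw [← h.core_inf_centralizer_of_bad t hM ha ha1 hb]
    exact le_inf inf_le_left fun v hv => Subgroup.centralizer_le (by simpa using ha)
      (h.mem_centralizer_of_plane hB (hK.1 hkK) hkB (hD hv.1) hv.2)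
  obtain ⟨k, hkK, hke⟩ := SetLike.not_le_iff_exists.mp (fun hle : K ≤ Subgroup.zpowers e => by
    have h1 := (Subgroup.card_dvd_of_le hle).trans (h.card_zpowers_le (hK.1 he))
    rw [hK.2] at h1
    have h2 := Nat.le_of_dvd hp.out.pos h1
    nlinarith [hp.out.two_le])
  have h2 : k * e ∈ B := hin _ (mul_mem hkK he) fun hm => hke
    (by simpa using mul_mem hm (inv_mem (Subgroup.mem_zpowers e)))
  have heB : e ∈ B := by simpa using mul_mem (inv_mem (hin k hkK hke)) h2
  exact hM.coreX (le_bot_iff.mp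
    (hxe ▸ le_inf le_rfl (hD.trans (Subgroup.centralizer_le (by simpa using heB)))))

theorem not_centralized_plane (t : Two A θ x y) (hL : Lam A θ x ≠ ⊥) {B : Subgroup G}
    (hB : IsPlane p A B) (hΛ : Lam A θ x ≤ Subgroup.centralizer (B : Set G)) {Y : Subgroup G}
    (hPY : Pi A θ y ≤ Y) (hYB : Y ≤ Subgroup.centralizer (B : Set G)) : False := by
  obtain ⟨a, ha, ha1, hb⟩ := h.exists_bad hL
  have haB := h.not_mem_plane_Lam hL hB hΛ ha ha1 hb
  have hθm := h.theta_mem ha ha1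
  have hAθ : θ a ≤ Subgroup.centralizer (A : Set G) := by
    intro g hg b hb'
    refine (Subgroup.mem_centralizer_singleton_iff.mp (le_centralizer_of_pCoreOf hθm.1 hθm.2.1
      (h.pow_eq_one hb') (mem_normalizer_family hθm hb') (fun v hv => ?_) hg)).symm
    rcases eq_or_ne v x with rfl | hvx
    · rw [h.pCoreOf_theta_of_bad ha ha1 hb]
      exact bot_le
    rcases eq_or_ne v y with rfl | hvy
    · intro r hr
      exact Subgroup.centralizer_le (by simpa using hb') (h.mem_centralizer_of_plane hB ha haB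
        (hYB (hPY (h.pCoreOf_theta_le_Pi ha ha1 v hr))) (h.solv.1.1 a ha ha1 (pCoreOf_le v _ hr)))
    · rw [h.pCoreOf_eq_bot_of_ne t hθm hv hvx hvy]
      exact bot_le
  refine hb (h.good_of_normalizes ha ha1 h.Lam_mem hL h.Lam_isPGroup (fun g hg => ?_))
  exact h.inf_le_normalizer_Lam (h.inf_centralizer_le_inf hθm ⟨hg, hAθ hg⟩)

/-- The final contradiction for two primes, with a universal subgroup in the centre of `Pi x`. -/
theorem not_two_aux (t : Two A θ x y) {U : Subgroup G} (hU : Universal A θ x U)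
    (hUZ : U ≤ Z0 p A θ x y) (hU1 : U ≠ ⊥) : False := by
  have hS0 : Lam A θ x ⊓ Subgroup.centralizer (Pi A θ x : Set G) ≠ ⊥ := fun he =>
    hU1 (le_bot_iff.mp (he ▸ le_inf (h.le_Lam hU) (hUZ.trans (inf_le_left.trans inf_le_right))))
  have hL : Lam A θ x ≠ ⊥ := fun he => hS0 (le_bot_iff.mp (he ▸ inf_le_left))
  obtain ⟨B, hB, hΛ, hbad⟩ := h.exists_plane_Lam hS0
  by_cases hex : ∃ V, Universal A θ y V ∧ V ≤ Z0 p A θ y x ∧ V ≠ ⊥
  · obtain ⟨V, hV, hVZ, hV1⟩ := hex
    have hS0' : Lam A θ y ⊓ Subgroup.centralizer (Pi A θ y : Set G) ≠ ⊥ := fun he =>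
      hV1 (le_bot_iff.mp (he ▸ le_inf (h.le_Lam hV) (hVZ.trans (inf_le_left.trans inf_le_right))))
    have hL' : Lam A θ y ≠ ⊥ := fun he => hS0' (le_bot_iff.mp (he ▸ inf_le_left))
    obtain ⟨B', hB', hΛ', hbad'⟩ := h.exists_plane_Lam hS0'
    obtain ⟨n, hn1, hnB, hnB'⟩ := h.exists_mem_inter hB hB'
    have hnA := hB.1 hnB
    obtain ⟨M, hM, hnM⟩ := h.exists_max_theta hnA hn1
    have hMm := h.max_mem hM
    have hx1 : Cfsg.pCoreOf x M ≠ ⊥ := fun he => hL (le_bot_iff.mp (he ▸ le_trans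
      (le_inf le_rfl (((le_inf le_rfl (hΛ.trans (Subgroup.centralizer_le (by simpa using hnB)))).trans
        (h.Lam_mem.2.2.2 n hnA hn1)).trans hnM)) (h.Lam_inf_le hMm)))
    have hy1 : Cfsg.pCoreOf y M ≠ ⊥ := fun he => hL' (le_bot_iff.mp (he ▸ le_trans
      (le_inf le_rfl (((le_inf le_rfl (hΛ'.trans (Subgroup.centralizer_le (by simpa using hnB')))).trans
        (h.Lam_mem.2.2.2 n hnA hn1)).trans hnM)) (h.Lam_inf_le hMm)))
    have hmu : Multi p A θ x y M := ⟨hM, hx1, hy1⟩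
    have hMn : M ≤ Subgroup.centralizer ({n} : Set G) := by
      refine le_centralizer_of_pCoreOf hMm.1 hMm.2.1 (h.pow_eq_one hnA)
        (mem_normalizer_family hMm hnA) fun v hv => ?_
      rcases eq_or_ne v x with rfl | hvx
      · exact (h.core_le_centralizer_plane t hbad hmu).trans
          (Subgroup.centralizer_le (by simpa using hnB))
      rcases eq_or_ne v y with rfl | hvy
      · exact (h.core_le_centralizer_plane t.symm hbad' hmu.symm).trans
          (Subgroup.centralizer_le (by simpa using hnB'))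
      · rw [h.pCoreOf_eq_bot_of_ne t hMm hv hvx hvy]
        exact bot_le
    have hPy := h.Pi_y_le_multi t hL hB hbad hmu
    have hPx := h.Pi_y_le_multi t.symm hL' hB' hbad' hmu.symm
    refine h.not_cover ⟨M, hMm, fun a ha ha1 => ?_⟩
    have hθm := h.theta_mem ha ha1
    have hθn : θ a ≤ Subgroup.centralizer ({n} : Set G) := by
      refine le_centralizer_of_pCoreOf hθm.1 hθm.2.1 (h.pow_eq_one hnA)
        (mem_normalizer_family hθm hnA) fun v hv => ?_
      rcases eq_or_ne v x with rfl | hvx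
      · exact ((h.pCoreOf_theta_le_Pi ha ha1 v).trans hPx).trans hMn
      rcases eq_or_ne v y with rfl | hvy
      · exact ((h.pCoreOf_theta_le_Pi ha ha1 v).trans hPy).trans hMn
      · rw [h.pCoreOf_eq_bot_of_ne t hθm hv hvx hvy]
        exact bot_le
    exact (le_inf le_rfl hθn).trans ((h.solv.1.2.2.2 a ha ha1 n hnA hn1).trans hnM)
  push Not at hex
  rcases h.cover_cases t hex with ⟨hfix, L, hL', hLn⟩ | ⟨P, hP, hPc, -⟩
  swap
  · obtain ⟨a, ha, ha1, hb, haP⟩ := h.exists_bad_avoid hL hB hΛ hbad hP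
    exact haP (hPc a ha ha1 (h.covered_of_bad t ha ha1 hb))
  have hnB : ∀ b ∈ B, b ≠ 1 → ¬ Covered p A θ y x b := by
    rcases eq_or_ne L B with rfl | hne
    · exact hLn
    obtain ⟨a, haL, ha1, hb⟩ := hbad L hL' hne
    exact absurd (h.covered_of_bad t (hL'.1 haL) ha1 hb) (hLn a haL ha1)
  set F := Z0 p A θ y x with hF
  have hF1 : F ≠ ⊥ := h.Z0_ne_bot t.symm
  have hFA := h.A_le_normalizer_Z0 y x
  have hFm := h.mem_family_Pi (h.Z0_le_Pi y x) hFA
  have hFC : F ≤ Cfsg.signalizerInf A θ := (le_inf le_rfl hfix).trans (h.inf_centralizer_le_inf hFm)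
  -- no maximal member has two cores
  have hsingle : ∀ M, ¬ Multi p A θ x y M := by
    intro M hM
    have hPy := h.Pi_y_le_multi t hL hB hbad hM
    obtain ⟨b, hb, hb1⟩ := exists_ne_one_of_ne_bot (h.plane_ne_bot hB)
    have hbA := hB.1 hb
    have hFy : F ≤ Cfsg.pCoreOf y M := inf_le_right.trans
      (iInf_le (fun M : {M : Subgroup G // Multi p A θ y x M ∧ Pi A θ y ≤ M} =>
        Cfsg.pCoreOf y (M : Subgroup G)) ⟨M, hM.symm, hPy⟩)
    obtain ⟨X, hX, hbX⟩ := h.exists_max_theta hbA hb1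
    have hmx : X ⊓ Cfsg.pCoreOf x M ≠ ⊥ := fun he => hM.coreX (le_bot_iff.mp (he ▸ le_inf
      (((le_inf le_rfl ((h.core_le_centralizer_plane t hbad hM).trans
        (Subgroup.centralizer_le (by simpa using hb)))).trans
          ((h.pCoreOf_mem (h.max_mem hM.max) x).2.2.2 b hbA hb1)).trans hbX) le_rfl))
    have hmy : X ⊓ Cfsg.pCoreOf y M ≠ ⊥ := fun he => hF1 (le_bot_iff.mp (he ▸ le_inf
      ((hFC.trans (h.inf_le_theta hbA hb1)).trans hbX) hFy))
    have hXM : X = M := by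
      by_contra hne
      rcases h.max_core t hX with h3 | h3
      · exact h3 ((h.eq_or_core_eq_bot t.symm hM.symm hX hmy).resolve_left hne)
      · exact h3 ((h.eq_or_core_eq_bot t hM hX hmx).resolve_left hne)
    exact hnB b hb hb1 ⟨X, h.max_mem hX, hbX, hXM ▸ hFy⟩
  have hPyF : Pi A θ y ≤ Subgroup.normalizer (F : Set G) :=
    (Subgroup.le_centralizer_iff.mp (inf_le_left.trans inf_le_right :
      F ≤ Subgroup.centralizer (Pi A θ y : Set G))).trans (Subgroup.centralizer_le_normalizer _)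
  obtain ⟨Y, hY, hle⟩ := h.exists_max (h.normMember_mem hFm hF1)
    (h.le_normMember h.inf_mem (h.inf_le_normalizer_Z0 y x))
  have hPY : Pi A θ y ≤ Y := (h.le_normMember (h.Pi_mem y) hPyF).trans hle
  have hYm := h.max_mem hY
  refine h.not_centralized_plane t hL hB hΛ hPY fun g hg b hb => ?_
  have hbA := hB.1 hb
  rcases eq_or_ne b 1 with rfl | hb1
  · simp
  refine (Subgroup.mem_centralizer_singleton_iff.mp (le_centralizer_of_pCoreOf hYm.1 hYm.2.1
    (h.pow_eq_one hbA) (mem_normalizer_family hYm hbA) (fun v hv => ?_) hg)).symm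
  rcases eq_or_ne v x with rfl | hvx
  · refine le_trans (h.le_of_planes (h.pCoreOf_mem hYm v) fun L2 hL2 => ?_)
      (Subgroup.centralizer_le (by simpa using hb) :
        Subgroup.centralizer (B : Set G) ≤ Subgroup.centralizer ({b} : Set G))
    rcases eq_or_ne L2 B with rfl | hne
    · exact inf_le_right
    obtain ⟨a, haL, ha1, hba⟩ := hbad L2 hL2 hne
    have haA := hL2.1 haL
    refine le_trans (inf_le_inf_left _ (Subgroup.centralizer_le (by simpa using haL) :
      Subgroup.centralizer (L2 : Set G) ≤ Subgroup.centralizer ({a} : Set G))) ?_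
    have hQθ := (h.pCoreOf_mem hYm v).2.2.2 a haA ha1
    refine ((h.le_core_of_two t (h.theta_mem haA ha1) hQθ
      ((PReduced.isPGroup_pCoreOf v Y).to_le inf_le_left) ?_ ?_).trans
        (h.pCoreOf_theta_of_bad haA ha1 hba).le).trans bot_le
    · rw [h.pCoreOf_theta_of_bad haA ha1 hba]
      intro u _ f hf
      rw [Subgroup.coe_bot, Set.mem_singleton_iff] at hf
      simp [hf]
    · intro w hw r hr
      have hrY : r ∈ Y := hPY (h.pCoreOf_theta_le_Pi haA ha1 y hr)
      exact (commute_of_inf_eq_bot (inf_eq_bot_of_isPGroup t.ne (PReduced.isPGroup_pCoreOf v Y)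
        (PReduced.isPGroup_pCoreOf y (θ a))) hw.1 hr
        (forall_of_le_normalizer (le_normalizer_core v Y) r hrY w hw.1)
        (forall_of_le_normalizer (le_normalizer_core y (θ a)) w (hQθ hw) _ (inv_mem hr))).symm
  rcases eq_or_ne v y with rfl | hvy
  swap
  · rw [h.pCoreOf_eq_bot_of_ne t hYm hv hvx hvy]
    exact bot_le
  rcases eq_or_ne (Cfsg.pCoreOf v Y) ⊥ with h0 | h0
  · rw [h0]; exact bot_le
  set D := Cfsg.pCoreOf v Y with hD
  have hDPi : D ≤ Pi A θ v := h.pCoreOf_le_Pi hYm (h.inf_le_normalizer_of_max hY) v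
  refine h.le_of_points (h.pCoreOf_mem hYm v) hB fun c hc hc1 s hs => ?_
  obtain ⟨hsD, hsc⟩ := Subgroup.mem_inf.mp hs
  have hcA := hB.1 hc
  obtain ⟨X, hX, hcX⟩ := h.exists_max_theta hcA hc1
  have hXm := h.max_mem hX
  have hy1 : Cfsg.pCoreOf v X = ⊥ := by
    by_contra hne
    have hx0 : Cfsg.pCoreOf x X = ⊥ := by
      by_contra hne'
      exact hsingle X ⟨hX, hne', hne⟩
    exact hnB c hc hc1 ⟨X, hXm, hcX, h.Z0_le_core_of_single t.symm hX hx0⟩
  set Q := Cfsg.pCoreOf x X with hQ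
  have hDθ : D ⊓ Subgroup.centralizer ({c} : Set G) ≤ θ c :=
    (h.pCoreOf_mem hYm v).2.2.2 c hcA hc1
  have hDA : A ≤ Subgroup.normalizer ((D ⊓ Subgroup.centralizer ({c} : Set G) : Subgroup G) : Set G) :=
    le_normalizer_inf_of_le (normalizer_le_normalizer_pCoreOf v (mem_normalizer_family hYm))
      ((h.le_centralizer hcA).trans Subgroup.le_normalizer)
  set W := Q ⊓ Subgroup.centralizer (F : Set G) with hW
  have hWA : A ≤ Subgroup.normalizer (W : Set G) := le_normalizer_inf_of_le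
    (normalizer_le_normalizer_pCoreOf x (mem_normalizer_family hXm))
    (CfsgLib.Coprime.le_normalizer_centralizer hFA)
  have hWY : W ≤ Y := (h.le_normMember (mem_family_of_le hXm
    (inf_le_left.trans (pCoreOf_le x X)) hWA)
    (inf_le_right.trans (Subgroup.centralizer_le_normalizer _))).trans hle
  have hfixW : ∀ r ∈ D ⊓ Subgroup.centralizer ({c} : Set G), ∀ w ∈ W, r * w = w * r := by
    intro r hr w hw
    exact (commute_of_inf_eq_bot (inf_eq_bot_of_isPGroup t.ne (PReduced.isPGroup_pCoreOf x X)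
      (PReduced.isPGroup_pCoreOf v Y)) hw.1 hr.1
      (forall_of_le_normalizer (le_normalizer_core x X) r (hcX (hDθ hr)) w hw.1)
      (forall_of_le_normalizer (le_normalizer_core v Y) w (hWY hw) _ (inv_mem hr.1))).symm
  have hsmem : s ∈ D ⊓ Subgroup.centralizer ({c} : Set G) := ⟨hsD, hsc⟩
  set s' := b * s * b⁻¹ with hs'
  have hs'mem : s' ∈ D ⊓ Subgroup.centralizer ({c} : Set G) :=
    forall_of_le_normalizer hDA b hbA s hsmem
  have hgen : Q ≤ W ⊔ Q ⊓ Subgroup.centralizer ({b} : Set G) := by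
    refine h.le_of_planes (h.pCoreOf_mem hXm x) fun L2 hL2 => ?_
    rcases eq_or_ne L2 B with rfl | hne
    · exact le_trans (inf_le_inf_left _ (Subgroup.centralizer_le (by simpa using hb))) le_sup_right
    refine le_trans (fun w hw => Subgroup.mem_inf.mpr ⟨hw.1, fun f hf => ?_⟩) le_sup_left
    obtain ⟨a, haL, ha1, hba⟩ := hbad L2 hL2 hne
    have haA := hL2.1 haL
    obtain ⟨Xa, hXa, haXa⟩ := h.exists_max_theta haA ha1
    have hx0 : Cfsg.pCoreOf x Xa = ⊥ := by
      by_contra hne'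
      exact hba ⟨Xa, h.max_mem hXa, haXa, hne'⟩
    have hfO : f ∈ Cfsg.pCoreOf v Xa := h.Z0_le_core_of_single t.symm hXa hx0 hf
    have hwθ : w ∈ θ a := (h.pCoreOf_mem hXm x).2.2.2 a haA ha1
      ⟨hw.1, Subgroup.centralizer_le (by simpa using haL) hw.2⟩
    exact (commute_of_inf_eq_bot (inf_eq_bot_of_isPGroup t.ne (PReduced.isPGroup_pCoreOf x X)
      (PReduced.isPGroup_pCoreOf v Xa)) hw.1 hfO
      (forall_of_le_normalizer (le_normalizer_core x X) f
        (hcX (h.inf_le_theta hcA hc1 (hFC hf))) w hw.1)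
      (forall_of_le_normalizer (le_normalizer_core v Xa) w (haXa hwθ) _ (inv_mem hfO))).symm
  have hcd : s⁻¹ * s' ∈ D ⊓ Subgroup.centralizer ({c} : Set G) := mul_mem (inv_mem hsmem) hs'mem
  have hcop : (orderOf (s⁻¹ * s')).Coprime x :=
    (coprime_of_isPGroup t.ne.symm ((PReduced.isPGroup_pCoreOf v Y).to_le
      (inf_le_left : D ⊓ Subgroup.centralizer ({c} : Set G) ≤ D))).coprime_dvd_left
      (Subgroup.orderOf_dvd_natCard _ hcd)
  have hcent : s⁻¹ * s' ∈ Subgroup.centralizer (Q : Set G) :=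
    twist_mem_centralizer (PReduced.isPGroup_pCoreOf x X)
      (le_normalizer_core x X (hcX (hDθ hsmem)))
      (normalizer_le_normalizer_pCoreOf x (mem_normalizer_family hXm) hbA) inf_le_left (hWA hbA)
      (hfixW s hsmem) (hfixW s' hs'mem) hgen hcop
  have hbot : D ⊓ Subgroup.centralizer ({c} : Set G) ⊓ Subgroup.centralizer (Q : Set G) = ⊥ := by
    refine le_bot_iff.mp ((h.le_core_of_two t.symm hXm
      (inf_le_left.trans (hDθ.trans hcX))
      ((PReduced.isPGroup_pCoreOf v Y).to_le (inf_le_left.trans inf_le_left)) ?_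
      inf_le_right).trans hy1.le)
    rw [hy1]
    intro u _ f hf
    rw [Subgroup.coe_bot, Set.mem_singleton_iff] at hf
    simp [hf]
  have hone : s⁻¹ * s' = 1 := Subgroup.mem_bot.mp (hbot ▸ Subgroup.mem_inf.mpr ⟨hcd, hcent⟩)
  rw [inv_mul_eq_one, hs', eq_mul_inv_iff_mul_eq] at hone
  exact Subgroup.mem_centralizer_singleton_iff.mpr hone

/-- There are not exactly two primes. -/
theorem not_two (t : Two A θ x y) : False := by
  rcases h.exists_universal_center t with ⟨U, hU, hUZ, hU1⟩ | ⟨U, hU, hUZ, hU1⟩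
  exacts [h.not_two_aux t hU hUZ hU1, h.not_two_aux t.symm hU hUZ hU1]

end Minimal

end CfsgLib.Signalizer
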