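import Mathlib
import Cfsg.Agent.Lib.Signalizer.PairFinish

/-!
The solvable signalizer functor theorem.
-/

set_option autoImplicit false
set_option linter.style.haveILetI false

open Pointwise
open CfsgLib.Coprime

namespace CfsgLib.Signalizer

universe u

/-- The elements of `A` other than `1`. -/
noncomputable def points {G : Type u} [Group G] [Finite G] (A : Subgroup G) : Finset G :=
  (Set.toFinite {a : G | a ∈ A ∧ a ≠ 1}).toFinset

theorem mem_points {G : Type u} [Group G] [Finite G] {A : Subgroup G} {a : G} :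
    a ∈ points A ↔ a ∈ A ∧ a ≠ 1 := by
  simp [points]

/-- The total order of the values. -/
noncomputable def weight {G : Type u} [Group G] [Finite G] (A : Subgroup G)
    (θ : G → Subgroup G) : ℕ :=
  ∑ a ∈ points A, Nat.card (θ a)

theorem weight_lt {G : Type u} [Group G] [Finite G] {A : Subgroup G} {θ ψ : G → Subgroup G}
    (hle : ∀ a ∈ A, a ≠ 1 → ψ a ≤ θ a) {a : G} (ha : a ∈ A) (ha1 : a ≠ 1) (hne : ψ a ≠ θ a) :
    weight A ψ < weight A θ := by
  refine Finset.sum_lt_sum (fun b hb => Subgroup.card_le_of_le (hle b (mem_points.mp hb).1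
    (mem_points.mp hb).2)) ⟨a, mem_points.mpr ⟨ha, ha1⟩, lt_of_le_of_ne
      (Subgroup.card_le_of_le (hle a ha ha1)) fun he => hne ?_⟩
  exact Subgroup.eq_of_le_of_card_ge (hle a ha ha1) he.ge

section Quotient

variable {G : Type u} [Group G] [Finite G] {p : ℕ} [hp : Fact p.Prime] {A : Subgroup G}
  {θ : G → Subgroup G} {V : Subgroup G}

theorem modMap_injOn (hA : Cfsg.IsElementaryAbelian p A) (hVp : ¬ p ∣ Nat.card V)
    {a b : ↥(Subgroup.normalizer (V : Set G))} (ha : (a : G) ∈ A) (hb : (b : G) ∈ A)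
    (he : modMap V a = modMap V b) : a = b := by
  have h1 : modMap V (a⁻¹ * b) = 1 := by rw [map_mul, map_inv, he, inv_mul_cancel]
  have h2 : ((a : G)⁻¹ * b) ∈ V ⊓ A :=
    Subgroup.mem_inf.mpr ⟨by simpa using mem_of_modMap_eq_one h1, mul_mem (inv_mem ha) hb⟩
  rw [inf_eq_bot_of_coprime_card (coprime_card hA hVp).symm, Subgroup.mem_bot, inv_mul_eq_one] at h2
  exact Subtype.ext h2

/-- Passing to the quotient by a normalized member. -/
theorem hasCover_of_quotient (hA : Cfsg.IsElementaryAbelian p A) (hA3 : Nat.card A = p ^ 3)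
    (hθ : Cfsg.IsSolvableSignalizerFunctor p A θ) (hV : V ∈ Cfsg.signalizerFamily p A θ)
    (hV1 : V ≠ ⊥) (hn : ∀ a ∈ A, a ≠ 1 → θ a ≤ Subgroup.normalizer (V : Set G))
    (ih : ∀ {H : Type u} [Group H] [Finite H] (B : Subgroup H) (η : H → Subgroup H),
      Cfsg.IsElementaryAbelian p B → Nat.card B = p ^ 3 →
      Cfsg.IsSolvableSignalizerFunctor p B η → weight B η < weight A θ → HasCover p B η) :
    HasCover p A θ := by
  classical
  set N := Subgroup.normalizer (V : Set G) with hN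
  have hAN : A ≤ Subgroup.normalizer (V : Set G) := mem_normalizer_family hV
  let η : (↥N ⧸ V.subgroupOf N) → Subgroup (↥N ⧸ V.subgroupOf N) := fun q =>
    ⨆ a : {a : ↥N // (a : G) ∈ A ∧ (a : G) ≠ 1 ∧ modMap V a = q}, bar V (θ ((a : ↥N) : G))
  have hη : ∀ (a : ↥N), (a : G) ∈ A → (a : G) ≠ 1 → η (modMap V a) = bar V (θ (a : G)) := by
    intro a ha ha1
    refine le_antisymm (iSup_le fun b => le_of_eq ?_)
      (le_iSup_of_le ⟨a, ha, ha1, rfl⟩ le_rfl)
    rw [modMap_injOn hA hV.2.1 b.2.1 ha b.2.2.2]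
  have hBmem : ∀ q ∈ bar V A, q ≠ 1 →
      ∃ a : ↥N, (a : G) ∈ A ∧ (a : G) ≠ 1 ∧ modMap V a = q := by
    rintro _ ⟨a, ha, rfl⟩ hq
    exact ⟨a, ha, fun h1 => hq (by rw [show a = 1 from Subtype.ext h1, map_one]), rfl⟩
  have hcardA : Nat.card (bar V A) = p ^ 3 := by
    have h1 := card_bar_mul (D := V) hAN
    rw [inf_eq_bot_of_coprime_card (coprime_card hA hV.2.1).symm, Subgroup.card_bot, mul_one] at h1
    rw [h1, hA3]
  have hBel : Cfsg.IsElementaryAbelian p (bar V A) := by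
    refine ⟨⟨⟨fun u v => Subtype.ext ?_⟩⟩, fun q hq => ?_⟩
    · obtain ⟨a, ha, hae⟩ := u.2
      obtain ⟨b, hb, hbe⟩ := v.2
      show (u : ↥N ⧸ V.subgroupOf N) * v = v * u
      rw [← hae, ← hbe, ← map_mul, ← map_mul]
      exact congrArg _ (Subtype.ext (congrArg Subtype.val
        (hA.1.is_comm.comm (⟨(a : G), ha⟩ : A) ⟨(b : G), hb⟩) :))
    · obtain ⟨a, ha, rfl⟩ := hq
      rw [← map_pow, show a ^ p = 1 from Subtype.ext (by simpa using hA.2 _ ha), map_one]
  have hηf : Cfsg.IsSolvableSignalizerFunctor p (bar V A) η := by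
    refine ⟨⟨fun q hq hq1 => ?_, fun q hq hq1 hd => ?_, fun q hq hq1 => ?_,
      fun q hq hq1 r hr hr1 => ?_⟩, fun q hq hq1 => ?_⟩
    all_goals obtain ⟨a, ha, ha1, rfl⟩ := hBmem q hq hq1
    all_goals rw [hη a ha ha1] at *
    · rintro _ ⟨g, hg, rfl⟩
      refine Subgroup.mem_centralizer_singleton_iff.mpr ?_
      rw [← map_mul, ← map_mul]
      exact congrArg _ (Subtype.ext
        (Subgroup.mem_centralizer_singleton_iff.mp (hθ.1.1 _ ha ha1 hg)))
    · exact hθ.1.2.1 _ ha ha1 (hd.trans (card_bar_dvd V _))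
    · exact forall_of_le_normalizer (le_normalizer_bar
        (inf_le_left.trans (mem_normalizer_family (theta_mem_family hθ ha ha1))))
    · obtain ⟨b, hb, hb1, rfl⟩ := hBmem r hr hr1
      rw [hη b hb hb1]
      intro m hm
      obtain ⟨hm1, hm2⟩ := Subgroup.mem_inf.mp hm
      obtain ⟨s, hs, hsc, hse⟩ := exists_fixed_of_bar (hn _ ha ha1) (hA.2 _ hb) b.2
        (mem_normalizer_family (theta_mem_family hθ ha ha1) hb)
        ((Nat.Prime.coprime_iff_not_dvd hp.out).mpr (hθ.1.2.1 _ ha ha1)) hm1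
        (Subgroup.mem_centralizer_singleton_iff.mp hm2).symm
      rw [← hse (hn _ ha ha1 hs)]
      exact mem_bar (hθ.1.2.2.2 _ ha ha1 _ hb hb1
        ⟨hs, Subgroup.mem_centralizer_singleton_iff.mpr hsc.symm⟩)
    · exact isSolvable_bar (hθ.2 _ ha ha1) (hn _ ha ha1)
  have hwt : weight (bar V A) η < weight A θ := by
    set g : G → ↥N ⧸ V.subgroupOf N := fun a =>
      if h : a ∈ N then modMap V ⟨a, h⟩ else 1 with hg
    have hgA : ∀ {a : G} (ha : a ∈ A), g a = modMap V ⟨a, hAN ha⟩ := fun ha => dif_pos (hAN ha)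
    have himg : points (bar V A) = (points A).image g := by
      ext q
      rw [mem_points, Finset.mem_image]
      refine ⟨fun ⟨hq, hq1⟩ => ?_, ?_⟩
      · obtain ⟨a, ha, ha1, rfl⟩ := hBmem q hq hq1
        exact ⟨a, mem_points.mpr ⟨ha, ha1⟩, (hgA ha).trans rfl⟩
      · rintro ⟨a, ha, rfl⟩
        obtain ⟨ha, ha1⟩ := mem_points.mp ha
        rw [hgA ha]
        refine ⟨mem_bar ha, fun he => ha1 ?_⟩
        exact congrArg Subtype.val (modMap_injOn hA hV.2.1 (a := ⟨a, hAN ha⟩) (b := 1) ha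
          (one_mem _) (by rw [he, map_one]))
    unfold weight
    rw [himg, Finset.sum_image fun a ha b hb he => by
      obtain ⟨ha, -⟩ := mem_points.mp ha
      obtain ⟨hb, -⟩ := mem_points.mp hb
      rw [hgA ha, hgA hb] at he
      exact congrArg Subtype.val (modMap_injOn hA hV.2.1 (a := ⟨a, hAN ha⟩) (b := ⟨b, hAN hb⟩)
        ha hb he)]
    obtain ⟨a, ha, ha1, hne⟩ : ∃ a ∈ A, a ≠ 1 ∧ θ a ⊓ V ≠ ⊥ := by
      by_contra hc
      push Not at hc
      refine hV1 (le_bot_iff.mp (le_of_hyperplane_centralizer_le hA.1 hA.2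
        (hA3 ▸ Nat.pow_le_pow_right hp.out.pos (by norm_num)) hAN (coprime_card hA hV.2.1)
        fun B hB hidx => ?_))
      obtain ⟨b, hb, hb1⟩ := exists_ne_one_of_ne_bot (H := B) fun h' => by
        have h3 := relIndex_mul_card_inf B A
        rw [inf_eq_left.mpr hB, h', Subgroup.card_bot, mul_one, hA3] at h3
        rw [h', h3] at hidx
        conv_rhs at hidx => rw [← pow_one p]
        exact absurd ((Nat.pow_le_pow_iff_right hp.out.one_lt).mp hidx) (by norm_num)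
      refine le_trans ?_ (hc b (hB hb) hb1).le
      exact le_inf ((inf_le_inf_left _ (Subgroup.centralizer_le
        (show ({b} : Set G) ⊆ B by simpa))).trans (hV.2.2.2 b (hB hb) hb1)) inf_le_left
    have hval : ∀ b ∈ points A, η (g b) = bar V (θ b) := fun b hb => by
      obtain ⟨hb, hb1⟩ := mem_points.mp hb
      rw [hgA hb]
      exact hη ⟨b, hAN hb⟩ hb hb1
    refine Finset.sum_lt_sum (fun b hb => ?_) ⟨a, mem_points.mpr ⟨ha, ha1⟩, ?_⟩
    · rw [hval b hb]
      exact Nat.le_of_dvd Nat.card_pos (card_bar_dvd V _)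
    · rw [hval a (mem_points.mpr ⟨ha, ha1⟩), ← card_bar_mul (hn a ha ha1)]
      exact lt_mul_of_one_lt_right Nat.card_pos
        ((Subgroup.one_lt_card_iff_ne_bot _).mpr (inf_comm V (θ a) ▸ hne))
  obtain ⟨W, hW, hWle⟩ := ih (bar V A) η hBel hcardA hηf hwt
  set Wc := W.comap (modMap V) with hWc
  refine ⟨Wc.map N.subtype, ⟨?_, ?_, ?_, ?_⟩, fun a ha ha1 g hg => ?_⟩
  · haveI := hW.1
    haveI : Group.IsSolvable ↥(V.subgroupOf N) := by
      haveI := hV.1
      exact Group.isSolvable_of_isSolvable_injective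
        (f := (Subgroup.subgroupOfEquivOfLe Subgroup.le_normalizer).toMonoidHom)
        (MulEquiv.injective _)
    have hle : V.subgroupOf N ≤ Wc := fun g hg => by
      rw [hWc, Subgroup.mem_comap, QuotientGroup.mk'_apply, (QuotientGroup.eq_one_iff g).mpr hg]
      exact one_mem _
    have hsol : Group.IsSolvable Wc := by
      refine Group.isSolvable_of_ker_le_range (Subgroup.inclusion hle)
        (((modMap V).comp Wc.subtype).codRestrict W fun g => g.2) fun g hg => ?_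
      exact ⟨⟨g, (QuotientGroup.eq_one_iff (g : ↥N)).mp (congrArg Subtype.val hg)⟩, rfl⟩
    exact isSolvable_map _ hsol
  · rw [Subgroup.card_map_of_injective N.subtype_injective, hWc,
      PSolvable.card_comap_of_surjective (QuotientGroup.mk'_surjective _)]
    intro hd
    rcases (Nat.Prime.dvd_mul hp.out).mp hd with hd | hd
    · rw [QuotientGroup.ker_mk',
        Nat.card_congr (Subgroup.subgroupOfEquivOfLe Subgroup.le_normalizer).toEquiv] at hd
      exact hV.2.1 hd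
    · exact hW.2.1 hd
  · rintro b hb _ ⟨g, hg, rfl⟩
    refine ⟨⟨b, hAN hb⟩ * g * ⟨b, hAN hb⟩⁻¹, ?_, rfl⟩
    show modMap V _ ∈ W
    rw [map_mul, map_mul, map_inv]
    exact hW.2.2.1 _ (mem_bar hb) _ hg
  · intro b hb hb1 w hw
    obtain ⟨⟨g, hg, rfl⟩, hgb⟩ := Subgroup.mem_inf.mp hw
    have hq1 : modMap V ⟨b, hAN hb⟩ ≠ 1 := fun he => hb1 (congrArg Subtype.val
      (modMap_injOn hA hV.2.1 (a := ⟨b, hAN hb⟩) (b := 1) hb (one_mem _) (by rw [he, map_one])))
    have h1 : modMap V g ∈ η (modMap V ⟨b, hAN hb⟩) := hW.2.2.2 _ (mem_bar hb) hq1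
      ⟨hg, Subgroup.mem_centralizer_singleton_iff.mpr (by
        rw [← map_mul, ← map_mul]
        exact congrArg _ (Subtype.ext (Subgroup.mem_centralizer_singleton_iff.mp hgb)))⟩
    rw [hη ⟨b, hAN hb⟩ hb hb1] at h1
    obtain ⟨s, hs, hse⟩ := h1
    have hmem : ((s : G))⁻¹ * g ∈ V := by
      have := mem_of_modMap_eq_one (s := s⁻¹ * g) (by rw [map_mul, map_inv, hse, inv_mul_cancel])
      simpa using this
    have h2 : ((s : G))⁻¹ * g ∈ θ b := hV.2.2.2 b hb hb1
      (Subgroup.mem_inf.mpr ⟨hmem, mul_mem (inv_mem (hθ.1.1 b hb hb1 hs)) hgb⟩)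
    simpa using mul_mem (show (s : G) ∈ θ b from hs) h2
  · refine ⟨⟨g, hn a ha ha1 hg⟩, ?_, rfl⟩
    have hq1 : modMap V ⟨a, hAN ha⟩ ≠ 1 := fun he => ha1 (congrArg Subtype.val
      (modMap_injOn hA hV.2.1 (a := ⟨a, hAN ha⟩) (b := 1) ha (one_mem _) (by rw [he, map_one])))
    exact hWle _ (mem_bar ha) hq1 (hη ⟨a, hAN ha⟩ ha ha1 ▸ mem_bar hg)

end Quotient

theorem hasCover_aux (p : ℕ) [Fact p.Prime] (n : ℕ) : ∀ {G : Type u} [Group G] [Finite G]
    (A : Subgroup G) (θ : G → Subgroup G), Cfsg.IsElementaryAbelian p A → Nat.card A = p ^ 3 →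
    Cfsg.IsSolvableSignalizerFunctor p A θ → weight A θ = n → HasCover p A θ := by
  induction n using Nat.strong_induction_on with
  | _ n IH =>
  intro G _ _ A θ hA hA3 hθ hn
  by_contra hc
  have h : Minimal p A θ :=
    { elem := hA, card := hA3, solv := hθ, not_cover := hc
      sub := fun ψ hψ hle ⟨a, ha, ha1, hne⟩ =>
        IH _ (hn ▸ weight_lt hle ha ha1 hne) A ψ hA hA3 hψ rfl
      not_normal := fun V hV hV1 => by
        by_contra hall
        push Not at hall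
        exact hc (hasCover_of_quotient hA hA3 hθ hV hV1 hall fun B η hB hB3 hη hlt =>
          IH _ (hn ▸ hlt) B η hB hB3 hη rfl) }
  by_cases h3 : ThreePrimes A θ
  · exact h.not_threePrimes h3
  unfold ThreePrimes at h3
  push Not at h3
  obtain ⟨x, y, hxy⟩ := h3
  obtain ⟨q, hq, -⟩ := h.exists_other 0
  obtain ⟨r, hr, hrq⟩ := h.exists_other q
  haveI := Fact.mk hq.1
  haveI := Fact.mk hr.1
  have hor : ∀ s, InPi A θ s → s = x ∨ s = y := fun s hs =>
    or_iff_not_imp_left.mpr fun hsx => hxy s hs hsx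
  refine h.not_two (x := q) (y := r) ⟨hq.1, hr.1, hrq.symm, fun s hs => ?_⟩
  rcases hor q hq with rfl | rfl <;> rcases hor r hr with rfl | rfl <;>
    rcases hor s hs with rfl | rfl <;>
      first
        | exact Or.inl rfl
        | exact Or.inr rfl
        | exact absurd rfl hrq

/-- The solvable signalizer functor theorem: some member contains every value. -/
theorem hasCover {G : Type u} [Group G] [Finite G] {p : ℕ} [hp : Fact p.Prime] {A : Subgroup G}
    {θ : G → Subgroup G} (hA : Cfsg.IsElementaryAbelian p A) (hA3 : p ^ 3 ≤ Nat.card A)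
    (hθ : Cfsg.IsSolvableSignalizerFunctor p A θ) :
    ∃ W : Subgroup G, Group.IsSolvable W ∧ ¬ p ∣ Nat.card W ∧
      ∀ a ∈ A, a ≠ 1 → θ a ≤ W ∧
        (⨆ b : {b : G // b ∈ A ∧ b ≠ 1}, θ b) ⊓ Subgroup.centralizer ({a} : Set G) ≤ θ a := by
  obtain ⟨A₀, hA₀A, hA₀⟩ : ∃ A₀ ≤ A, Nat.card A₀ = p ^ 3 := by
    obtain ⟨n, hn⟩ := IsPGroup.iff_card.mp (show IsPGroup p A from fun b =>
      ⟨1, Subtype.ext (by rw [pow_one]; exact hA.2 b b.2)⟩)
    rw [hn] at hA3
    obtain ⟨K, hK⟩ := Sylow.exists_subgroup_card_pow_prime (G := A) p (n := 3)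
      (hn ▸ pow_dvd_pow p ((Nat.pow_le_pow_iff_right hp.out.one_lt).mp hA3))
    exact ⟨K.map A.subtype, Subgroup.map_subtype_le K,
      by rw [Subgroup.card_map_of_injective A.subtype_injective, hK]⟩
  have hA₀e : Cfsg.IsElementaryAbelian p A₀ :=
    ⟨⟨⟨fun u v => Subtype.ext (congrArg Subtype.val
      (hA.1.is_comm.comm (⟨u, hA₀A u.2⟩ : A) ⟨v, hA₀A v.2⟩) :)⟩⟩, fun a ha => hA.2 a (hA₀A ha)⟩
  have hθ₀ : Cfsg.IsSolvableSignalizerFunctor p A₀ θ :=
    ⟨⟨fun a ha => hθ.1.1 a (hA₀A ha), fun a ha => hθ.1.2.1 a (hA₀A ha),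
      fun a ha ha1 b hb => hθ.1.2.2.1 a (hA₀A ha) ha1 b (hA₀A hb),
      fun a ha ha1 b hb => hθ.1.2.2.2 a (hA₀A ha) ha1 b (hA₀A hb)⟩,
      fun a ha => hθ.2 a (hA₀A ha)⟩
  obtain ⟨W, hW, hWle⟩ := hasCover_aux p _ A₀ θ hA₀e hA₀ hθ₀ rfl
  haveI := hA₀e.1
  have hnc : ¬ IsCyclic A₀ := not_isCyclic_of_exponent hA₀e.2 hp.out.pos (by
    rw [hA₀]
    conv_lhs => rw [← pow_one p]
    exact Nat.pow_lt_pow_right hp.out.one_lt (by norm_num))
  have hgen : ∀ {X Y : Subgroup G}, A₀ ≤ Subgroup.normalizer (X : Set G) → ¬ p ∣ Nat.card X →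
      (∀ b ∈ A₀, b ≠ 1 → X ⊓ Subgroup.centralizer ({b} : Set G) ≤ Y) → X ≤ Y :=
    fun hX hXp hY => le_of_centralizer_le hnc hX (coprime_card hA₀e hXp) hY
  have hall : ∀ a ∈ A, a ≠ 1 → θ a ≤ W := fun a ha ha1 =>
    hgen (hA₀A.trans (mem_normalizer_family (theta_mem_family hθ ha ha1))) (hθ.1.2.1 a ha ha1)
      fun b hb hb1 => (hθ.1.2.2.2 a ha ha1 b (hA₀A hb) hb1).trans (hWle b hb hb1)
  have hUW : (⨆ b : {b : G // b ∈ A ∧ b ≠ 1}, θ b) ≤ W := iSup_le fun b => hall b b.2.1 b.2.2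
  refine ⟨W, hW.1, hW.2.1, fun a ha ha1 => ⟨hall a ha ha1, ?_⟩⟩
  refine hgen (le_normalizer_inf_of_le (hA₀A.trans (le_normalizer_iSup fun b =>
    mem_normalizer_family (theta_mem_family hθ b.2.1 b.2.2))) ?_)
    (fun hd => hW.2.1 (hd.trans (Subgroup.card_dvd_of_le (inf_le_left.trans hUW)))) fun b hb hb1 => ?_
  · exact fun c hc => Subgroup.le_normalizer (Subgroup.mem_centralizer_singleton_iff.mpr
      (congrArg Subtype.val (hA.1.is_comm.comm (⟨c, hA₀A hc⟩ : A) ⟨a, ha⟩) :))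
  · intro g hg
    obtain ⟨⟨hgU, hga⟩, hgb⟩ := hg
    exact hθ.1.2.2.2 b (hA₀A hb) hb1 a ha ha1 ⟨hW.2.2.2 b hb hb1 ⟨hUW hgU, hgb⟩, hga⟩

end CfsgLib.Signalizer
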