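import Mathlib
import Cfsg.Prelude.Def_Balance
import Cfsg.Agent.Lib.Signalizer.CoreBalance
import Cfsg.Agent.Lib.Signalizer.Solvable

/-!
The `k`-balanced signalizer functor on an elementary abelian group of rank at least `k + 2`.
-/

set_option autoImplicit false
set_option linter.style.haveILetI false

open CfsgLib.Coprime

namespace CfsgLib.Signalizer.KBalance

variable {G : Type*} [Group G] [Finite G] {p k : ℕ} [hp : Fact p.Prime] {A : Subgroup G}

theorem delta_le {D : Subgroup G} {d : G} (hd : d ∈ D) (hd1 : d ≠ 1) :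
    Cfsg.signalizerDelta p D ≤ Cfsg.centralizerPPrimeCore p d :=
  iInf_le (fun a : {a : G // a ∈ D ∧ a ≠ 1} => Cfsg.centralizerPPrimeCore p (a : G)) ⟨d, hd, hd1⟩

theorem le_delta {D X : Subgroup G}
    (h : ∀ d ∈ D, d ≠ 1 → X ≤ Cfsg.centralizerPPrimeCore p d) : X ≤ Cfsg.signalizerDelta p D :=
  le_iInf fun d => h d d.2.1 d.2.2

theorem delta_anti {T D : Subgroup G} (h : T ≤ D) :
    Cfsg.signalizerDelta p D ≤ Cfsg.signalizerDelta p T :=
  le_delta fun _ hd hd1 => delta_le (h hd) hd1

theorem comm_of_mem (hA : Cfsg.IsElementaryAbelian p A) {u v : G} (hu : u ∈ A) (hv : v ∈ A) :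
    u * v = v * u :=
  congrArg Subtype.val (hA.1.is_comm.comm (⟨u, hu⟩ : A) ⟨v, hv⟩)

theorem le_centralizer_of_le (hA : Cfsg.IsElementaryAbelian p A) {D : Subgroup G} (hD : D ≤ A) :
    A ≤ Subgroup.centralizer (D : Set G) := fun _ ha _ hd => comm_of_mem hA (hD hd) ha

theorem le_normalizer_delta (hA : Cfsg.IsElementaryAbelian p A) {D : Subgroup G} (hD : D ≤ A) :
    A ≤ Subgroup.normalizer (Cfsg.signalizerDelta p D : Set G) :=
  le_normalizer_of_forall fun a ha x hx => by
    refine le_delta (X := Subgroup.closure {a * x * a⁻¹}) (fun d hd hd1 => ?_)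
      (Subgroup.subset_closure rfl)
    rw [Subgroup.closure_le, Set.singleton_subset_iff]
    refine forall_of_le_normalizer (centralizerPPrimeCore_normalized d) a ?_ x
      (delta_le hd hd1 hx)
    exact Subgroup.mem_centralizer_singleton_iff.mpr (comm_of_mem hA ha (hD hd))

theorem delta_coprime {D : Subgroup G} {d : G} (hd : d ∈ D) (hd1 : d ≠ 1) {X : Subgroup G}
    (hX : X ≤ Cfsg.signalizerDelta p D) : ¬ p ∣ Nat.card X := fun h =>
  hp.out.ne_one (Nat.eq_one_of_dvd_coprimes
    ((coprime_centralizerPPrimeCore d).coprime_dvd_left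
      (Subgroup.card_dvd_of_le (hX.trans (delta_le hd hd1)))) h (dvd_refl p))

omit [Finite G] hp in
theorem le_centralizer_sup {X B C : Subgroup G} (hB : X ≤ Subgroup.centralizer (B : Set G))
    (hC : X ≤ Subgroup.centralizer (C : Set G)) :
    X ≤ Subgroup.centralizer ((B ⊔ C : Subgroup G) : Set G) :=
  Subgroup.le_centralizer_iff.mpr
    (sup_le (Subgroup.le_centralizer_iff.mp hB) (Subgroup.le_centralizer_iff.mp hC))

omit [Finite G] hp in
theorem mem_centralizer_zpowers {x a : G} (h : x ∈ Subgroup.centralizer ({a} : Set G)) :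
    x ∈ Subgroup.centralizer (Subgroup.zpowers a : Set G) :=
  mem_centralizer_singleton_zpowers h

theorem generation (hA : Cfsg.IsElementaryAbelian p A) (hAk : p ^ (k + 2) ≤ Nat.card A)
    {X Y S : Subgroup G} (hS : S ≤ A) (hAX : A ≤ Subgroup.normalizer (X : Set G))
    (hXp : ¬ p ∣ Nat.card X) (hXS : X ≤ Subgroup.centralizer (S : Set G))
    (h : ∀ D : Subgroup G, S ≤ D → D ≤ A → p ^ (k + 1) ≤ Nat.card D →
      X ⊓ Subgroup.centralizer (D : Set G) ≤ Y) : X ≤ Y := by
  refine le_of_hyperplane_centralizer_le hA.1 hA.2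
    ((Nat.pow_le_pow_right hp.out.pos (by omega)).trans hAk) hAX (coprime_card hA hXp)
    fun B hB hidx => ?_
  refine le_trans (le_inf inf_le_left
    (le_centralizer_sup (inf_le_left.trans hXS) inf_le_right)) (h (S ⊔ B) le_sup_left (sup_le hS hB) ?_)
  refine le_trans ?_ (Subgroup.card_le_of_le le_sup_right)
  have h1 := relIndex_mul_card_inf B A
  rw [inf_eq_left.mpr hB] at h1
  rw [← h1] at hAk
  have h2 : p ^ (k + 1) * p ≤ Nat.card B * p := by
    rw [← pow_succ, mul_comm (Nat.card B)]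
    exact hAk.trans (Nat.mul_le_mul_right _ hidx)
  exact Nat.le_of_mul_le_mul_right h2 hp.out.pos

/-- The subgroup generated by `Δ(D) ∩ C(D)` over large `D` containing `S`. -/
def gen (p k : ℕ) (A S : Subgroup G) : Subgroup G :=
  ⨆ D : {D : Subgroup G // S ≤ D ∧ D ≤ A ∧ p ^ (k + 1) ≤ Nat.card D},
    Cfsg.signalizerDelta p (D : Subgroup G) ⊓ Subgroup.centralizer ((D : Subgroup G) : Set G)

omit [Finite G] hp in
theorem le_gen {S D : Subgroup G} (hSD : S ≤ D) (hD : D ≤ A) (hc : p ^ (k + 1) ≤ Nat.card D) :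
    Cfsg.signalizerDelta p D ⊓ Subgroup.centralizer (D : Set G) ≤ gen p k A S :=
  le_iSup (fun D : {D : Subgroup G // S ≤ D ∧ D ≤ A ∧ p ^ (k + 1) ≤ Nat.card D} =>
    Cfsg.signalizerDelta p (D : Subgroup G) ⊓ Subgroup.centralizer ((D : Subgroup G) : Set G))
    ⟨D, hSD, hD, hc⟩

theorem le_normalizer_gen (hA : Cfsg.IsElementaryAbelian p A) (S : Subgroup G) :
    A ≤ Subgroup.normalizer (gen p k A S : Set G) :=
  le_normalizer_iSup fun D => le_normalizer_inf_of_le (le_normalizer_delta hA D.2.2.1)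
    ((le_centralizer_of_le hA D.2.2.1).trans Subgroup.le_normalizer)

omit hp in
theorem gen_le_centralizer (S : Subgroup G) :
    gen p k A S ≤ Subgroup.centralizer (S : Set G) :=
  iSup_le fun D => inf_le_right.trans (Subgroup.centralizer_le D.2.1)

theorem gen_le_core {S : Subgroup G} {e : G} (he : e ∈ S) (he1 : e ≠ 1) :
    gen p k A S ≤ Cfsg.centralizerPPrimeCore p e :=
  iSup_le fun D => inf_le_left.trans (delta_le (D.2.1 he) he1)

theorem exists_complement (hA : Cfsg.IsElementaryAbelian p A) {S : Subgroup G}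
    (hS : S ≤ A) :
    ∃ E ≤ A, E ⊓ S = ⊥ ∧ E ⊔ S = A := by
  obtain ⟨E, -, hE⟩ := Finite.exists_le_maximal
    (p := fun E : Subgroup G => E ≤ A ∧ E ⊓ S = ⊥) (a := ⊥) ⟨bot_le, bot_inf_eq S⟩
  refine ⟨E, hE.prop.1, hE.prop.2, le_antisymm (sup_le hE.prop.1 hS) fun x hx => ?_⟩
  by_contra hxn
  have hxE : E ⊔ Subgroup.zpowers x ≤ A := sup_le hE.prop.1 (Subgroup.zpowers_le.mpr hx)
  have h0 : (E ⊔ Subgroup.zpowers x) ⊓ S = ⊥ := by
    refine eq_bot_iff.mpr fun y hy => ?_
    obtain ⟨hy1, hyS⟩ := Subgroup.mem_inf.mp hy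
    rw [← SetLike.mem_coe, Subgroup.coe_mul_of_right_le_normalizer_left E (Subgroup.zpowers x)
      ((Subgroup.zpowers_le.mpr hx).trans
        ((le_centralizer_of_le hA hE.prop.1).trans (Subgroup.centralizer_le_normalizer _))),
      Set.mem_mul] at hy1
    obtain ⟨e, he, z, hz, rfl⟩ := hy1
    have hxp : orderOf x = p := orderOf_eq_prime (hA.2 x hx) fun h => hxn (h ▸ one_mem _)
    haveI : Fact (Nat.card (Subgroup.zpowers x)).Prime := ⟨by
      rw [Nat.card_zpowers, hxp]; exact hp.out⟩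
    rcases ((E ⊔ S).subgroupOf (Subgroup.zpowers x)).eq_bot_or_eq_top_of_prime_card with h | h
    · have hzES : (⟨z, hz⟩ : Subgroup.zpowers x) ∈ (E ⊔ S).subgroupOf (Subgroup.zpowers x) := by
        show z ∈ E ⊔ S
        rw [show z = e⁻¹ * (e * z) by rw [inv_mul_cancel_left]]
        exact mul_mem (inv_mem (Subgroup.mem_sup_left he)) (Subgroup.mem_sup_right hyS)
      rw [h, Subgroup.mem_bot] at hzES
      have hz1 : z = 1 := congrArg Subtype.val hzES
      rw [hz1, mul_one] at hyS ⊢
      exact hE.prop.2 ▸ Subgroup.mem_inf.mpr ⟨he, hyS⟩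
    · exact absurd (Subgroup.subgroupOf_eq_top.mp h (Subgroup.mem_zpowers x)) hxn
  exact hxn (Subgroup.mem_sup_left (hE.2 ⟨hxE, h0⟩ le_sup_left
    (Subgroup.mem_sup_right (Subgroup.mem_zpowers x))))

/-- Fixed points of a generated subgroup. -/
theorem gen_inf_centralizer_le (hA : Cfsg.IsElementaryAbelian p A)
    (hAk : p ^ (k + 2) ≤ Nat.card A)
    (hsolv : ∀ a ∈ A, a ≠ 1 → Group.IsSolvable ↥(Cfsg.centralizerPPrimeCore p a))
    (hb : ∀ T : Subgroup G, T ≤ A → Nat.card T = p ^ k → ∀ d ∈ A, d ≠ 1 →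
      Cfsg.signalizerDelta p T ⊓ Subgroup.centralizer {d} ≤ Cfsg.centralizerPPrimeCore p d) :
    ∀ i j : ℕ, j + i = k → 1 ≤ j → ∀ S : Subgroup G, S ≤ A → Nat.card S = p ^ j →
      ∀ D : Subgroup G, S ≤ D → D ≤ A → p ^ (k + 1) ≤ Nat.card D →
        gen p k A S ⊓ Subgroup.centralizer (D : Set G) ≤ Cfsg.signalizerDelta p D := by
  intro i
  induction i with
  | zero =>
    intro j hj _ S hS hcS D hSD hD _
    refine le_delta fun d hd hd1 => le_trans (inf_le_inf ?_ (Subgroup.centralizer_le (by simpa using hd)))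
      (hb S hS (by rw [hcS]; congr 1) d (hD hd) hd1)
    exact iSup_le fun D' => inf_le_left.trans (delta_anti D'.2.1)
  | succ i IH =>
    intro j hj hj1 S hS hcS D hSD hD hcD
    obtain ⟨E, hEA, hES, hsup⟩ := exists_complement hA hS
    have hnorm : E ≤ Subgroup.normalizer (S : Set G) :=
      hEA.trans ((le_centralizer_of_le hA hS).trans (Subgroup.centralizer_le_normalizer _))
    have hcardA : Nat.card A = Nat.card S * Nat.card E := by
      rw [← hsup, sup_comm, card_sup_of_normalizer hnorm (by rw [inf_comm, hES])]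
    have hEel : Cfsg.IsElementaryAbelian p E :=
      ⟨⟨⟨fun u v => Subtype.ext (comm_of_mem hA (hEA u.2) (hEA v.2))⟩⟩,
        fun e he => hA.2 e (hEA he)⟩
    have hE3 : p ^ 3 ≤ Nat.card E := by
      refine Nat.le_of_mul_le_mul_left ?_ (pow_pos hp.out.pos j)
      rw [← pow_add]
      exact (Nat.pow_le_pow_right hp.out.pos (by omega)).trans
        (hAk.trans (by rw [hcardA, hcS]))
    have hS1 : ∀ e ∈ E, e ≠ 1 → S ⊔ Subgroup.zpowers e ≤ A ∧
        Nat.card (S ⊔ Subgroup.zpowers e : Subgroup G) = p ^ (j + 1) := by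
      intro e he he1
      have hz : Subgroup.zpowers e ≤ E := Subgroup.zpowers_le.mpr he
      refine ⟨sup_le hS (hz.trans hEA), ?_⟩
      rw [card_sup_of_normalizer (hz.trans hnorm) (eq_bot_iff.mpr ?_), hcS, Nat.card_zpowers,
        orderOf_eq_prime (hEel.2 e he) he1, pow_succ]
      rw [inf_comm]
      exact hES ▸ inf_le_inf_right S hz
    have hEmeet : ∀ D' : Subgroup G, S ≤ D' → D' ≤ A → p ^ (k + 1) ≤ Nat.card D' →
        ∃ e ∈ E, e ∈ D' ∧ e ≠ 1 := by
      intro D' hSD' hD' hc'
      by_contra hno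
      push Not at hno
      have hle : D' ≤ S := by
        intro d hd
        have hdA : d ∈ S ⊔ E := by rw [sup_comm, hsup]; exact hD' hd
        rw [← SetLike.mem_coe, Subgroup.coe_mul_of_right_le_normalizer_left S E hnorm,
          Set.mem_mul] at hdA
        obtain ⟨s, hs, e, he, rfl⟩ := hdA
        have : e ∈ D' := by
          rw [show e = s⁻¹ * (s * e) by rw [inv_mul_cancel_left]]
          exact mul_mem (inv_mem (hSD' hs)) hd
        rw [hno e he this, mul_one]
        exact hs
      have := hc'.trans (Subgroup.card_le_of_le hle)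
      rw [hcS, Nat.pow_le_pow_iff_right hp.out.one_lt] at this
      omega
    set η : G → Subgroup G := fun e => gen p k A (S ⊔ Subgroup.zpowers e) with hη
    have hcore : ∀ e, e ≠ 1 → η e ≤ Cfsg.centralizerPPrimeCore p e := fun e he1 =>
      gen_le_core (Subgroup.mem_sup_right (Subgroup.mem_zpowers e)) he1
    have hηF : Cfsg.IsSolvableSignalizerFunctor p E η := by
      refine ⟨⟨fun e _ he1 => (hcore e he1).trans (Subgroup.map_subtype_le _),
        fun e he he1 h => ?_, fun e he he1 b hb' => ?_, fun e he he1 f hf hf1 => ?_⟩,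
        fun e he he1 => ?_⟩
      · exact hp.out.ne_one (Nat.eq_one_of_dvd_coprimes ((coprime_centralizerPPrimeCore e).coprime_dvd_left
          (Subgroup.card_dvd_of_le (hcore e he1))) h (dvd_refl p))
      · exact forall_of_le_normalizer (le_normalizer_gen hA _) b (hEA hb')
      · obtain ⟨hSe, hcSe⟩ := hS1 e he he1
        refine generation hA hAk (S := S ⊔ Subgroup.zpowers e ⊔ Subgroup.zpowers f)
          (sup_le hSe (Subgroup.zpowers_le.mpr (hEA hf)))
          (le_normalizer_inf_of_le (le_normalizer_gen hA _) ?_) (fun h => ?_)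
          (le_centralizer_sup (inf_le_left.trans (gen_le_centralizer _))
            fun x hx => mem_centralizer_zpowers hx.2) fun D' hD1 hD2 hD3 => ?_
        · exact fun a ha => Subgroup.le_normalizer
            (Subgroup.mem_centralizer_singleton_iff.mpr (comm_of_mem hA ha (hEA hf)))
        · exact hp.out.ne_one (Nat.eq_one_of_dvd_coprimes ((coprime_centralizerPPrimeCore e).coprime_dvd_left
            (Subgroup.card_dvd_of_le (inf_le_left.trans (hcore e he1)))) h (dvd_refl p))
        · have h1 := IH (j + 1) (by omega) (by omega) _ hSe hcSe D' (le_sup_left.trans hD1) hD2 hD3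
          refine le_trans (le_inf (le_trans (inf_le_inf_right _ inf_le_left) h1) inf_le_right) ?_
          exact le_gen (sup_le ((le_sup_left.trans le_sup_left).trans hD1) (le_sup_right.trans hD1))
            hD2 hD3
      · haveI := hsolv e (hEA he) he1
        exact Group.isSolvable_of_isSolvable_injective (Subgroup.inclusion_injective (hcore e he1))
    obtain ⟨W, -, -, hW⟩ := hasCover hEel hE3 hηF
    have hgenle : gen p k A S ≤ ⨆ b : {b : G // b ∈ E ∧ b ≠ 1}, η b := by
      refine iSup_le fun D' => ?_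
      obtain ⟨e, heE, heD, he1⟩ := hEmeet D' D'.2.1 D'.2.2.1 D'.2.2.2
      exact le_iSup_of_le ⟨e, heE, he1⟩
        (le_gen (sup_le D'.2.1 (Subgroup.zpowers_le.mpr heD)) D'.2.2.1 D'.2.2.2)
    obtain ⟨e, heE, heD, he1⟩ := hEmeet D hSD hD hcD
    obtain ⟨hSe, hcSe⟩ := hS1 e heE he1
    refine le_trans (le_inf ?_ inf_le_right)
      (IH (j + 1) (by omega) (by omega) _ hSe hcSe D
        (sup_le hSD (Subgroup.zpowers_le.mpr heD)) hD hcD)
    exact le_trans (inf_le_inf hgenle (Subgroup.centralizer_le (by simpa using heD)))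
      (hW e heE he1).2

theorem iSup_eq_gen (hk : 1 ≤ k) (hA : Cfsg.IsElementaryAbelian p A)
    (hAk : p ^ (k + 2) ≤ Nat.card A)
    (hb : ∀ T : Subgroup G, T ≤ A → Nat.card T = p ^ k → ∀ d ∈ A, d ≠ 1 →
      Cfsg.signalizerDelta p T ⊓ Subgroup.centralizer {d} ≤ Cfsg.centralizerPPrimeCore p d)
    {a : G} (ha : a ∈ A) :
    (⨆ T : {T : Subgroup G // T ≤ A ∧ Nat.card ↥T = p ^ k},
      Cfsg.signalizerDelta p (T : Subgroup G) ⊓ Subgroup.centralizer {a}) =
      gen p k A (Subgroup.zpowers a) := by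
  refine le_antisymm (iSup_le fun T => ?_) (iSup_le fun D => ?_)
  · obtain ⟨t, ht, ht1⟩ := exists_ne_one_of_ne_bot (H := (T : Subgroup G)) (by
      intro h
      have := T.2.2
      rw [h, Subgroup.card_bot] at this
      exact absurd this (Nat.ne_of_lt (Nat.one_lt_pow (by omega) hp.out.one_lt)))
    refine generation hA hAk (Subgroup.zpowers_le.mpr ha)
      (le_normalizer_inf_of_le (le_normalizer_delta hA T.2.1) fun c hc => ?_)
      (delta_coprime ht ht1 inf_le_left) (fun x hx => mem_centralizer_zpowers hx.2)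
      fun D hD1 hD2 hD3 => ?_
    · exact Subgroup.le_normalizer
        (Subgroup.mem_centralizer_singleton_iff.mpr (comm_of_mem hA hc ha))
    · refine le_trans (le_inf (le_delta fun d hd hd1 => le_trans ?_ (hb T T.2.1 T.2.2 d (hD2 hd) hd1))
        inf_le_right) (le_gen hD1 hD2 hD3)
      exact inf_le_inf inf_le_left (Subgroup.centralizer_le (by simpa using hd))
  · obtain ⟨n, hn⟩ := IsPGroup.iff_card.mp (show IsPGroup p (D : Subgroup G) from fun b =>
      ⟨1, Subtype.ext (by rw [pow_one]; exact hA.2 b (D.2.2.1 b.2))⟩)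
    have hkn : k + 1 ≤ n := (Nat.pow_le_pow_iff_right hp.out.one_lt).mp (hn ▸ D.2.2.2)
    obtain ⟨T, hT⟩ := Sylow.exists_subgroup_card_pow_prime (G := (D : Subgroup G)) p (n := k)
      (hn ▸ pow_dvd_pow p (by omega))
    refine le_iSup_of_le ⟨T.map (D : Subgroup G).subtype,
      (Subgroup.map_subtype_le T).trans D.2.2.1, by
        rw [Subgroup.card_map_of_injective (Subgroup.subtype_injective _), hT]⟩ ?_
    exact inf_le_inf (delta_anti (Subgroup.map_subtype_le T))
      (Subgroup.centralizer_le (by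
        simpa using D.2.1 (Subgroup.mem_zpowers a)))

/-- The `k`-balanced functor is a solvable signalizer functor. -/
theorem isSolvableSignalizerFunctor (hk : 1 ≤ k) (hA : Cfsg.IsElementaryAbelian p A)
    (hAk : p ^ (k + 2) ≤ Nat.card A)
    (hsolv : ∀ a ∈ A, a ≠ 1 → Group.IsSolvable ↥(Cfsg.centralizerPPrimeCore p a))
    (hb : ∀ T : Subgroup G, T ≤ A → Nat.card T = p ^ k → ∀ d ∈ A, d ≠ 1 →
      Cfsg.signalizerDelta p T ⊓ Subgroup.centralizer {d} ≤ Cfsg.centralizerPPrimeCore p d) :
    Cfsg.IsSolvableSignalizerFunctor p A (fun a => gen p k A (Subgroup.zpowers a)) := by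
  have hcore : ∀ e, e ≠ 1 → gen p k A (Subgroup.zpowers e) ≤ Cfsg.centralizerPPrimeCore p e :=
    fun e he1 => gen_le_core (Subgroup.mem_zpowers e) he1
  have hcp : ∀ e X, e ≠ 1 → X ≤ gen p k A (Subgroup.zpowers e) → ¬ p ∣ Nat.card X :=
    fun e X he1 hX h => hp.out.ne_one (Nat.eq_one_of_dvd_coprimes
      ((coprime_centralizerPPrimeCore e).coprime_dvd_left
        (Subgroup.card_dvd_of_le (hX.trans (hcore e he1)))) h (dvd_refl p))
  refine ⟨⟨fun e _ he1 => (hcore e he1).trans (Subgroup.map_subtype_le _),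
    fun e _ he1 => hcp e _ he1 le_rfl, fun e _ _ => forall_of_le_normalizer (le_normalizer_gen hA _),
    fun a ha ha1 b hb' hb1 => ?_⟩, fun e he he1 => ?_⟩
  · refine generation hA hAk (S := Subgroup.zpowers a ⊔ Subgroup.zpowers b)
      (sup_le (Subgroup.zpowers_le.mpr ha) (Subgroup.zpowers_le.mpr hb'))
      (le_normalizer_inf_of_le (le_normalizer_gen hA _) fun c hc => Subgroup.le_normalizer
        (Subgroup.mem_centralizer_singleton_iff.mpr (comm_of_mem hA hc hb')))
      (hcp a _ ha1 inf_le_left)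
      (le_centralizer_sup (inf_le_left.trans (gen_le_centralizer _))
        fun x hx => mem_centralizer_zpowers hx.2) fun D hD1 hD2 hD3 => ?_
    have h1 := gen_inf_centralizer_le hA hAk hsolv hb (k - 1) 1 (by omega) le_rfl
      (Subgroup.zpowers a) (Subgroup.zpowers_le.mpr ha)
      (by rw [Nat.card_zpowers, orderOf_eq_prime (hA.2 a ha) ha1, pow_one]) D
      (le_sup_left.trans hD1) hD2 hD3
    exact le_trans (le_inf (le_trans (inf_le_inf_right _ inf_le_left) h1) inf_le_right)
      (le_gen (le_sup_right.trans hD1) hD2 hD3)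
  · haveI := hsolv e he he1
    exact Group.isSolvable_of_isSolvable_injective (Subgroup.inclusion_injective (hcore e he1))

end CfsgLib.Signalizer.KBalance
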