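import Mathlib
import Cfsg.Prelude.Def_Balance
import Cfsg.Agent.Lib.Signalizer.KBalance
import Cfsg.Agent.Lib.Layer.PLocal

/-!
Balance of a group follows from local balance of the components of the centralisers.
-/

set_option autoImplicit false
set_option linter.style.haveILetI false
set_option linter.unusedSectionVars false

open scoped commutatorElement
open Pointwise
open CfsgLib.Coprime

namespace CfsgLib.Signalizer.ComponentBalance

open Cfsg
open CfsgLib.Layer

variable {G : Type*} [Group G] [Finite G] {p : ℕ} [hp : Fact p.Prime]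

theorem isPGroup_zpowers {x : G} (hx : x ^ p = 1) : IsPGroup p (Subgroup.zpowers x) := by
  rintro ⟨z, k, rfl⟩
  refine ⟨1, Subtype.ext ?_⟩
  show (x ^ k) ^ p ^ 1 = 1
  rw [pow_one, ← zpow_natCast, ← zpow_mul, mul_comm, zpow_mul, zpow_natCast, hx, one_zpow]

theorem centralizerPPrimeCore_le_core0 {x : G} (hx : x ^ p = 1) :
    centralizerPPrimeCore p x ≤ PLocal.core0 p (Subgroup.zpowers x) := by
  have hC : Subgroup.centralizer (Subgroup.zpowers x : Set G) =
      Subgroup.centralizer ({x} : Set G) := by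
    rw [Subgroup.zpowers_eq_closure, Subgroup.centralizer_closure]
  refine PLocal.le_core0 (isPGroup_zpowers hx) ?_ ?_ (coprime_centralizerPPrimeCore x)
  · rw [hC]; exact Subgroup.map_subtype_le _
  · rw [hC]; exact centralizerPPrimeCore_normalized x

/-- Reduction to the components normalised faithfully by `B`. -/
theorem eq_bot_of_components (hO : pPrimeCore p G = ⊥) {B D : Subgroup G} (hB1 : B ≠ ⊥)
    (hBp : ∀ b ∈ B, b ^ p = 1)
    (hD : ∀ b ∈ B, b ≠ 1 → D ≤ PLocal.core0 p (Subgroup.zpowers b))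
    (hloc : ∀ L : Subgroup G, IsComponent L → B ≤ Subgroup.normalizer (L : Set G) →
      (∀ b ∈ B, b ≠ 1 → b ∉ Subgroup.centralizer (L : Set G)) →
      D ≤ Subgroup.centralizer (L : Set G)) : D = ⊥ := by
  obtain ⟨b₀, hb₀, hb₀1⟩ := exists_ne_one_of_ne_bot hB1
  refine PLocal.eq_bot_of_centralizes_components hO
    ((PLocal.coprime_core0 _).coprime_dvd_left (Subgroup.card_dvd_of_le (hD b₀ hb₀ hb₀1)))
    ((hD b₀ hb₀ hb₀1).trans ((PLocal.core0_le _).trans inf_le_right)) fun L hL => ?_
  by_cases h : ∃ b ∈ B, b ≠ 1 ∧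
      (b ∈ Subgroup.normalizer (L : Set G) → b ∈ Subgroup.centralizer (L : Set G))
  · obtain ⟨b, hb, hb1, hbL⟩ := h
    exact (hD b hb hb1).trans (PLocal.core0_le_centralizer hO (hBp b hb) hL hbL)
  · push Not at h
    exact hloc L hL (fun b hb => (eq_or_ne b 1).elim (fun e => e ▸ one_mem _)
      fun hb1 => (h b hb hb1).1) fun b hb hb1 => (h b hb hb1).2

/-- The automizer criterion for one component. -/
theorem le_centralizer_of_hom (hO : pPrimeCore p G = ⊥) {B D L : Subgroup G} (hB1 : B ≠ ⊥)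
    (hBc : IsMulCommutative B) (hBp : ∀ b ∈ B, b ^ p = 1)
    (hD : ∀ b ∈ B, b ≠ 1 → D ≤ PLocal.core0 p (Subgroup.zpowers b))
    (hL : IsComponent L) (hBL : B ≤ Subgroup.normalizer (L : Set G))
    (hfaith : ∀ b ∈ B, b ≠ 1 → b ∉ Subgroup.centralizer (L : Set G))
    {T : Type*} [Group T] (f : ↥(L ⊔ (B ⊔ D)) →* T) (hf : Function.Surjective f)
    (hker : ∀ h : ↥(L ⊔ (B ⊔ D)), f h = 1 → (h : G) ∈ Subgroup.centralizer (L : Set G))
    (hT : ∀ A : Subgroup T, IsElementaryAbelian p A → Nat.card A = Nat.card B →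
      signalizerDelta p A = ⊥) :
    D ≤ Subgroup.centralizer (L : Set G) := by
  haveI : Finite T := Finite.of_surjective f hf
  have hBH : B ≤ (L ⊔ (B ⊔ D)) := le_sup_left.trans le_sup_right
  have hDH : D ≤ (L ⊔ (B ⊔ D)) := le_sup_right.trans le_sup_right
  obtain ⟨b₀, hb₀, hb₀1⟩ := exists_ne_one_of_ne_bot hB1
  have hDB : D ≤ Subgroup.centralizer (B : Set G) := fun d hd => Subgroup.mem_centralizer_iff.mpr
    fun b hb => by
      rcases eq_or_ne b 1 with rfl | hb1
      · simp
      · exact Subgroup.mem_centralizer_iff.mp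
          (PLocal.cent_le_centralizer _ (PLocal.core0_le _ (hD b hb hb1 hd))) b (Subgroup.mem_zpowers b)
  have hDL : D ≤ Subgroup.normalizer (L : Set G) :=
    (hD b₀ hb₀ hb₀1).trans (PLocal.core0_le_normalizer hO (isPGroup_zpowers (hBp b₀ hb₀)) hL)
  set A := (B.subgroupOf (L ⊔ (B ⊔ D))).map f with hA
  have hAel : IsElementaryAbelian p A := by
    refine ⟨⟨⟨?_⟩⟩, ?_⟩
    · rintro ⟨_, u, hu, rfl⟩ ⟨_, v, hv, rfl⟩
      refine Subtype.ext ?_
      show f u * f v = f v * f u
      rw [← map_mul, ← map_mul]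
      congr 1
      exact Subtype.ext (congrArg Subtype.val
        (hBc.is_comm.comm (⟨u, hu⟩ : B) ⟨v, hv⟩) :)
    · rintro _ ⟨u, hu, rfl⟩
      rw [← map_pow, show u ^ p = 1 from Subtype.ext (hBp u hu), map_one]
  have hinj : ∀ u : ↥(L ⊔ (B ⊔ D)), (u : G) ∈ B → f u = 1 → u = 1 := fun u hu he => by
    by_contra hu1
    exact hfaith u hu (fun h => hu1 (Subtype.ext h)) (hker u he)
  have hcard : Nat.card A = Nat.card B := by
    rw [← Nat.card_congr (Subgroup.subgroupOfEquivOfLe hBH).toEquiv]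
    refine (Nat.card_congr (Equiv.ofBijective (f.subgroupMap (B.subgroupOf (L ⊔ (B ⊔ D))))
      ⟨fun u v huv => ?_, f.subgroupMap_surjective _⟩)).symm
    have he : f ((u : ↥(L ⊔ (B ⊔ D)))⁻¹ * v) = 1 := by
      rw [map_mul, map_inv, inv_mul_eq_one]
      exact congrArg Subtype.val huv
    exact Subtype.ext (inv_mul_eq_one.mp (hinj _ (mul_mem (inv_mem u.2) v.2) he))
  have hle : (D.subgroupOf (L ⊔ (B ⊔ D))).map f ≤ signalizerDelta p A := by
    refine KBalance.le_delta ?_
    rintro _ ⟨u, hu, rfl⟩ hu1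
    have hu1' : (u : G) ≠ 1 := fun h => hu1 (by rw [show u = 1 from Subtype.ext h, map_one])
    refine le_trans (Subgroup.map_mono fun d hd => ?_)
      (PLocal.map_core0_le_core (x := (u : G)) hL hO (Subgroup.mem_sup_left hu)
        (sup_le ?_ ?_) (sup_le hBL hDL) f hf hker)
    · exact hD u hu hu1' hd
    · exact fun w hw => Subgroup.mem_centralizer_singleton_iff.mpr
        (congrArg Subtype.val (hBc.is_comm.comm (⟨w, hw⟩ : B) ⟨u, hu⟩))
    · exact hDB.trans (Subgroup.centralizer_le (by simpa using (Subgroup.mem_subgroupOf.mp hu)))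
  rw [hT A hAel hcard] at hle
  intro d hd
  exact hker ⟨d, hDH hd⟩ (Subgroup.mem_bot.mp (hle ⟨⟨d, hDH hd⟩, hd, rfl⟩))

/-- The action of `MulAut L` on `L / Z(L)`. -/
noncomputable def autQuot (L : Type*) [Group L] : MulAut L →* MulAut (L ⧸ Subgroup.center L) :=
  MonoidHom.mk' (fun φ => QuotientGroup.congr _ _ φ
    (Subgroup.characteristic_iff_map_eq.mp inferInstance _)) fun φ ψ => by
    ext x
    obtain ⟨x, rfl⟩ := QuotientGroup.mk'_surjective (Subgroup.center L) x
    rfl

theorem autQuot_mk {L : Type*} [Group L] (φ : MulAut L) (x : L) :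
    autQuot L φ (QuotientGroup.mk x) = QuotientGroup.mk (φ x) := rfl

theorem autQuot_injective {L : Type*} [Group L] [Group.IsPerfect L] :
    Function.Injective (autQuot L) := by
  rw [injective_iff_map_eq_one]
  intro φ hφ
  have hc : ∀ a : L, a⁻¹ * φ a ∈ Subgroup.center L := fun a => by
    have h := congrArg (fun e : MulAut (L ⧸ Subgroup.center L) => e (QuotientGroup.mk a)) hφ
    simp only [autQuot_mk, MulAut.one_apply] at h
    exact QuotientGroup.eq.mp h.symm
  have hle : commutator L ≤ φ.toMonoidHom.eqLocus (MonoidHom.id L) := by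
    rw [commutator_def, Subgroup.commutator_le]
    intro a _ b _
    show φ ⁅a, b⁆ = ⁅a, b⁆
    have key : ∀ (u v z w : L), z ∈ Subgroup.center L → w ∈ Subgroup.center L →
        ⁅u * z, v * w⁆ = ⁅u, v⁆ := by
      intro u v z w hz hw
      rw [commutatorElement_def, commutatorElement_def]
      have h1 : ∀ g, g * z = z * g := Subgroup.mem_center_iff.mp hz
      have h2 : ∀ g, g * w = w * g := Subgroup.mem_center_iff.mp hw
      calc u * z * (v * w) * (u * z)⁻¹ * (v * w)⁻¹
          = u * (z * v) * (w * z⁻¹) * (u⁻¹ * w⁻¹) * v⁻¹ := by group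
        _ = u * (v * z) * (z⁻¹ * w) * (w⁻¹ * u⁻¹) * v⁻¹ := by
            have h3 : w * z⁻¹ = z⁻¹ * w := (h2 z⁻¹).symm
            have h4 : u⁻¹ * w⁻¹ = w⁻¹ * u⁻¹ := by rw [← mul_inv_rev, ← mul_inv_rev, h2]
            rw [h1 v, h3, h4]
        _ = u * v * u⁻¹ * v⁻¹ := by group
    rw [map_commutatorElement, show φ a = a * (a⁻¹ * φ a) by group,
      show φ b = b * (b⁻¹ * φ b) by group, key _ _ _ _ (hc a) (hc b)]
  refine MulEquiv.ext fun a => ?_
  exact hle (by rw [Group.IsPerfect.commutator_eq_top]; exact Subgroup.mem_top a)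

theorem range_conj_le {L : Type*} [Group L] :
    (MulAut.conj : L ⧸ Subgroup.center L →* MulAut (L ⧸ Subgroup.center L)).range ≤
      (MulAut.conj : L →* MulAut L).range.map (autQuot L) := by
  rintro _ ⟨x, rfl⟩
  obtain ⟨x, rfl⟩ := QuotientGroup.mk'_surjective (Subgroup.center L) x
  refine ⟨MulAut.conj x, ⟨x, rfl⟩, MulEquiv.ext fun y => ?_⟩
  obtain ⟨y, rfl⟩ := QuotientGroup.mk'_surjective (Subgroup.center L) y
  rfl

/-- Locally `k`-balanced components give the automizer hypothesis. -/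
theorem le_centralizer_of_locallyBalanced (hO : pPrimeCore p G = ⊥) {B D L : Subgroup G}
    (hB1 : B ≠ ⊥) (hBc : IsMulCommutative B) (hBp : ∀ b ∈ B, b ^ p = 1)
    (hD : ∀ b ∈ B, b ≠ 1 → D ≤ PLocal.core0 p (Subgroup.zpowers b))
    (hL : IsComponent L) (hBL : B ≤ Subgroup.normalizer (L : Set G))
    (hfaith : ∀ b ∈ B, b ≠ 1 → b ∉ Subgroup.centralizer (L : Set G))
    (hT : (∀ H : Subgroup (MulAut (↥L ⧸ Subgroup.center ↥L)),
        (MulAut.conj : ↥L ⧸ Subgroup.center ↥L →* MulAut _).range ≤ H →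
        ∀ A : Subgroup ↥H, IsElementaryAbelian p A → Nat.card A = Nat.card B →
          signalizerDelta p A = ⊥) ∨
      (∀ H : Subgroup (MulAut ↥L), (MulAut.conj : ↥L →* MulAut ↥L).range ≤ H →
        ∀ A : Subgroup ↥H, IsElementaryAbelian p A → Nat.card A = Nat.card B →
          signalizerDelta p A = ⊥)) :
    D ≤ Subgroup.centralizer (L : Set G) := by
  set H := L ⊔ (B ⊔ D) with hH
  have hHN : H ≤ Subgroup.normalizer (L : Set G) := by
    obtain ⟨b₀, hb₀, hb₀1⟩ := exists_ne_one_of_ne_bot hB1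
    exact sup_le Subgroup.le_normalizer (sup_le hBL ((hD b₀ hb₀ hb₀1).trans
      (PLocal.core0_le_normalizer hO (isPGroup_zpowers (hBp b₀ hb₀)) hL)))
  set f : ↥H →* MulAut ↥L := L.normalizerMonoidHom.comp (Subgroup.inclusion hHN) with hf
  have hker : ∀ h : ↥H, f h = 1 → (h : G) ∈ Subgroup.centralizer (L : Set G) := by
    intro h he
    have h1 : Subgroup.inclusion hHN h ∈ L.normalizerMonoidHom.ker := he
    rw [Subgroup.normalizerMonoidHom_ker] at h1
    exact h1
  have hinn : (MulAut.conj : ↥L →* MulAut ↥L).range ≤ f.range := by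
    rintro _ ⟨l, rfl⟩
    exact ⟨⟨l, Subgroup.mem_sup_left l.2⟩, MulEquiv.ext fun y => rfl⟩
  rcases hT with hT | hT
  · haveI : Group.IsPerfect ↥L := hL.2.1
    set g := (autQuot ↥L).comp f
    refine le_centralizer_of_hom hO hB1 hBc hBp hD hL hBL hfaith g.rangeRestrict
      g.rangeRestrict_surjective (fun h he => hker h (autQuot_injective ?_))
      (hT g.range (range_conj_le.trans ?_))
    · rw [map_one]; exact congrArg Subtype.val he
    · rw [MonoidHom.range_comp]; exact Subgroup.map_mono hinn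
  · exact le_centralizer_of_hom hO hB1 hBc hBp hD hL hBL hfaith f.rangeRestrict
      f.rangeRestrict_surjective (fun h he => hker h (congrArg Subtype.val he)) (hT f.range hinn)

/-- Balance at `a` from local balance of the components of `C(a)/O_{p'}(C(a))`. -/
theorem delta_inf_centralizer_le {a : G} {B : Subgroup G} (hB1 : B ≠ ⊥)
    (hBc : IsMulCommutative B) (hBp : ∀ b ∈ B, b ^ p = 1)
    (hBa : B ≤ Subgroup.centralizer ({a} : Set G))
    (hT : ∀ K : Subgroup (↥(Subgroup.centralizer ({a} : Set G)) ⧸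
        pPrimeCore p ↥(Subgroup.centralizer ({a} : Set G))), IsComponent K →
      (∀ H : Subgroup (MulAut (↥K ⧸ Subgroup.center ↥K)),
        (MulAut.conj : ↥K ⧸ Subgroup.center ↥K →* MulAut _).range ≤ H →
        ∀ A : Subgroup ↥H, IsElementaryAbelian p A → Nat.card A = Nat.card B →
          signalizerDelta p A = ⊥) ∨
      (∀ H : Subgroup (MulAut ↥K), (MulAut.conj : ↥K →* MulAut ↥K).range ≤ H →
        ∀ A : Subgroup ↥H, IsElementaryAbelian p A → Nat.card A = Nat.card B →
          signalizerDelta p A = ⊥)) :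
    signalizerDelta p B ⊓ Subgroup.centralizer ({a} : Set G) ≤ centralizerPPrimeCore p a := by
  rw [centralizerPPrimeCore]
  generalize hC : Subgroup.centralizer ({a} : Set G) = C at hBa hT ⊢
  haveI := Transfer.pPrimeCore_normal p ↥C
  set f := QuotientGroup.mk' (pPrimeCore p ↥C) with hfdef
  have hf : Function.Surjective f := QuotientGroup.mk'_surjective _
  have hK : (Nat.card f.ker).Coprime p := by
    rw [hfdef, QuotientGroup.ker_mk']; exact Transfer.pPrimeCore_coprime p
  set D0 := (signalizerDelta p B ⊓ C).subgroupOf C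
  set B' := (B.subgroupOf C).map f with hB'
  have hinj : ∀ u : C, (u : G) ∈ B → f u = 1 → u = 1 := fun u hu he => by
    refine PSolvable.eq_one_of_mem_of_mem (P := B.subgroupOf C)
      (fun v => ⟨1, Subtype.ext (Subtype.ext ?_)⟩) hK hu (MonoidHom.mem_ker.mpr he)
    show (((v : C) : G)) ^ p ^ 1 = 1
    rw [pow_one]
    exact hBp _ v.2
  have hcard : Nat.card B' = Nat.card B := by
    rw [← Nat.card_congr (Subgroup.subgroupOfEquivOfLe hBa).toEquiv]
    refine (Nat.card_congr (Equiv.ofBijective (f.subgroupMap (B.subgroupOf C))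
      ⟨fun u v huv => ?_, f.subgroupMap_surjective _⟩)).symm
    have he : f ((u : C)⁻¹ * v) = 1 := by
      rw [map_mul, map_inv, inv_mul_eq_one]
      exact congrArg Subtype.val huv
    exact Subtype.ext (inv_mul_eq_one.mp (hinj _ (mul_mem (inv_mem u.2) v.2) he))
  have hB'c : IsMulCommutative B' := by
    refine ⟨⟨?_⟩⟩
    rintro ⟨_, u, hu, rfl⟩ ⟨_, v, hv, rfl⟩
    refine Subtype.ext ?_
    show f u * f v = f v * f u
    rw [← map_mul, ← map_mul]
    congr 1
    exact Subtype.ext (congrArg Subtype.val (hBc.is_comm.comm (⟨u, hu⟩ : B) ⟨v, hv⟩) :)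
  have hB'p : ∀ b ∈ B', b ^ p = 1 := by
    rintro _ ⟨u, hu, rfl⟩
    rw [← map_pow, show u ^ p = 1 from Subtype.ext (hBp u hu), map_one]
  have hD : ∀ b ∈ B', b ≠ 1 → D0.map f ≤ PLocal.core0 p (Subgroup.zpowers b) := by
    rintro _ ⟨u, hu, rfl⟩ hu1
    have hu1' : (u : G) ≠ 1 := fun h => hu1 (by rw [show u = 1 from Subtype.ext h, map_one])
    set E := (centralizerPPrimeCore p (u : G)).subgroupOf C
    have hDE : D0 ≤ E := fun d hd =>
      KBalance.delta_le (show (u : G) ∈ B from hu) hu1' (Subgroup.mem_inf.mp hd).1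
    refine (Subgroup.map_mono hDE).trans (PLocal.le_core0 (isPGroup_zpowers (hB'p _ ⟨u, hu, rfl⟩)) ?_ ?_ ?_)
    · rw [Subgroup.zpowers_eq_closure, Subgroup.centralizer_closure]
      rintro _ ⟨e, he, rfl⟩
      rw [Subgroup.mem_centralizer_singleton_iff, ← map_mul, ← map_mul]
      congr 1
      exact Subtype.ext (Subgroup.mem_centralizer_singleton_iff.mp (Subgroup.map_subtype_le _ he))
    · rw [← MonoidHom.map_zpowers, ← PSolvable.map_centralizer_eq hf hK
        (isPGroup_zpowers (show u ^ p = 1 from Subtype.ext (hBp u hu)))]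
      refine le_trans (Subgroup.map_mono fun c hc => ?_) (Subgroup.le_normalizer_map f)
      have hc' : (c : G) ∈ Subgroup.centralizer ({(u : G)} : Set G) :=
        Subgroup.mem_centralizer_singleton_iff.mpr
          (congrArg Subtype.val (Subgroup.mem_centralizer_iff.mp hc u (Subgroup.mem_zpowers u))).symm
      refine Subgroup.mem_normalizer_fintype fun e he => ?_
      exact (Subgroup.mem_normalizer_iff.mp (centralizerPPrimeCore_normalized (u : G) hc') _).mp he
    · refine Nat.Coprime.coprime_dvd_left (Subgroup.card_map_dvd E f) ?_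
      rw [← Subgroup.card_map_of_injective C.subtype_injective, Subgroup.subgroupOf_map_subtype]
      exact (coprime_centralizerPPrimeCore _).coprime_dvd_left (Subgroup.card_dvd_of_le inf_le_left)
  have hB'1 : B' ≠ ⊥ := fun h => by
    rw [h, Subgroup.card_bot] at hcard
    exact hB1 (Subgroup.eq_bot_of_card_eq B hcard.symm)
  have hmain : D0.map f = ⊥ :=
    eq_bot_of_components (pPrimeCore_quotient_eq_bot p) hB'1 hB'p hD fun L hL hBL hfaith =>
      le_centralizer_of_locallyBalanced (pPrimeCore_quotient_eq_bot p) hB'1 hB'c hB'p hD hL hBL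
        hfaith (by rw [hcard]; exact hT L hL)
  rw [Subgroup.map_eq_bot_iff, hfdef, QuotientGroup.ker_mk'] at hmain
  have h2 := Subgroup.map_mono (f := C.subtype) hmain
  rwa [Subgroup.map_subgroupOf_eq_of_le inf_le_right] at h2

end CfsgLib.Signalizer.ComponentBalance
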