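import Mathlib
import Cfsg.Prelude.Def_Balance
import Cfsg.Agent.Lib.Signalizer.Solvable

/-!
Equivariant solvable signalizer functors on a connected commuting graph are trivial.
-/

set_option autoImplicit false
set_option linter.style.haveILetI false

open Pointwise
open CfsgLib.Coprime

namespace CfsgLib.Signalizer

variable {G : Type*} [Group G]

/-- An element of order `p` with centralizer of `p`-rank at least three. -/
def IsRankThreePoint (p : ℕ) (a : G) : Prop :=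
  orderOf a = p ∧ ¬ Cfsg.PRankLE p 2 ↥(Subgroup.centralizer ({a} : Set G))

variable [Finite G] {p : ℕ} [hp : Fact p.Prime]

theorem exists_elementary_of_rank {H : Subgroup G} (h : ¬ Cfsg.PRankLE p 2 ↥H) :
    ∃ A ≤ H, Cfsg.IsElementaryAbelian p A ∧ p ^ 3 ≤ Nat.card A := by
  unfold Cfsg.PRankLE at h
  push Not at h
  obtain ⟨A, hA, hexp, hcard⟩ := h
  refine ⟨A.map H.subtype, Subgroup.map_subtype_le A, ⟨⟨⟨?_⟩⟩, ?_⟩, ?_⟩
  · rintro ⟨_, u, hu, rfl⟩ ⟨_, v, hv, rfl⟩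
    haveI := hA
    exact Subtype.ext (congrArg (fun z : A => ((z : H) : G)) (mul_comm' (⟨u, hu⟩ : A) ⟨v, hv⟩))
  · rintro _ ⟨u, hu, rfl⟩
    rw [← map_pow, hexp u hu, map_one]
  · rw [Subgroup.card_map_of_injective H.subtype_injective]
    obtain ⟨n, hn⟩ := IsPGroup.iff_card.mp (show IsPGroup p A from fun b =>
      ⟨1, Subtype.ext (by rw [pow_one]; exact hexp b b.2)⟩)
    rw [hn] at hcard ⊢
    exact Nat.pow_le_pow_right hp.out.pos ((Nat.pow_lt_pow_iff_right hp.out.one_lt).mp hcard)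

theorem not_pRankLE_of_le {A H : Subgroup G} (hA : Cfsg.IsElementaryAbelian p A)
    (hA3 : p ^ 3 ≤ Nat.card A) (hAH : A ≤ H) : ¬ Cfsg.PRankLE p 2 ↥H := by
  intro hr
  haveI := hA.1
  have h1 := hr (A.subgroupOf H)
    ⟨⟨fun u v => Subtype.ext (Subtype.ext (congrArg Subtype.val
      (mul_comm' (⟨((u : H) : G), u.2⟩ : A) ⟨((v : H) : G), v.2⟩) :))⟩⟩
    fun u hu => Subtype.ext (by simpa using hA.2 _ hu)
  rw [Nat.card_congr (Subgroup.subgroupOfEquivOfLe hAH).toEquiv] at h1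
  exact absurd ((Nat.pow_le_pow_iff_right hp.out.one_lt).mp (hA3.trans h1)) (by norm_num)

theorem isRankThreePoint_of_mem {A : Subgroup G} (hA : Cfsg.IsElementaryAbelian p A)
    (hA3 : p ^ 3 ≤ Nat.card A) {a : G} (ha : a ∈ A) (ha1 : a ≠ 1) : IsRankThreePoint p a := by
  refine ⟨(hp.out.eq_one_or_self_of_dvd _ (orderOf_dvd_of_pow_eq_one (hA.2 a ha))).resolve_left
    (by rwa [orderOf_eq_one_iff]), not_pRankLE_of_le hA hA3 fun b hb => ?_⟩
  exact Subgroup.mem_centralizer_singleton_iff.mpr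
    (congrArg Subtype.val (hA.1.is_comm.comm (⟨b, hb⟩ : A) ⟨a, ha⟩))

theorem elementary_sup {E F : Subgroup G} (hE : Cfsg.IsElementaryAbelian p E)
    (hF : Cfsg.IsElementaryAbelian p F) (hc : ∀ a ∈ E, ∀ b ∈ F, a * b = b * a) :
    Cfsg.IsElementaryAbelian p (E ⊔ F : Subgroup G) := by
  have hn : F ≤ Subgroup.normalizer (E : Set G) := le_normalizer_of_forall fun b hb a ha => by
    rw [← hc a ha b hb, mul_inv_cancel_right]
    exact ha
  have hmul : ∀ g ∈ E ⊔ F, ∃ a ∈ E, ∃ b ∈ F, a * b = g := fun g hg => by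
    rw [← SetLike.mem_coe, Subgroup.coe_mul_of_right_le_normalizer_left E F hn, Set.mem_mul] at hg
    exact hg
  have hEE : ∀ a ∈ E, ∀ b ∈ E, a * b = b * a := fun a ha b hb =>
    congrArg Subtype.val (hE.1.is_comm.comm (⟨a, ha⟩ : E) ⟨b, hb⟩)
  have hFF : ∀ a ∈ F, ∀ b ∈ F, a * b = b * a := fun a ha b hb =>
    congrArg Subtype.val (hF.1.is_comm.comm (⟨a, ha⟩ : F) ⟨b, hb⟩)
  refine ⟨⟨⟨fun u v => Subtype.ext ?_⟩⟩, fun g hg => ?_⟩
  · obtain ⟨a, ha, b, hb, hu⟩ := hmul _ u.2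
    obtain ⟨c, hc', d, hd, hv⟩ := hmul _ v.2
    show (u : G) * v = v * u
    rw [← hu, ← hv, mul_assoc, ← mul_assoc b c d, ← hc c hc' b hb, mul_assoc c b d, hFF b hb d hd,
      ← mul_assoc a c, hEE a ha c hc', mul_assoc c a, ← mul_assoc a d b, hc a ha d hd]
    simp only [mul_assoc]
  · obtain ⟨a, ha, b, hb, rfl⟩ := hmul g hg
    rw [(show Commute a b from hc a ha b hb).mul_pow, hE.2 a ha, hF.2 b hb, one_mul]

/-- Equivariant solvable signalizer functors are trivial when the graph is connected and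
`O_{p'}(G) = 1`. -/
theorem eq_bot_of_connected (hO : Cfsg.pPrimeCore p G = ⊥) (hrk : ¬ Cfsg.PRankLE p 2 G)
    (hconn : Cfsg.IsRankGraphConnected p 2 G) {θ : G → Subgroup G}
    (hC : ∀ a : G, IsRankThreePoint p a →
      θ a ≤ Subgroup.centralizer ({a} : Set G) ∧ ¬ p ∣ Nat.card ↥(θ a) ∧ Group.IsSolvable ↥(θ a))
    (heq : ∀ a g : G, IsRankThreePoint p a →
      θ (g * a * g⁻¹) = (θ a).map (MulAut.conj g).toMonoidHom)
    (hbal : ∀ a b : G, IsRankThreePoint p a → IsRankThreePoint p b → a * b = b * a →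
      θ a ⊓ Subgroup.centralizer {b} ≤ θ b)
    {a : G} (ha : IsRankThreePoint p a) : θ a = ⊥ := by
  have hfun : ∀ {A : Subgroup G}, Cfsg.IsElementaryAbelian p A → p ^ 3 ≤ Nat.card A →
      Cfsg.IsSolvableSignalizerFunctor p A θ := by
    intro A hA hA3
    have hpt : ∀ b ∈ A, b ≠ 1 → IsRankThreePoint p b := fun b hb =>
      isRankThreePoint_of_mem hA hA3 hb
    have hcomm : ∀ b ∈ A, ∀ c ∈ A, b * c = c * b := fun b hb c hc =>
      congrArg Subtype.val (hA.1.is_comm.comm (⟨b, hb⟩ : A) ⟨c, hc⟩)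
    refine ⟨⟨fun b hb hb1 => (hC b (hpt b hb hb1)).1, fun b hb hb1 => (hC b (hpt b hb hb1)).2.1,
      fun b hb hb1 c hc g hg => ?_, fun b hb hb1 c hc hc1 =>
        hbal b c (hpt b hb hb1) (hpt c hc hc1) (hcomm b hb c hc)⟩,
      fun b hb hb1 => (hC b (hpt b hb hb1)).2.2⟩
    have h1 := heq b c (hpt b hb hb1)
    rw [hcomm c hc b hb, mul_inv_cancel_right] at h1
    rw [h1]
    exact ⟨g, hg, rfl⟩
  let W : Subgroup G → Subgroup G := fun E => ⨆ b : {b : G // b ∈ E ∧ b ≠ 1}, θ b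
  have hW : ∀ {A E : Subgroup G}, Cfsg.IsElementaryAbelian p A → p ^ 3 ≤ Nat.card A → E ≤ A →
      p ^ 2 ≤ Nat.card E → W E = W A ∧ ¬ p ∣ Nat.card ↥(W A) := by
    intro A E hA hA3 hEA hE2
    obtain ⟨X, -, hXp, hX⟩ := hasCover hA hA3 (hfun hA hA3)
    have hle : W A ≤ X := iSup_le fun b => (hX b b.2.1 b.2.2).1
    have hWp : ¬ p ∣ Nat.card ↥(W A) := fun hd => hXp (hd.trans (Subgroup.card_dvd_of_le hle))
    refine ⟨le_antisymm (iSup_le fun b => le_iSup_of_le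
      (f := fun c : {c : G // c ∈ A ∧ c ≠ 1} => θ c) ⟨b, hEA b.2.1, b.2.2⟩ le_rfl) ?_, hWp⟩
    haveI : IsMulCommutative E := ⟨⟨fun u v => Subtype.ext (congrArg Subtype.val
      (hA.1.is_comm.comm (⟨u, hEA u.2⟩ : A) ⟨v, hEA v.2⟩) :)⟩⟩
    refine le_of_centralizer_le (not_isCyclic_of_exponent (fun c hc => hA.2 c (hEA hc)) hp.out.pos
      (lt_of_lt_of_le ?_ hE2)) (hEA.trans (le_normalizer_iSup fun b =>
        mem_normalizer_family (theta_mem_family (hfun hA hA3) b.2.1 b.2.2)))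
      ((coprime_card hA hWp).coprime_dvd_left (Subgroup.card_dvd_of_le hEA)) fun c hc hc1 => ?_
    · conv_lhs => rw [← pow_one p]
      exact Nat.pow_lt_pow_right hp.out.one_lt (by norm_num)
    · exact ((hX c (hEA hc) hc1).2).trans
        (le_iSup_of_le (f := fun b : {b : G // b ∈ E ∧ b ≠ 1} => θ b) ⟨c, hc, hc1⟩ le_rfl)
  obtain ⟨A₀, -, hA₀, hA₀3⟩ := exists_elementary_of_rank (p := p) (H := (⊤ : Subgroup G)) (by
    intro hr
    refine hrk fun A hA hexp => ?_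
    haveI := hA
    refine le_of_eq_of_le ?_ (hr (A.subgroupOf ⊤)
      ⟨⟨fun u v => Subtype.ext (Subtype.ext (congrArg Subtype.val
        (mul_comm' (⟨((u : (⊤ : Subgroup G)) : G), u.2⟩ : A)
          ⟨((v : (⊤ : Subgroup G)) : G), v.2⟩) :))⟩⟩
      fun u hu => Subtype.ext (by simpa using hexp _ hu))
    exact (Nat.card_congr (Subgroup.subgroupOfEquivOfLe (le_top : A ≤ ⊤)).toEquiv).symm)
  have hA₀2 : p ^ 2 ≤ Nat.card A₀ :=
    (Nat.pow_le_pow_right hp.out.pos (by norm_num)).trans hA₀3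
  have hvert : ∀ {A : Subgroup G}, Cfsg.IsElementaryAbelian p A → p ^ 3 ≤ Nat.card A →
      Cfsg.IsRankGraphVertex p 2 A := fun {A} hA hA3 =>
    ⟨hA, (Nat.pow_le_pow_right hp.out.pos (by norm_num)).trans hA3, not_pRankLE_of_le hA hA3
      fun b hb c hc => congrArg Subtype.val (hA.1.is_comm.comm (⟨c, hc⟩ : A) ⟨b, hb⟩)⟩
  have hconst : ∀ {E : Subgroup G}, Cfsg.IsRankGraphVertex p 2 E → W E = W A₀ := by
    intro E hE
    induction hconn A₀ E (hvert hA₀ hA₀3) hE with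
    | refl => rfl
    | @tail B C _ hBC ih =>
      obtain ⟨hB, hC', hcomm⟩ := hBC
      rw [← ih hB]
      have hel := elementary_sup hB.1 hC'.1 hcomm
      by_cases h3 : p ^ 3 ≤ Nat.card ↥(B ⊔ C)
      · rw [(hW hel h3 le_sup_left hB.2.1).1, (hW hel h3 le_sup_right hC'.2.1).1]
      · obtain ⟨n, hn⟩ := IsPGroup.iff_card.mp (show IsPGroup p ↥(B ⊔ C) from fun b =>
          ⟨1, Subtype.ext (by rw [pow_one]; exact hel.2 b b.2)⟩)
        rw [hn, Nat.pow_le_pow_iff_right hp.out.one_lt] at h3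
        have hle2 : Nat.card ↥(B ⊔ C) ≤ p ^ 2 := by
          rw [hn]; exact Nat.pow_le_pow_right hp.out.pos (by omega)
        rw [Subgroup.eq_of_le_of_card_ge (le_sup_left : B ≤ B ⊔ C) (hle2.trans hB.2.1),
          ← Subgroup.eq_of_le_of_card_ge (le_sup_right : C ≤ B ⊔ C) (hle2.trans hC'.2.1)]
  have hnormal : (W A₀).Normal := by
    refine ⟨fun n hn g => ?_⟩
    set B := A₀.map (MulAut.conj g).toMonoidHom with hB
    have hBel : Cfsg.IsElementaryAbelian p B := by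
      refine ⟨⟨⟨fun u v => Subtype.ext ?_⟩⟩, fun c hc => ?_⟩
      · obtain ⟨b, hb, hbe⟩ := u.2
        obtain ⟨c, hc, hce⟩ := v.2
        show (u : G) * v = v * u
        rw [← hbe, ← hce, ← map_mul, ← map_mul]
        exact congrArg _ (congrArg Subtype.val (hA₀.1.is_comm.comm (⟨b, hb⟩ : A₀) ⟨c, hc⟩) :)
      · obtain ⟨b, hb, rfl⟩ := hc
        rw [← map_pow, hA₀.2 b hb, map_one]
    have hB3 : p ^ 3 ≤ Nat.card B := by
      rwa [hB, Subgroup.card_map_of_injective (MulEquiv.injective _)]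
    rw [← hconst (hvert hBel hB3)]
    have hmap : (W A₀).map (MulAut.conj g).toMonoidHom ≤ W B := by
      rw [Subgroup.map_iSup]
      refine iSup_le fun b => ?_
      rw [← heq b g (isRankThreePoint_of_mem hA₀ hA₀3 b.2.1 b.2.2)]
      refine le_iSup_of_le (f := fun c : {c : G // c ∈ B ∧ c ≠ 1} => θ c)
        ⟨g * b * g⁻¹, ⟨b, b.2.1, rfl⟩, fun he => b.2.2 ?_⟩ le_rfl
      exact conj_eq_one_iff.mp he
    exact hmap ⟨n, hn, rfl⟩
  have hbot : W A₀ = ⊥ := le_bot_iff.mp (hO ▸ le_sSup ⟨hnormal,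
    ((Nat.Prime.coprime_iff_not_dvd hp.out).mpr (hW hA₀ hA₀3 le_rfl hA₀2).2).symm⟩)
  obtain ⟨A, hAC, hA, hA3⟩ := exists_elementary_of_rank ha.2
  have hcy : Cfsg.IsElementaryAbelian p (Subgroup.zpowers a) := by
    refine ⟨inferInstance, fun b hb => ?_⟩
    obtain ⟨k, rfl⟩ := hb
    rw [← zpow_natCast, ← zpow_mul, mul_comm, zpow_mul, zpow_natCast, ← ha.1, pow_orderOf_eq_one,
      one_zpow]
  have hel := elementary_sup hA hcy fun b hb c hc => by
    obtain ⟨k, rfl⟩ := hc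
    exact ((show Commute b a from Subgroup.mem_centralizer_singleton_iff.mp (hAC hb)).zpow_right k).eq
  have h3 : p ^ 3 ≤ Nat.card ↥(A ⊔ Subgroup.zpowers a) :=
    hA3.trans (Subgroup.card_le_of_le le_sup_left)
  have ha1 : a ≠ 1 := by
    rintro rfl
    exact hp.out.one_lt.ne (orderOf_one.symm.trans ha.1)
  rw [eq_bot_iff, ← hbot, ← hconst (hvert hel h3)]
  exact le_iSup_of_le (f := fun c : {c : G // c ∈ A ⊔ Subgroup.zpowers a ∧ c ≠ 1} => θ c)
    ⟨a, Subgroup.mem_sup_right (Subgroup.mem_zpowers a), ha1⟩ le_rfl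

end CfsgLib.Signalizer
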