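import Cfsg.Prelude.Def_Balance
import Cfsg.Agent.Lib.Signalizer.ComponentBalance
import Cfsg.Agent.Lib.Coprime.CommutatorFixed
import Cfsg.Agent.Lib.Layer.PComponent
import Cfsg.Agent.Lib.OddOrder.Solvable
import Cfsg.Agent.Lib.PGroup.RankTwoComponent

/-!
The signalizer functor of a core-separated pair of four-groups.
-/

set_option autoImplicit false
set_option linter.style.haveILetI false
set_option linter.unusedSectionVars false

open scoped commutatorElement
open Pointwise
open CfsgLib.Coprime

namespace CfsgLib.Signalizer.CoreSeparated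

open Cfsg
open CfsgLib.Layer

variable {G : Type*} [Group G] [Finite G]

/-- The core of the centralizer of a subgroup. -/
def cCore (P : Subgroup G) : Subgroup G :=
  (oddCore ↥(Subgroup.centralizer (P : Set G))).map (Subgroup.centralizer (P : Set G)).subtype

/-- One factor of the functor. -/
def part (P : Subgroup G) (a : G) : Subgroup G :=
  ⁅centralizerPPrimeCore 2 a, P⁆ ⊔ (centralizerPPrimeCore 2 a ⊓ cCore P)

theorem cCore_le (P : Subgroup G) : cCore P ≤ Subgroup.centralizer (P : Set G) :=
  Subgroup.map_subtype_le _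

theorem cCore_normalized (P : Subgroup G) :
    Subgroup.centralizer (P : Set G) ≤ Subgroup.normalizer (cCore P : Set G) :=
  PSolvable.le_normalizer_map_of_characteristic Subgroup.le_normalizer _

theorem cCore_coprime (P : Subgroup G) : (Nat.card (cCore P)).Coprime 2 := by
  haveI : Fact (Nat.Prime 2) := ⟨Nat.prime_two⟩
  rw [cCore, Subgroup.card_map_of_injective (Subgroup.subtype_injective _)]
  exact Transfer.pPrimeCore_coprime 2

theorem le_cCore {P N : Subgroup G} (hN : N ≤ Subgroup.centralizer (P : Set G))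
    (hn : Subgroup.centralizer (P : Set G) ≤ Subgroup.normalizer (N : Set G))
    (hc : (Nat.card N).Coprime 2) : N ≤ cCore P := by
  haveI : (N.subgroupOf (Subgroup.centralizer (P : Set G))).Normal :=
    Subgroup.normal_subgroupOf_of_le_normalizer hn
  have h1 : N.subgroupOf (Subgroup.centralizer (P : Set G)) ≤
      oddCore ↥(Subgroup.centralizer (P : Set G)) := le_sSup
    ⟨inferInstance, by rwa [Nat.card_congr (Subgroup.subgroupOfEquivOfLe hN).toEquiv]⟩
  have h2 := Subgroup.map_mono (f := (Subgroup.centralizer (P : Set G)).subtype) h1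
  rwa [Subgroup.map_subgroupOf_eq_of_le hN] at h2

theorem mem_normalizer_centralizer {Γ : Type*} [Group Γ] {K : Subgroup Γ} {x : Γ}
    (hx : x ∈ Subgroup.normalizer (K : Set Γ)) :
    x ∈ Subgroup.normalizer ((Subgroup.centralizer (K : Set Γ) : Subgroup Γ) : Set Γ) :=
  CfsgLib.Coprime.le_normalizer_centralizer (A := Subgroup.normalizer (K : Set Γ)) le_rfl hx

theorem comm_mem_of_normalized {C : Subgroup G} {d x : G}
    (hd : d ∈ Subgroup.normalizer (C : Set G)) (hx : x ∈ C) : ⁅d, x⁆ ∈ C := by
  rw [commutatorElement_def]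
  exact mul_mem ((Subgroup.mem_normalizer_iff.mp hd x).mp hx) (inv_mem hx)

theorem le_normalizer_commutator_left (H K : Subgroup G) :
    H ≤ Subgroup.normalizer ((⁅H, K⁆ : Subgroup G) : Set G) := by
  refine fun a ha => Subgroup.mem_normalizer_fintype fun x hx => ?_
  have hle : ⁅H, K⁆ ≤ (⁅H, K⁆).comap (MulAut.conj a).toMonoidHom :=
    Subgroup.commutator_le.2 fun b hb k hk => by
      show a * ⁅b, k⁆ * a⁻¹ ∈ ⁅H, K⁆
      rw [show a * ⁅b, k⁆ * a⁻¹ = ⁅a * b, k⁆ * ⁅a, k⁆⁻¹ by
        simp only [commutatorElement_def]; group]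
      exact mul_mem (Subgroup.commutator_mem_commutator (mul_mem ha hb) hk)
        (inv_mem (Subgroup.commutator_mem_commutator ha hk))
  exact hle hx

/-- The criterion for lying in the core of `C(c)`. -/
theorem mem_core_of_components {a c : G} (ha : a ^ 2 = 1) (hac : a * c = c * a) {D : Subgroup G}
    (hD : D ≤ centralizerPPrimeCore 2 a) (hDc : D ≤ Subgroup.centralizer ({c} : Set G))
    (hK : ∀ K : Subgroup (↥(Subgroup.centralizer ({c} : Set G)) ⧸
        pPrimeCore 2 ↥(Subgroup.centralizer ({c} : Set G))), IsComponent K →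
      (∀ g : ↥(Subgroup.centralizer ({c} : Set G)), (g : G) ∈ centralizerPPrimeCore 2 a →
        QuotientGroup.mk' (pPrimeCore 2 ↥(Subgroup.centralizer ({c} : Set G))) g ∈
          Subgroup.normalizer (K : Set _)) →
      (∀ e : ↥(Subgroup.centralizer ({c} : Set G)), (e : G) = a →
        QuotientGroup.mk' (pPrimeCore 2 ↥(Subgroup.centralizer ({c} : Set G))) e ∈
          Subgroup.centralizer (K : Set _) →
        ∀ g : ↥(Subgroup.centralizer ({c} : Set G)), (g : G) ∈ centralizerPPrimeCore 2 a →
          QuotientGroup.mk' (pPrimeCore 2 ↥(Subgroup.centralizer ({c} : Set G))) g ∈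
            Subgroup.centralizer (K : Set _)) →
      ∀ d : ↥(Subgroup.centralizer ({c} : Set G)), (d : G) ∈ D →
        QuotientGroup.mk' (pPrimeCore 2 ↥(Subgroup.centralizer ({c} : Set G))) d ∈
          Subgroup.centralizer (K : Set _)) :
    D ≤ centralizerPPrimeCore 2 c := by
  haveI : Fact (Nat.Prime 2) := ⟨Nat.prime_two⟩
  have haC : a ∈ Subgroup.centralizer ({c} : Set G) :=
    Subgroup.mem_centralizer_singleton_iff.mpr hac
  conv_rhs => rw [centralizerPPrimeCore]
  generalize hC : Subgroup.centralizer ({c} : Set G) = C at haC hDc hK ⊢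
  haveI := Transfer.pPrimeCore_normal 2 ↥C
  set f := QuotientGroup.mk' (pPrimeCore 2 ↥C) with hfdef
  have hf : Function.Surjective f := QuotientGroup.mk'_surjective _
  have hker : (Nat.card f.ker).Coprime 2 := by
    rw [hfdef, QuotientGroup.ker_mk']; exact Transfer.pPrimeCore_coprime 2
  set u : ↥C := ⟨a, haC⟩ with hu
  have hu2 : u ^ 2 = 1 := Subtype.ext ha
  have hfu2 : f u ^ 2 = 1 := by rw [← map_pow, hu2, map_one]
  set E := (centralizerPPrimeCore 2 a).subgroupOf C
  have hE : E.map f ≤ PLocal.core0 2 (Subgroup.zpowers (f u)) := by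
    refine PLocal.le_core0 (ComponentBalance.isPGroup_zpowers hfu2) ?_ ?_ ?_
    · rw [Subgroup.zpowers_eq_closure, Subgroup.centralizer_closure]
      rintro _ ⟨e, he, rfl⟩
      rw [Subgroup.mem_centralizer_singleton_iff, ← map_mul, ← map_mul]
      congr 1
      exact Subtype.ext (Subgroup.mem_centralizer_singleton_iff.mp (Subgroup.map_subtype_le _ he))
    · rw [← MonoidHom.map_zpowers, ← PSolvable.map_centralizer_eq hf hker
        (ComponentBalance.isPGroup_zpowers hu2)]
      refine le_trans (Subgroup.map_mono fun e he => ?_) (Subgroup.le_normalizer_map f)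
      have he' : (e : G) ∈ Subgroup.centralizer ({a} : Set G) :=
        Subgroup.mem_centralizer_singleton_iff.mpr
          (congrArg Subtype.val (Subgroup.mem_centralizer_iff.mp he u (Subgroup.mem_zpowers u))).symm
      refine Subgroup.mem_normalizer_fintype fun x hx => ?_
      exact (Subgroup.mem_normalizer_iff.mp (centralizerPPrimeCore_normalized a he') _).mp hx
    · refine Nat.Coprime.coprime_dvd_left (Subgroup.card_map_dvd E f) ?_
      rw [← Subgroup.card_map_of_injective C.subtype_injective, Subgroup.subgroupOf_map_subtype]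
      exact (coprime_centralizerPPrimeCore _).coprime_dvd_left (Subgroup.card_dvd_of_le inf_le_left)
  have hO := pPrimeCore_quotient_eq_bot (X := ↥C) 2
  have hDE : (D.subgroupOf C).map f ≤ PLocal.core0 2 (Subgroup.zpowers (f u)) :=
    (Subgroup.map_mono (show D.subgroupOf C ≤ E from fun d hd => hD hd)).trans hE
  have hmain : (D.subgroupOf C).map f = ⊥ := by
    refine PLocal.eq_bot_of_centralizes_components hO
      ((PLocal.coprime_core0 _).coprime_dvd_left (Subgroup.card_dvd_of_le hDE))
      (hDE.trans ((PLocal.core0_le _).trans inf_le_right)) fun K hKc => ?_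
    rintro _ ⟨d, hd, rfl⟩
    refine hK K hKc (fun g hg => PLocal.core0_le_normalizer hO
      (ComponentBalance.isPGroup_zpowers hfu2) hKc (hE ⟨g, hg, rfl⟩)) ?_ d hd
    intro e he heK g hg
    have : e = u := Subtype.ext he
    subst this
    exact PLocal.core0_le_centralizer hO hfu2 hKc (fun _ => heK) (hE ⟨g, hg, rfl⟩)
  rw [Subgroup.map_eq_bot_iff, hfdef, QuotientGroup.ker_mk'] at hmain
  have h2 := Subgroup.map_mono (f := C.subtype) hmain
  rwa [Subgroup.map_subgroupOf_eq_of_le hDc] at h2

/-- Every component is centralized by one of the four-groups. -/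
theorem separated {P Q : Subgroup G} {c : G}
    (h : ∀ E : Subgroup ↥(Subgroup.centralizer ({c} : Set G)), IsPComponent 2 E →
      ⁅E.map (Subgroup.centralizer ({c} : Set G)).subtype, P⁆ ≤ centralizerPPrimeCore 2 c ∨
        ⁅E.map (Subgroup.centralizer ({c} : Set G)).subtype, Q⁆ ≤ centralizerPPrimeCore 2 c)
    (K : Subgroup (↥(Subgroup.centralizer ({c} : Set G)) ⧸
        pPrimeCore 2 ↥(Subgroup.centralizer ({c} : Set G)))) (hK : IsComponent K) :
    (∀ x : ↥(Subgroup.centralizer ({c} : Set G)), (x : G) ∈ P →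
        QuotientGroup.mk' (pPrimeCore 2 ↥(Subgroup.centralizer ({c} : Set G))) x ∈
          Subgroup.centralizer (K : Set _)) ∨
      (∀ x : ↥(Subgroup.centralizer ({c} : Set G)), (x : G) ∈ Q →
        QuotientGroup.mk' (pPrimeCore 2 ↥(Subgroup.centralizer ({c} : Set G))) x ∈
          Subgroup.centralizer (K : Set _)) := by
  haveI : Fact (Nat.Prime 2) := ⟨Nat.prime_two⟩
  haveI := Transfer.pPrimeCore_normal 2 ↥(Subgroup.centralizer ({c} : Set G))
  have key : ∀ P : Subgroup G,
      ⁅(pComponentOf 2 K).map (Subgroup.centralizer ({c} : Set G)).subtype, P⁆ ≤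
        centralizerPPrimeCore 2 c →
      ∀ x : ↥(Subgroup.centralizer ({c} : Set G)), (x : G) ∈ P →
        QuotientGroup.mk' (pPrimeCore 2 ↥(Subgroup.centralizer ({c} : Set G))) x ∈
          Subgroup.centralizer (K : Set _) := by
    intro P hP x hx
    refine Subgroup.mem_centralizer_iff.mpr fun k hk => ?_
    rw [SetLike.mem_coe, ← map_pComponentOf hK] at hk
    obtain ⟨e, he, rfl⟩ := hk
    rw [← commutatorElement_eq_one_iff_mul_comm, ← map_commutatorElement]
    refine (QuotientGroup.eq_one_iff _).mpr ?_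
    obtain ⟨z, hz, hze⟩ := hP (Subgroup.commutator_mem_commutator
      (Subgroup.mem_map_of_mem _ he) hx)
    have : z = ⁅e, x⁆ := Subtype.ext (by
      rw [← Subgroup.coe_subtype (Subgroup.centralizer ({c} : Set G)), map_commutatorElement]
      exact hze)
    exact this ▸ hz
  exact (h _ (isPComponent_pComponentOf hK)).imp (key P) (key Q)

/-- The symmetric data of a core-separated pair. -/
structure Pair (A P Q : Subgroup G) : Prop where
  elA : IsElementaryAbelian 2 A
  leP : P ≤ A
  leQ : Q ≤ A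
  card : Nat.card P = 4
  dec : ∀ a ∈ A, ∃ u ∈ P, ∃ v ∈ Q, a = v * u
  sep : ∀ c ∈ A, c ≠ 1 → ∀ E : Subgroup ↥(Subgroup.centralizer ({c} : Set G)), IsPComponent 2 E →
    ⁅E.map (Subgroup.centralizer ({c} : Set G)).subtype, P⁆ ≤ centralizerPPrimeCore 2 c ∨
      ⁅E.map (Subgroup.centralizer ({c} : Set G)).subtype, Q⁆ ≤ centralizerPPrimeCore 2 c

namespace Pair

variable {A P Q : Subgroup G} (h : Pair A P Q)
include h

theorem comm {u v : G} (hu : u ∈ A) (hv : v ∈ A) : u * v = v * u :=
  KBalance.comm_of_mem h.elA hu hv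

theorem le_centralizer {c : G} (hc : c ∈ A) : A ≤ Subgroup.centralizer ({c} : Set G) :=
  fun _ hu => Subgroup.mem_centralizer_singleton_iff.mpr (h.comm hu hc)

theorem norm_core {c : G} (hc : c ∈ A) :
    A ≤ Subgroup.normalizer (centralizerPPrimeCore 2 c : Set G) :=
  (h.le_centralizer hc).trans (centralizerPPrimeCore_normalized c)

theorem elP : IsElementaryAbelian 2 P :=
  ⟨⟨⟨fun u v => Subtype.ext (h.comm (h.leP u.2) (h.leP v.2))⟩⟩, fun u hu => h.elA.2 u (h.leP hu)⟩

theorem coprime {X : Subgroup G} {c : G} (hX : X ≤ centralizerPPrimeCore 2 c) :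
    (Nat.card P).Coprime (Nat.card X) := by
  haveI : Fact (Nat.Prime 2) := ⟨Nat.prime_two⟩
  rw [h.card]
  exact (((coprime_centralizerPPrimeCore c).coprime_dvd_left
    (Subgroup.card_dvd_of_le hX)).symm.pow_left 2)

theorem solvP : Group.IsSolvable P := by
  haveI := h.elP.1
  exact isSolvable_of_isMulCommutative P

theorem le_normalizer_cCore : A ≤ Subgroup.normalizer (cCore P : Set G) :=
  (KBalance.le_centralizer_of_le h.elA h.leP).trans (cCore_normalized P)

theorem norm_part {a : G} (ha : a ∈ A) : A ≤ Subgroup.normalizer (part P a : Set G) :=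
  le_normalizer_sup_of_le
    (le_normalizer_commutator (h.norm_core ha)
      ((KBalance.le_centralizer_of_le h.elA h.leP).trans (Subgroup.centralizer_le_normalizer _)))
    (le_normalizer_inf_of_le (h.norm_core ha) h.le_normalizer_cCore)

theorem part_le_core {a : G} (ha : a ∈ A) : part P a ≤ centralizerPPrimeCore 2 a :=
  sup_le (commutator_le_left_of_le_normalizer (h.leP.trans (h.norm_core ha))) inf_le_left

/-- `[O(C(a)) ∩ C(c), P] ≤ O(C(c))` for `c ∈ P`. -/
theorem commutator_piece {a c : G} (ha : a ∈ A) (hc : c ∈ P) (hc1 : c ≠ 1) :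
    ⁅centralizerPPrimeCore 2 a ⊓ Subgroup.centralizer ({c} : Set G), P⁆ ≤
      centralizerPPrimeCore 2 c := by
  set D := centralizerPPrimeCore 2 a ⊓ Subgroup.centralizer ({c} : Set G) with hD
  have hAD : A ≤ Subgroup.normalizer (D : Set G) :=
    le_normalizer_inf_of_le (h.norm_core ha) ((h.le_centralizer (h.leP hc)).trans Subgroup.le_normalizer)
  have hDD : ⁅D, P⁆ ≤ D := commutator_le_left_of_le_normalizer (h.leP.trans hAD)
  refine mem_core_of_components (h.elA.2 a ha) (h.comm ha (h.leP hc)) (hDD.trans inf_le_left)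
    (hDD.trans inf_le_right) fun K hK hN hcen w hw => ?_
  set f := QuotientGroup.mk' (pPrimeCore 2 ↥(Subgroup.centralizer ({c} : Set G))) with hf
  set T := ((Subgroup.centralizer (K : Set _)).comap f).map
    (Subgroup.centralizer ({c} : Set G)).subtype with hT
  have key : ∀ (d x : G), d ∈ D → x ∈ P → ⁅d, x⁆ ∈ T := by
    intro d x hd hx
    have hxC : x ∈ Subgroup.centralizer ({c} : Set G) :=
      h.le_centralizer (h.leP hc) (h.leP hx)
    set d' : ↥(Subgroup.centralizer ({c} : Set G)) := ⟨d, hd.2⟩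
    set x' : ↥(Subgroup.centralizer ({c} : Set G)) := ⟨x, hxC⟩
    have hdN := mem_normalizer_centralizer (hN d' hd.1)
    refine ⟨⁅d', x'⁆, ?_, rfl⟩
    rw [SetLike.mem_coe, Subgroup.mem_comap, map_commutatorElement]
    rcases separated (h.sep c (h.leP hc) hc1) K hK with hP | hQ
    · exact comm_mem_of_normalized hdN (hP x' hx)
    obtain ⟨u, hu, v, hv, rfl⟩ := h.dec a ha
    set a' : ↥(Subgroup.centralizer ({c} : Set G)) := ⟨v * u, h.le_centralizer (h.leP hc) ha⟩
    by_cases haK : f a' ∈ Subgroup.centralizer (K : Set _)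
    · have h1 : f (x' * d'⁻¹ * x'⁻¹) ∈ Subgroup.centralizer (K : Set _) := hcen a' rfl haK _
        ((Subgroup.mem_normalizer_iff.mp (h.norm_core ha (h.leP hx)) d⁻¹).mp (inv_mem hd.1))
      have h2 := mul_mem (hcen a' rfl haK d' hd.1) h1
      rw [← map_mul] at h2
      rw [← map_commutatorElement, show ⁅d', x'⁆ = d' * (x' * d'⁻¹ * x'⁻¹) by
        rw [commutatorElement_def]; group]
      exact h2
    set c' : ↥(Subgroup.centralizer ({c} : Set G)) :=
      ⟨c, h.le_centralizer (h.leP hc) (h.leP hc)⟩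
    set u' : ↥(Subgroup.centralizer ({c} : Set G)) :=
      ⟨u, h.le_centralizer (h.leP hc) (h.leP hu)⟩
    set v' : ↥(Subgroup.centralizer ({c} : Set G)) :=
      ⟨v, h.le_centralizer (h.leP hc) (h.leQ hv)⟩
    have hcc : ∀ g : ↥(Subgroup.centralizer ({c} : Set G)), c' * g = g * c' := fun g =>
      Subtype.ext (Subgroup.mem_centralizer_singleton_iff.mp g.2).symm
    have hcK : f c' ∈ Subgroup.centralizer (K : Set _) := by
      refine Subgroup.mem_centralizer_iff.mpr fun k _ => ?_
      obtain ⟨g, rfl⟩ := QuotientGroup.mk'_surjective _ k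
      show f g * f c' = f c' * f g
      rw [← map_mul, ← map_mul, hcc]
    have huC : f u' ∉ Subgroup.centralizer (K : Set _) := fun hh => haK (by
      rw [show a' = v' * u' from rfl, map_mul]
      exact mul_mem (hQ v' hv) hh)
    have hu1 : u ≠ 1 := fun e => huC (by
      rw [show u' = 1 from Subtype.ext e, map_one]; exact one_mem _)
    have huc : u ≠ c := fun e => huC (by
      rw [show u' = c' from Subtype.ext e]; exact hcK)
    have hall : x = 1 ∨ x = c ∨ x = u ∨ x = c * u := by
      by_contra hne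
      push Not at hne
      classical
      haveI := Fintype.ofFinite ↥P
      have h5 : ({1, ⟨c, hc⟩, ⟨u, hu⟩, ⟨c * u, mul_mem hc hu⟩, ⟨x, hx⟩} : Finset ↥P).card = 5 := by
        have hcu1 : c * u ≠ 1 := fun e => huc (by
          rw [← inv_eq_of_mul_eq_one_right e]
          exact inv_eq_of_mul_eq_one_right (by rw [← pow_two]; exact h.elP.2 c hc))
        have hcuc : c * u ≠ c := fun e => hu1 (by simpa using e)
        have hcuu : c * u ≠ u := fun e => hc1 (by simpa using e)
        rw [Finset.card_insert_of_notMem, Finset.card_insert_of_notMem,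
          Finset.card_insert_of_notMem, Finset.card_insert_of_notMem, Finset.card_singleton] <;>
          simp [Subtype.ext_iff, hc1.symm, hu1.symm, huc.symm, hcu1.symm, hcuc.symm, hcuu.symm,
            Ne.symm hne.1, Ne.symm hne.2.1, Ne.symm hne.2.2.1, Ne.symm hne.2.2.2]
      have h6 := Finset.card_le_univ ({1, ⟨c, hc⟩, ⟨u, hu⟩, ⟨c * u, mul_mem hc hu⟩, ⟨x, hx⟩} : Finset ↥P)
      rw [h5, ← Nat.card_eq_fintype_card, h.card] at h6
      omega
    have hdu : ⁅f d', f u'⁆ ∈ Subgroup.centralizer (K : Set _) := by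
      have hcomm : ⁅f d', f a'⁆ = 1 := by
        rw [← map_commutatorElement, show ⁅d', a'⁆ = 1 from ?_, map_one]
        exact commutatorElement_eq_one_iff_mul_comm.mpr (Subtype.ext
          (Subgroup.mem_centralizer_singleton_iff.mp (Subgroup.map_subtype_le _ hd.1)))
      have hu' : f u' = f v' * f a' := by
        rw [← map_mul]
        refine congrArg f (Subtype.ext ?_)
        show u = v * (v * u)
        rw [← mul_assoc, ← pow_two, h.elA.2 v (h.leQ hv), one_mul]
      rw [hu', show ⁅f d', f v' * f a'⁆ = ⁅f d', f v'⁆ * (f v' * ⁅f d', f a'⁆ * (f v')⁻¹) by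
        simp only [commutatorElement_def]; group, hcomm, mul_one, mul_inv_cancel, mul_one]
      exact comm_mem_of_normalized hdN (hQ v' hv)
    have hdc : ⁅f d', f c'⁆ = 1 := by
      rw [← map_commutatorElement, commutatorElement_eq_one_iff_mul_comm.mpr (hcc d').symm, map_one]
    rcases hall with e | e | e | e
    · rw [show x' = 1 from Subtype.ext e, map_one, commutatorElement_one_right]
      exact one_mem _
    · rw [show x' = c' from Subtype.ext e, hdc]
      exact one_mem _
    · rw [show x' = u' from Subtype.ext e]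
      exact hdu
    · rw [show x' = c' * u' from Subtype.ext e, map_mul,
        show ⁅f d', f c' * f u'⁆ = ⁅f d', f c'⁆ * (f c' * ⁅f d', f u'⁆ * (f c')⁻¹) by
          simp only [commutatorElement_def]; group, hdc, one_mul]
      exact mul_mem (mul_mem hcK hdu) (inv_mem hcK)
  have hle : ⁅D, P⁆ ≤ T := Subgroup.commutator_le.mpr fun d hd x hx => key d x hd hx
  obtain ⟨z, hz, hze⟩ := hle hw
  rw [show z = w from Subtype.ext hze] at hz
  exact hz

/-- `C_{X}(P) ≤ O(C(P))` for the factor `X`. -/
theorem part_inf_centralizer_le {a : G} (ha : a ∈ A) :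
    part P a ⊓ Subgroup.centralizer (P : Set G) ≤ cCore P := by
  haveI : Fact (Nat.Prime 2) := ⟨Nat.prime_two⟩
  set O := centralizerPPrimeCore 2 a with hO
  set Y := ⁅O, P⁆ with hY
  have hPO : P ≤ Subgroup.normalizer (O : Set G) := h.leP.trans (h.norm_core ha)
  have hYO : Y ≤ O := commutator_le_left_of_le_normalizer hPO
  have hsol := h.solvP
  have hYY : ⁅Y, P⁆ = Y := commutator_commutator_eq hPO (h.coprime le_rfl) (Or.inl hsol)
  have hOn : O ≤ Subgroup.normalizer (Y : Set G) := le_normalizer_commutator_left O P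
  refine (CommutatorFixed.fixed_sup_le (inf_le_left.trans hOn)
    (le_normalizer_commutator hPO Subgroup.le_normalizer)
    (le_normalizer_inf_of_le hPO (h.leP.trans h.le_normalizer_cCore))
    (h.coprime inf_le_left) hsol).trans (sup_le ?_ (inf_le_left.trans inf_le_right))
  haveI := h.elP.1
  have hYsol : Group.IsSolvable Y := CfsgLib.OddOrder.odd_order_solvable
    (Nat.coprime_two_right.mp
      ((coprime_centralizerPPrimeCore a).coprime_dvd_left (Subgroup.card_dvd_of_le hYO)))
  rw [CommutatorFixed.fixed_le_iSup (A := P) (B := P) le_rfl (h.coprime hYO)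
    (le_normalizer_commutator hPO Subgroup.le_normalizer) hYY hYsol]
  refine iSup_le fun B₀ => ?_
  obtain ⟨c, hc, hc1⟩ := exists_ne_one_of_ne_bot (H := (B₀ : Subgroup G)) (fun hbot => by
    haveI hn : ((B₀ : Subgroup G).subgroupOf P).Normal := by
      rw [hbot, Subgroup.bot_subgroupOf]; infer_instance
    haveI hcyc := B₀.2.2
    have hcyc' : IsCyclic ↥P := by
      have e : (↥P ⧸ (B₀ : Subgroup G).subgroupOf P) ≃* ↥P :=
        (QuotientGroup.quotientMulEquivOfEq (by rw [hbot, Subgroup.bot_subgroupOf])).trans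
          QuotientGroup.quotientBot
      exact e.isCyclic.mp hcyc
    exact not_isCyclic_of_exponent (p := 2) (fun u hu => h.elP.2 u hu) two_pos
      (by rw [h.card]; norm_num) hcyc')
  have hcP : c ∈ P := B₀.2.1 hc
  have h1 : ⁅Y ⊓ Subgroup.centralizer ((B₀ : Subgroup G) : Set G), P⁆ ≤ centralizerPPrimeCore 2 c :=
    (Subgroup.commutator_mono
      (inf_le_inf hYO (Subgroup.centralizer_le (by simpa using hc))) le_rfl).trans
      (h.commutator_piece ha hcP hc1)
  have hle : Subgroup.centralizer (P : Set G) ≤ Subgroup.centralizer ({c} : Set G) :=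
    Subgroup.centralizer_le (by simpa using hcP)
  refine (le_inf (inf_le_right.trans h1) (inf_le_left.trans inf_le_right)).trans
    (le_cCore inf_le_right
      (le_normalizer_inf_of_le (hle.trans (centralizerPPrimeCore_normalized c))
        Subgroup.le_normalizer)
      ((coprime_centralizerPPrimeCore c).coprime_dvd_left (Subgroup.card_dvd_of_le inf_le_left)))

/-- An element of `O(C(P))` acts trivially on a component centralized by `P`. -/
theorem cCore_centralizes {b : G} (hb : b ∈ A)
    (K : Subgroup (↥(Subgroup.centralizer ({b} : Set G)) ⧸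
        pPrimeCore 2 ↥(Subgroup.centralizer ({b} : Set G)))) (hK : IsComponent K)
    (hP : ∀ x : ↥(Subgroup.centralizer ({b} : Set G)), (x : G) ∈ P →
        QuotientGroup.mk' (pPrimeCore 2 ↥(Subgroup.centralizer ({b} : Set G))) x ∈
          Subgroup.centralizer (K : Set _))
    {y : ↥(Subgroup.centralizer ({b} : Set G))} (hy : (y : G) ∈ cCore P)
    (hyK : QuotientGroup.mk' (pPrimeCore 2 ↥(Subgroup.centralizer ({b} : Set G))) y ∈
      Subgroup.normalizer (K : Set _)) :
    QuotientGroup.mk' (pPrimeCore 2 ↥(Subgroup.centralizer ({b} : Set G))) y ∈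
      Subgroup.centralizer (K : Set _) := by
  haveI : Fact (Nat.Prime 2) := ⟨Nat.prime_two⟩
  have hPb : P ≤ Subgroup.centralizer ({b} : Set G) := h.leP.trans (h.le_centralizer hb)
  generalize hC : Subgroup.centralizer ({b} : Set G) = C at hPb K hK hP y hy hyK ⊢
  haveI := Transfer.pPrimeCore_normal 2 ↥C
  set f := QuotientGroup.mk' (pPrimeCore 2 ↥C) with hfdef
  have hker : (Nat.card f.ker).Coprime 2 := by
    rw [hfdef, QuotientGroup.ker_mk']; exact Transfer.pPrimeCore_coprime 2
  have hPp : IsPGroup 2 ↥(P.subgroupOf C) :=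
    (IsPGroup.of_card (n := 2) (by rw [h.card]; norm_num)).comap_of_injective C.subtype
      C.subtype_injective
  set E := ((cCore P).subgroupOf C).map f ⊓ Subgroup.normalizer (K : Set _) with hE
  have hKE : K ≤ Subgroup.normalizer (E : Set _) := by
    refine le_normalizer_inf_of_le ?_ (Subgroup.le_normalizer.trans Subgroup.le_normalizer)
    have h1 : K ≤ Subgroup.centralizer (((P.subgroupOf C).map f : Subgroup _) : Set _) := by
      rw [Subgroup.le_centralizer_iff]
      rintro _ ⟨x, hx, rfl⟩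
      exact hP x hx
    refine h1.trans ?_
    rw [← PSolvable.map_centralizer_eq (QuotientGroup.mk'_surjective _) hker hPp]
    refine le_trans (Subgroup.map_mono fun e he => ?_) (Subgroup.le_normalizer_map f)
    refine Subgroup.mem_normalizer_fintype fun z hz => ?_
    have he' : (e : G) ∈ Subgroup.centralizer (P : Set G) := fun x hx =>
      congrArg Subtype.val (Subgroup.mem_centralizer_iff.mp he ⟨x, hPb hx⟩ hx)
    exact (Subgroup.mem_normalizer_iff.mp (cCore_normalized P he') _).mp hz
  have hEc : (Nat.card E).Coprime 2 := by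
    refine Nat.Coprime.coprime_dvd_left ((Subgroup.card_dvd_of_le inf_le_left).trans
      (Subgroup.card_map_dvd _ f)) ?_
    rw [← Subgroup.card_map_of_injective C.subtype_injective, Subgroup.subgroupOf_map_subtype]
    exact (cCore_coprime P).coprime_dvd_left (Subgroup.card_dvd_of_le inf_le_left)
  exact PLocal.le_centralizer_of_lift (pPrimeCore_quotient_eq_bot 2) hK hEc inf_le_right
    (fun k hk => ⟨1, one_mem _, by rw [mul_one]; exact hKE hk⟩) ⟨⟨y, hy, rfl⟩, hyK⟩

end Pair

/-- The functor. -/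
theorem isSignalizerFunctor {A₁ A₂ : Subgroup G} (hcs : IsCoreSeparated A₁ A₂) :
    IsSignalizerFunctor 2 (A₁ ⊔ A₂) (fun a => part A₁ a ⊓ part A₂ a) := by
  haveI : Fact (Nat.Prime 2) := ⟨Nat.prime_two⟩
  obtain ⟨h1, h2, hc1, hc2, -, -, hcomm, hsep⟩ := hcs
  have hn : A₂ ≤ Subgroup.normalizer (A₁ : Set G) := fun v hv =>
    Subgroup.centralizer_le_normalizer _ fun u hu => hcomm u hu v hv
  have hdec : ∀ a ∈ A₁ ⊔ A₂, ∃ u ∈ A₁, ∃ v ∈ A₂, u * v = a := fun a ha => by
    rw [← SetLike.mem_coe, Subgroup.coe_mul_of_right_le_normalizer_left A₁ A₂ hn, Set.mem_mul] at ha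
    obtain ⟨u, hu, v, hv, e⟩ := ha
    exact ⟨u, hu, v, hv, e⟩
  have hA : IsElementaryAbelian 2 (A₁ ⊔ A₂) :=
    RankTwoComponent.isElementary_sup h1 h2 hcomm
  have pr₁ : Pair (A₁ ⊔ A₂) A₁ A₂ := ⟨hA, le_sup_left, le_sup_right, hc1, fun a ha => by
    obtain ⟨u, hu, v, hv, e⟩ := hdec a ha
    exact ⟨u, hu, v, hv, e.symm.trans (hcomm u hu v hv)⟩, hsep⟩
  have pr₂ : Pair (A₁ ⊔ A₂) A₂ A₁ := ⟨hA, le_sup_right, le_sup_left, hc2, fun a ha => by
    obtain ⟨u, hu, v, hv, e⟩ := hdec a ha
    exact ⟨v, hv, u, hu, e.symm⟩, fun c hc hc' E hE => (hsep c hc hc' E hE).symm⟩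
  have hcore : ∀ a ∈ A₁ ⊔ A₂, part A₁ a ⊓ part A₂ a ≤ centralizerPPrimeCore 2 a :=
    fun a ha => inf_le_left.trans (pr₁.part_le_core ha)
  have hnorm : ∀ a ∈ A₁ ⊔ A₂, A₁ ⊔ A₂ ≤
      Subgroup.normalizer ((part A₁ a ⊓ part A₂ a : Subgroup G) : Set G) :=
    fun a ha => le_normalizer_inf_of_le (pr₁.norm_part ha) (pr₂.norm_part ha)
  refine ⟨fun a ha _ => (hcore a ha).trans (Subgroup.map_subtype_le _), fun a ha _ hd => ?_,
    fun a ha _ b hb x hx => (Subgroup.mem_normalizer_iff.mp (hnorm a ha hb) x).mp hx,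
    fun a ha ha1 b hb hb1 => ?_⟩
  · exact absurd (Nat.eq_one_of_dvd_coprimes ((coprime_centralizerPPrimeCore a).coprime_dvd_left
      (Subgroup.card_dvd_of_le (hcore a ha))) hd dvd_rfl) (by norm_num)
  set D := (part A₁ a ⊓ part A₂ a) ⊓ Subgroup.centralizer ({b} : Set G) with hD
  have hAD : A₁ ⊔ A₂ ≤ Subgroup.normalizer (D : Set G) :=
    le_normalizer_inf_of_le (hnorm a ha) ((pr₁.le_centralizer hb).trans Subgroup.le_normalizer)
  have hDa : D ≤ centralizerPPrimeCore 2 a := inf_le_left.trans (hcore a ha)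
  have hsplit : ∀ P Q : Subgroup G, Pair (A₁ ⊔ A₂) P Q →
      D ≤ ⁅D, P⁆ ⊔ (D ⊓ Subgroup.centralizer (P : Set G)) := fun P Q pr =>
    (commutator_sup_centralizer (pr.leP.trans hAD) (pr.coprime hDa) (Or.inl pr.solvP)).ge
  have hb' : D ≤ centralizerPPrimeCore 2 b := by
    refine mem_core_of_components (hA.2 a ha) (pr₁.comm ha hb) hDa inf_le_right
      fun K hK hN _ w hw => ?_
    set f := QuotientGroup.mk' (pPrimeCore 2 ↥(Subgroup.centralizer ({b} : Set G))) with hf
    have main : ∀ P Q : Subgroup G, Pair (A₁ ⊔ A₂) P Q → D ≤ part P a →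
        (∀ x : ↥(Subgroup.centralizer ({b} : Set G)), (x : G) ∈ P →
          f x ∈ Subgroup.centralizer (K : Set _)) → f w ∈ Subgroup.centralizer (K : Set _) := by
      intro P Q pr hDP hP
      set T := ((Subgroup.centralizer (K : Set _)).comap f).map
        (Subgroup.centralizer ({b} : Set G)).subtype with hT
      have hle : D ≤ T := by
        refine (hsplit P Q pr).trans (sup_le ?_ ?_)
        · refine Subgroup.commutator_le.mpr fun d hd x hx => ?_
          have hdN := mem_normalizer_centralizer (hN ⟨d, hd.2⟩ (hDa hd))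
          refine ⟨⁅(⟨d, hd.2⟩ : ↥(Subgroup.centralizer ({b} : Set G))),
            ⟨x, pr.le_centralizer hb (pr.leP hx)⟩⁆, ?_, rfl⟩
          rw [SetLike.mem_coe, Subgroup.mem_comap, map_commutatorElement]
          exact comm_mem_of_normalized hdN (hP _ hx)
        · rintro d ⟨hd, hdP⟩
          exact ⟨⟨d, hd.2⟩, pr.cCore_centralizes hb K hK hP
            (pr.part_inf_centralizer_le ha ⟨hDP hd, hdP⟩) (hN ⟨d, hd.2⟩ (hDa hd)), rfl⟩
      obtain ⟨z, hz, hze⟩ := hle hw
      rw [show z = w from Subtype.ext hze] at hz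
      exact hz
    rcases separated (hsep b hb hb1) K hK with hP | hQ
    · exact main A₁ A₂ pr₁ (inf_le_left.trans inf_le_left) hP
    · exact main A₂ A₁ pr₂ (inf_le_left.trans inf_le_right) hQ
  have fin : ∀ P Q : Subgroup G, Pair (A₁ ⊔ A₂) P Q → D ≤ part P a → D ≤ part P b :=
    fun P Q pr hDP => (hsplit P Q pr).trans (sup_le_sup (Subgroup.commutator_mono hb' le_rfl)
      (le_inf (inf_le_left.trans hb')
        ((inf_le_inf_right _ hDP).trans (pr.part_inf_centralizer_le ha))))
  exact le_inf (fin A₁ A₂ pr₁ (inf_le_left.trans inf_le_left))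
    (fin A₂ A₁ pr₂ (inf_le_left.trans inf_le_right))

end CfsgLib.Signalizer.CoreSeparated
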