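import Mathlib
import Cfsg.Prelude.Def_Local
import Cfsg.Agent.Lib.Signalizer.CoreBalance
import Cfsg.Agent.Lib.Signalizer.Connected
import Cfsg.Agent.Lib.OddConseq.Unconditional
import Cfsg.Agent.S0502

/-!
The odd subgroup generated by the cores of involution centralizers, when all 2-locals are
2-constrained and a Sylow 2-subgroup has a normal elementary abelian subgroup of order 8.
-/

set_option autoImplicit false
set_option linter.style.haveILetI false
set_option linter.unusedSectionVars false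

open CfsgLib.Coprime

namespace CfsgLib.Signalizer.CoreSubgroup

variable {G : Type*} [Group G] [Finite G]

local notation "θ" => Cfsg.centralizerPPrimeCore 2

/-- Every involution centralizer is 2-constrained. -/
def ConstrainedCentralizers (G : Type*) [Group G] : Prop :=
  ∀ t : G, orderOf t = 2 → Cfsg.IsPConstrained 2 ↥(Subgroup.centralizer ({t} : Set G))

theorem zpowers_eq_of_two {t : G} (ht : orderOf t = 2) {u : G} (hu : u ∈ Subgroup.zpowers t) :
    u = 1 ∨ u = t := by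
  obtain ⟨k, rfl⟩ := hu
  have h2 : t ^ (2 : ℤ) = 1 := by
    rw [show (2 : ℤ) = ((2 : ℕ) : ℤ) from rfl, zpow_natCast, ← ht, pow_orderOf_eq_one]
  rcases Int.even_or_odd k with ⟨m, rfl⟩ | ⟨m, rfl⟩
  · exact Or.inl (by show t ^ (m + m) = 1; rw [← two_mul, zpow_mul, h2, one_zpow])
  · exact Or.inr (by show t ^ (2 * m + 1) = t; rw [zpow_add, zpow_mul, h2, one_zpow, one_mul, zpow_one])

theorem centralizer_eq_normalizer {t : G} (ht : orderOf t = 2) :
    Subgroup.centralizer ({t} : Set G) = Subgroup.normalizer (Subgroup.zpowers t : Set G) := by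
  have ht1 : t ≠ 1 := by rintro rfl; simp at ht
  ext g
  rw [Subgroup.mem_centralizer_singleton_iff]
  refine ⟨fun h => ?_, fun h => ?_⟩
  · refine Subgroup.centralizer_le_normalizer _ ?_
    rintro _ ⟨k, rfl⟩
    exact ((show Commute t g from h.symm).zpow_left k).eq
  · rcases zpowers_eq_of_two ht ((Subgroup.mem_normalizer_iff.mp h t).mp
      (Subgroup.mem_zpowers t)) with h1 | h1
    · exact absurd (conj_eq_one_iff.mp h1) ht1
    · exact mul_inv_eq_iff_eq_mul.mp h1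

theorem constrainedCentralizers_of_locals
    (h2c : ∀ T : Subgroup G, IsPGroup 2 T → T ≠ ⊥ →
      Cfsg.IsPConstrained 2 ↥(Subgroup.normalizer (T : Set G))) :
    ConstrainedCentralizers G := fun t ht => by
  rw [centralizer_eq_normalizer ht]
  refine h2c _ (IsPGroup.of_card (n := 1) (by rw [Nat.card_zpowers, ht, pow_one])) fun h => ?_
  rw [Subgroup.zpowers_eq_bot] at h
  rw [h, orderOf_one] at ht
  exact absurd ht (by norm_num)

theorem odd_theta (x : G) : Odd (Nat.card ↥(θ x)) :=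
  Nat.coprime_two_right.mp (coprime_centralizerPPrimeCore x)

/-- The values of `θ` at the non-identity elements of `E`. -/
def closure (E : Subgroup G) : Subgroup G := ⨆ b : {b : G // b ∈ E ∧ b ≠ 1}, θ (b : G)

theorem theta_le_closure {E : Subgroup G} {b : G} (hb : b ∈ E) (hb1 : b ≠ 1) :
    θ b ≤ closure E :=
  le_iSup_of_le (f := fun c : {c : G // c ∈ E ∧ c ≠ 1} => θ (c : G)) ⟨b, hb, hb1⟩ le_rfl

theorem isSolvableSignalizerFunctor (hc : ConstrainedCentralizers G) {A : Subgroup G}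
    (hA : Cfsg.IsElementaryAbelian 2 A) :
    Cfsg.IsSolvableSignalizerFunctor 2 A (Cfsg.centralizerPPrimeCore 2 : G → Subgroup G) := by
  have hcomm : ∀ b ∈ A, ∀ c ∈ A, b * c = c * b := fun b hb c hc =>
    congrArg Subtype.val (hA.1.is_comm.comm (⟨b, hb⟩ : A) ⟨c, hc⟩)
  refine ⟨⟨fun a _ _ => Subgroup.map_subtype_le _, fun a _ _ => ?_,
    fun a ha _ b hb g hg => ?_, fun a ha _ b hb hb1 => ?_⟩, fun a _ _ => ?_⟩
  · exact (Nat.Prime.coprime_iff_not_dvd Nat.prime_two).mp (coprime_centralizerPPrimeCore a).symm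
  · exact forall_of_le_normalizer (centralizerPPrimeCore_normalized a) b
      (Subgroup.mem_centralizer_singleton_iff.mpr (hcomm b hb a ha)) g hg
  · refine centralizerPPrimeCore_balance (hcomm a ha b hb) (hA.2 a ha) (hc b ?_)
    exact orderOf_eq_prime (hA.2 b hb) hb1
  · exact CfsgLib.OddConseq.oddSolvable _ (odd_theta a)

/-- Any four subgroup of an elementary abelian subgroup of order at least 8 gives the same closure,
and this closure has odd order. -/
theorem closure_eq (hc : ConstrainedCentralizers G) {A E : Subgroup G}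
    (hA : Cfsg.IsElementaryAbelian 2 A) (hA3 : 2 ^ 3 ≤ Nat.card A) (hEA : E ≤ A)
    (hE2 : 2 ^ 2 ≤ Nat.card E) : closure E = closure A ∧ Odd (Nat.card ↥(closure A)) := by
  have hθ := isSolvableSignalizerFunctor hc hA
  obtain ⟨X, -, hXp, hX⟩ := hasCover hA hA3 hθ
  have hle : closure A ≤ X := iSup_le fun b => (hX b b.2.1 b.2.2).1
  have hWp : ¬ 2 ∣ Nat.card ↥(closure A) := fun hd =>
    hXp (hd.trans (Subgroup.card_dvd_of_le hle))
  refine ⟨le_antisymm (iSup_le fun b => theta_le_closure (hEA b.2.1) b.2.2) ?_,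
    Nat.not_even_iff_odd.mp fun he => hWp (even_iff_two_dvd.mp he)⟩
  haveI : IsMulCommutative E := ⟨⟨fun u v => Subtype.ext (congrArg Subtype.val
    (hA.1.is_comm.comm (⟨u, hEA u.2⟩ : A) ⟨v, hEA v.2⟩) :)⟩⟩
  refine le_of_centralizer_le (not_isCyclic_of_exponent (fun c hc => hA.2 c (hEA hc)) two_pos
    (lt_of_lt_of_le (by norm_num) hE2)) (hEA.trans (le_normalizer_iSup fun b =>
      mem_normalizer_family (theta_mem_family hθ b.2.1 b.2.2)))
    ((coprime_card hA hWp).coprime_dvd_left (Subgroup.card_dvd_of_le hEA)) fun c hc hc1 => ?_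
  exact ((hX c (hEA hc) hc1).2).trans (theta_le_closure hc hc1)

theorem elementary_map {H : Type*} [Group H] (f : H →* G) {U : Subgroup H}
    (hU : ∀ a ∈ U, ∀ b ∈ U, a * b = b * a) (hU2 : ∀ a ∈ U, a ^ 2 = 1) :
    Cfsg.IsElementaryAbelian 2 (U.map f) := by
  refine ⟨⟨⟨fun u v => Subtype.ext ?_⟩⟩, fun c hc => ?_⟩
  · obtain ⟨b, hb, hbe⟩ := u.2
    obtain ⟨c, hc, hce⟩ := v.2
    show (u : G) * v = v * u
    rw [← hbe, ← hce, ← map_mul, ← map_mul, hU b hb c hc]
  · obtain ⟨b, hb, rfl⟩ := hc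
    rw [← map_pow, hU2 b hb, map_one]

theorem four_spec {H : Type*} [Group H] {U : Subgroup H} (hU : IsKleinFour U) :
    (∀ a ∈ U, ∀ b ∈ U, a * b = b * a) ∧ (∀ a ∈ U, a ^ 2 = 1) := by
  haveI : IsMulCommutative U := IsKleinFour.isMulCommutative
  refine ⟨fun a ha b hb => congrArg Subtype.val
    ((IsMulCommutative.is_comm (M := U)).comm ⟨a, ha⟩ ⟨b, hb⟩), fun a ha => ?_⟩
  have h := Monoid.pow_exponent_eq_one (⟨a, ha⟩ : U)
  rw [hU.exponent_two] at h
  simpa using congrArg Subtype.val h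

/-- The core subgroup attached to a Sylow 2-subgroup with a normal elementary abelian subgroup
of order at least 8. -/
theorem exists_core (hc : ConstrainedCentralizers G) (P : Sylow 2 G) (E : Subgroup ↥(P : Subgroup G))
    [E.Normal] (hEc : IsMulCommutative E) (hE2 : ∀ e ∈ E, e ^ 2 = 1) (hE8 : 8 ≤ Nat.card E) :
    ∃ W : Subgroup G, Odd (Nat.card ↥W) ∧
      ∀ B : Subgroup G, B ≤ (P : Subgroup G) → ¬ Cfsg.PRankLE 2 1 ↥B →
        W = closure B ∧ Subgroup.normalizer (B : Set G) ≤ Subgroup.normalizer (W : Set G) := by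
  classical
  have hP : IsPGroup 2 ↥(P : Subgroup G) := P.isPGroup'
  have hconn := Cfsg.Agent.S0502.result hP E hEc hE2 hE8
  set ι := (P : Subgroup G).subtype with hι
  have hEel : Cfsg.IsElementaryAbelian 2 (E.map ι) := elementary_map ι
    (fun a ha b hb => congrArg Subtype.val (hEc.is_comm.comm (⟨a, ha⟩ : E) ⟨b, hb⟩)) hE2
  have hcard : ∀ U : Subgroup ↥(P : Subgroup G), Nat.card (U.map ι) = Nat.card U := fun U =>
    Subgroup.card_map_of_injective (Subgroup.subtype_injective _)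
  have hE3 : 2 ^ 3 ≤ Nat.card (E.map ι) := by rw [hcard]; exact hE8
  obtain ⟨-, hWodd⟩ := closure_eq hc hEel hE3 le_rfl
    (le_trans (by norm_num) hE3)
  refine ⟨closure (E.map ι), hWodd, ?_⟩
  -- adjacent four subgroups give equal closures
  have hfour : ∀ U : Subgroup ↥(P : Subgroup G), IsKleinFour U →
      Cfsg.IsElementaryAbelian 2 (U.map ι) ∧ 2 ^ 2 ≤ Nat.card (U.map ι) := fun U hU =>
    ⟨elementary_map ι (four_spec hU).1 (four_spec hU).2, by rw [hcard, hU.card_four]; norm_num⟩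
  have hadj : ∀ A C : Subgroup G, Cfsg.IsElementaryAbelian 2 A → Cfsg.IsElementaryAbelian 2 C →
      2 ^ 2 ≤ Nat.card A → 2 ^ 2 ≤ Nat.card C → (∀ a ∈ A, ∀ c ∈ C, a * c = c * a) →
      closure A = closure C := by
    intro A C hA hC hA2 hC2 hcomm
    have hel := elementary_sup hA hC hcomm
    by_cases h3 : 2 ^ 3 ≤ Nat.card ↥(A ⊔ C)
    · rw [(closure_eq hc hel h3 le_sup_left hA2).1, (closure_eq hc hel h3 le_sup_right hC2).1]
    · obtain ⟨n, hn⟩ := IsPGroup.iff_card.mp (show IsPGroup 2 ↥(A ⊔ C) from fun b =>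
        ⟨1, Subtype.ext (by rw [pow_one]; exact hel.2 b b.2)⟩)
      rw [hn, Nat.pow_le_pow_iff_right one_lt_two] at h3
      have hle2 : Nat.card ↥(A ⊔ C) ≤ 2 ^ 2 := by
        rw [hn]; exact Nat.pow_le_pow_right two_pos (by omega)
      rw [Subgroup.eq_of_le_of_card_ge (le_sup_left : A ≤ A ⊔ C) (hle2.trans hA2),
        ← Subgroup.eq_of_le_of_card_ge (le_sup_right : C ≤ A ⊔ C) (hle2.trans hC2)]
  obtain ⟨e₁, e₂, h₁, h₂, h₁1, h₂1, h₁₂⟩ : ∃ e₁ e₂ : ↥(P : Subgroup G),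
      e₁ ∈ E ∧ e₂ ∈ E ∧ e₁ ≠ 1 ∧ e₂ ≠ 1 ∧ e₁ ≠ e₂ := by
    obtain ⟨⟨a, ha⟩, ha1⟩ := @exists_ne E (Finite.one_lt_card_iff_nontrivial.mp (by omega)) 1
    obtain ⟨b, hb, hb'⟩ : ∃ b ∈ (E : Set ↥(P : Subgroup G)), b ∉ ({1, a} : Set ↥(P : Subgroup G)) :=
      Set.exists_mem_notMem_of_ncard_lt_ncard (by
        rw [← Nat.card_coe_set_eq (E : Set ↥(P : Subgroup G))]
        exact lt_of_le_of_lt ((Set.ncard_insert_le _ _).trans (by simp)) (lt_of_lt_of_le
          (by norm_num : (2 : ℕ) < 8) hE8))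
    simp only [Set.mem_insert_iff, Set.mem_singleton_iff, not_or] at hb'
    exact ⟨a, b, ha, hb, fun h => ha1 (Subtype.ext h), hb'.1, fun h => hb'.2 h.symm⟩
  have hEcomm : ∀ a ∈ E, ∀ b ∈ E, a * b = b * a := fun a ha b hb =>
    congrArg Subtype.val (hEc.is_comm.comm (⟨a, ha⟩ : E) ⟨b, hb⟩)
  obtain ⟨U₀, hU₀, hU₀a, hU₀b, hU₀el⟩ := Cfsg.Agent.S0502.klein (hE2 _ h₁) (hE2 _ h₂)
    (hEcomm _ h₁ _ h₂) h₁1 h₂1 h₁₂
  have hU₀E : U₀ ≤ E := fun u hu => by
    rcases hU₀el u hu with h | h | h | h <;> rw [h]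
    exacts [E.one_mem, h₁, h₂, E.mul_mem h₁ h₂]
  have hW : ∀ U : Subgroup ↥(P : Subgroup G), IsKleinFour U →
      closure (U.map ι) = closure (E.map ι) := by
    intro U hU
    rw [← (closure_eq hc hEel hE3 (Subgroup.map_mono hU₀E) (hfour U₀ hU₀).2).1]
    symm
    induction hconn U₀ U hU₀ hU with
    | refl => rfl
    | @tail B C _ hBC ih =>
      obtain ⟨hB, hC, hcomm⟩ := hBC
      rw [ih hB]
      refine hadj _ _ (hfour B hB).1 (hfour C hC).1 (hfour B hB).2 (hfour C hC).2 ?_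
      rintro _ ⟨a, ha, rfl⟩ _ ⟨c, hc, rfl⟩
      rw [← map_mul, ← map_mul, hcomm a ha c hc]
  -- every involution of the Sylow subgroup lies in a four subgroup
  obtain ⟨z, hzE, hzc, hz1⟩ : ∃ z ∈ E, z ∈ Subgroup.center ↥(P : Subgroup G) ∧ z ≠ 1 := by
    letI : MulAction ↥(P : Subgroup G) E :=
      MulAction.compHom E (MulAut.conjNormal : ↥(P : Subgroup G) →* MulAut E)
    obtain ⟨n, hn⟩ := IsPGroup.iff_card.mp (hP.to_subgroup E)
    have hn0 : n ≠ 0 := by rintro rfl; rw [hn] at hE8; norm_num at hE8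
    obtain ⟨b, hb, hne⟩ := hP.exists_fixed_point_of_prime_dvd_card_of_fixed_point (α := E)
      (by rw [hn]; exact dvd_pow_self 2 hn0) (a := 1) (fun g => map_one (MulAut.conjNormal g))
    refine ⟨b, b.2, Subgroup.mem_center_iff.mpr fun g => ?_, fun h => hne (Subtype.ext h.symm)⟩
    have h1 : g * (b : ↥(P : Subgroup G)) * g⁻¹ = b := by
      have := congrArg Subtype.val (hb g)
      simpa [MulAction.compHom_smul_def] using this
    exact mul_inv_eq_iff_eq_mul.mp h1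
  have hinv : ∀ t : G, t ∈ (P : Subgroup G) → orderOf t = 2 → θ t ≤ closure (E.map ι) := by
    intro t htP ht
    set s : ↥(P : Subgroup G) := ⟨t, htP⟩ with hs
    have hs2 : s ^ 2 = 1 := Subtype.ext (by
      show t ^ 2 = 1
      rw [← ht, pow_orderOf_eq_one])
    have hs1 : s ≠ 1 := fun h => by
      have h' : t = 1 := congrArg Subtype.val h
      rw [h', orderOf_one] at ht
      exact absurd ht (by norm_num)
    obtain ⟨U, hU, hsU⟩ : ∃ U : Subgroup ↥(P : Subgroup G), IsKleinFour U ∧ s ∈ U := by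
      by_cases hsz : z = s
      · obtain ⟨e, he, he1, hes⟩ : ∃ e ∈ E, e ≠ 1 ∧ e ≠ s := by
          by_cases h : e₁ = s
          · exact ⟨e₂, h₂, h₂1, fun h' => h₁₂ (h.trans h'.symm)⟩
          · exact ⟨e₁, h₁, h₁1, h⟩
        obtain ⟨U, hU, hsU, -, -⟩ := Cfsg.Agent.S0502.klein hs2 (hE2 e he)
          (hEcomm s (hsz ▸ hzE) e he) hs1 he1 hes.symm
        exact ⟨U, hU, hsU⟩
      · obtain ⟨U, hU, hsU, -, -⟩ := Cfsg.Agent.S0502.klein hs2 (hE2 z hzE)
          (Subgroup.mem_center_iff.mp hzc s) hs1 hz1 (Ne.symm hsz)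
        exact ⟨U, hU, hsU⟩
    rw [← hW U hU]
    refine theta_le_closure ⟨s, hsU, rfl⟩ fun h => ?_
    rw [h, orderOf_one] at ht
    exact absurd ht (by norm_num)
  have hle : ∀ b : G, b ∈ (P : Subgroup G) → b ≠ 1 → θ b ≤ closure (E.map ι) := by
    intro b hb hb1
    obtain ⟨k, hk⟩ := hP ⟨b, hb⟩
    have hk' : b ^ 2 ^ k = 1 := congrArg Subtype.val hk
    obtain ⟨m, hm, hm'⟩ : ∃ m, b ^ 2 ^ m ≠ 1 ∧ b ^ 2 ^ (m + 1) = 1 := by
      have hex : ∃ j, b ^ 2 ^ j = 1 := ⟨k, hk'⟩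
      have h0 : Nat.find hex ≠ 0 := fun h => hb1 (by simpa [h] using Nat.find_spec hex)
      refine ⟨Nat.find hex - 1, Nat.find_min hex (by omega), ?_⟩
      rw [Nat.sub_add_cancel (Nat.pos_of_ne_zero h0)]
      exact Nat.find_spec hex
    have ht : orderOf (b ^ 2 ^ m) = 2 :=
      orderOf_eq_prime (by rw [← pow_mul, ← pow_succ, hm']) hm
    refine le_trans (le_trans ?_ (centralizerPPrimeCore_balance_of_pow (a := b) (b := b ^ 2 ^ m)
      (n := m + 1) ((Commute.refl b).pow_right _).eq hm' (hc _ ht)))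
      (hinv _ (pow_mem hb _) ht)
    refine le_inf le_rfl fun u hu => ?_
    have hub : Commute u b := Subgroup.mem_centralizer_singleton_iff.mp (Subgroup.map_subtype_le _ hu)
    exact Subgroup.mem_centralizer_singleton_iff.mpr (hub.pow_right _).eq
  intro B hBP hB
  have hWB : closure (E.map ι) = closure B := by
    refine le_antisymm ?_ (iSup_le fun b => hle b (hBP b.2.1) b.2.2)
    obtain ⟨C, hCc, hC2, hC4⟩ : ∃ C : Subgroup ↥B, IsMulCommutative C ∧ (∀ a ∈ C, a ^ 2 = 1) ∧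
        2 < Nat.card C := by
      unfold Cfsg.PRankLE at hB
      push Not at hB
      simpa using hB
    obtain ⟨⟨a, ha⟩, ha1⟩ := @exists_ne C (Finite.one_lt_card_iff_nontrivial.mp (by omega)) 1
    obtain ⟨c, hc', hc''⟩ : ∃ c ∈ (C : Set ↥B), c ∉ ({1, a} : Set ↥B) :=
      Set.exists_mem_notMem_of_ncard_lt_ncard (by
        rw [← Nat.card_coe_set_eq (C : Set ↥B)]
        exact lt_of_le_of_lt ((Set.ncard_insert_le _ _).trans (by simp)) hC4)
    simp only [Set.mem_insert_iff, Set.mem_singleton_iff, not_or] at hc''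
    obtain ⟨U, hU, -, -, -⟩ := Cfsg.Agent.S0502.klein (hC2 a ha) (hC2 c hc')
      (congrArg Subtype.val (hCc.is_comm.comm (⟨a, ha⟩ : C) ⟨c, hc'⟩))
      (fun h => ha1 (Subtype.ext h)) hc''.1 (Ne.symm hc''.2)
    have hU' : IsKleinFour ↥(U.map (Subgroup.inclusion hBP)) := by
      let e := Subgroup.equivMapOfInjective U _ (Subgroup.inclusion_injective hBP)
      exact ⟨by rw [← Nat.card_congr e.toEquiv, hU.card_four],
        by rw [← Monoid.exponent_eq_of_mulEquiv e, hU.exponent_two]⟩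
    rw [← hW _ hU']
    refine iSup_le fun b => theta_le_closure ?_ b.2.2
    obtain ⟨_, ⟨u, -, rfl⟩, hu⟩ := b.2.1
    rw [← hu]
    exact u.2
  refine ⟨hWB, fun g hg => ?_⟩
  have hmap : ∀ g ∈ Subgroup.normalizer (B : Set G),
      (closure B).map (MulAut.conj g).toMonoidHom ≤ closure B := by
    intro g hg
    rw [closure, Subgroup.map_iSup]
    refine iSup_le fun b => ?_
    rw [← centralizerPPrimeCore_conj]
    exact theta_le_closure ((Subgroup.mem_normalizer_iff.mp hg _).mp b.2.1)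
      fun h => b.2.2 (conj_eq_one_iff.mp h)
  rw [hWB]
  refine Subgroup.mem_normalizer_iff.mpr fun w => ⟨fun hw => hmap g hg ⟨w, hw, rfl⟩, fun hw => ?_⟩
  have h := hmap g⁻¹ (inv_mem hg) ⟨_, hw, rfl⟩
  simpa [mul_assoc] using h

/-- Every Sylow 2-subgroup inherits a normal elementary abelian subgroup of order 8 from an
abelian normal subgroup of 2-rank at least 3 of one of them. -/
theorem exists_elementary_normal (S S' : Sylow 2 G) (A : Subgroup ↥(S : Subgroup G)) (hAn : A.Normal)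
    (hAab : IsMulCommutative ↥A) (hA3 : ¬ Cfsg.PRankLE 2 2 ↥A) :
    ∃ E : Subgroup ↥(S' : Subgroup G), E.Normal ∧ IsMulCommutative E ∧ (∀ e ∈ E, e ^ 2 = 1) ∧
      8 ≤ Nat.card E := by
  have hA : ∀ a ∈ A, ∀ b ∈ A, Commute a b := fun a ha b hb =>
    congrArg Subtype.val (hAab.is_comm.comm (⟨a, ha⟩ : A) ⟨b, hb⟩)
  let Ω : Subgroup ↥(S : Subgroup G) :=
    { carrier := {a | a ∈ A ∧ a ^ 2 = 1}
      one_mem' := ⟨A.one_mem, one_pow 2⟩
      mul_mem' := fun {a b} ha hb =>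
        ⟨A.mul_mem ha.1 hb.1, by rw [(hA a ha.1 b hb.1).mul_pow, ha.2, hb.2, one_mul]⟩
      inv_mem' := fun {a} ha => ⟨A.inv_mem ha.1, by rw [inv_pow, ha.2, inv_one]⟩ }
  have hΩn : Ω.Normal := ⟨fun a ha g => ⟨hAn.conj_mem a ha.1 g, by rw [conj_pow, ha.2]; group⟩⟩
  have hΩ8 : 8 ≤ Nat.card Ω := by
    unfold Cfsg.PRankLE at hA3
    push Not at hA3
    obtain ⟨C, -, hC2, hC⟩ := hA3
    have hle : C.map A.subtype ≤ Ω := by
      rintro _ ⟨c, hc, rfl⟩
      exact ⟨c.2, by simpa using congrArg Subtype.val (hC2 c hc)⟩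
    have h := Subgroup.card_le_of_le hle
    rw [Subgroup.card_map_of_injective A.subtype_injective] at h
    obtain ⟨n, hn⟩ := IsPGroup.iff_card.mp (show IsPGroup 2 C from fun b =>
      ⟨1, Subtype.ext (by rw [pow_one]; exact hC2 b b.2)⟩)
    rw [hn] at hC h
    have h3 : 3 ≤ n := (Nat.pow_lt_pow_iff_right one_lt_two).mp hC
    exact le_trans (show 8 ≤ 2 ^ n from (Nat.pow_le_pow_right two_pos h3)) h
  let e := Sylow.equiv S S'
  refine ⟨Ω.map e.toMonoidHom, hΩn.map _ e.surjective, ⟨⟨fun u v => Subtype.ext ?_⟩⟩, ?_, ?_⟩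
  · obtain ⟨a, ha, hae⟩ := u.2
    obtain ⟨b, hb, hbe⟩ := v.2
    show (u : ↥(S' : Subgroup G)) * v = v * u
    rw [← hae, ← hbe, ← map_mul, ← map_mul, (hA a ha.1 b hb.1).eq]
  · rintro _ ⟨a, ha, rfl⟩
    rw [← map_pow, ha.2, map_one]
  · rwa [Subgroup.card_map_of_injective e.injective]

end CfsgLib.Signalizer.CoreSubgroup
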