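import Mathlib
import Cfsg.Agent.Lib.Signalizer.Solvable

/-!
Consequences of the solvable signalizer functor theorem.
-/

set_option autoImplicit false
set_option linter.style.haveILetI false

open CfsgLib.Coprime

namespace CfsgLib.Signalizer

/-- A group of order prime to `p` acted on by an elementary abelian group of order at least `p ^ 3`
is solvable when the fixed subgroups are. -/
theorem isSolvable_of_centralizers {X : Type*} [Group X] [Finite X] {p : ℕ} [hp : Fact p.Prime]
    {A K : Subgroup X} (hA : Cfsg.IsElementaryAbelian p A) (hA3 : p ^ 3 ≤ Nat.card A)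
    (hK : (Nat.card K).Coprime p) (hAK : A ≤ Subgroup.normalizer (K : Set X))
    (hC : ∀ a ∈ A, a ≠ 1 → Group.IsSolvable ↥(K ⊓ Subgroup.centralizer ({a} : Set X))) :
    Group.IsSolvable K := by
  haveI := hA.1
  have hKp : ¬ p ∣ Nat.card K := fun hd =>
    hp.out.ne_one (Nat.eq_one_of_dvd_coprimes hK hd (dvd_refl p))
  have hθ : Cfsg.IsSolvableSignalizerFunctor p A
      (fun a => K ⊓ Subgroup.centralizer ({a} : Set X)) := by
    refine ⟨⟨fun a _ _ => inf_le_right,
      fun a _ _ hd => hKp (hd.trans (Subgroup.card_dvd_of_le inf_le_left)),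
      fun a ha _ => forall_of_le_normalizer (le_normalizer_inf_of_le hAK fun b hb =>
        Subgroup.le_normalizer (Subgroup.mem_centralizer_singleton_iff.mpr
          (congrArg Subtype.val (hA.1.is_comm.comm (⟨b, hb⟩ : A) ⟨a, ha⟩) :))),
      fun a _ _ b _ _ => ?_⟩, hC⟩
    exact inf_le_inf_right _ inf_le_left
  obtain ⟨W, hW, -, hle⟩ := hasCover hA hA3 hθ
  refine isSolvable_of_le ?_ hW
  refine le_of_centralizer_le (not_isCyclic_of_exponent hA.2 hp.out.pos ?_) hAK
    (coprime_card hA hKp) fun a ha ha1 => (hle a ha ha1).1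
  calc p = p ^ 1 := (pow_one p).symm
    _ < p ^ 3 := Nat.pow_lt_pow_right hp.out.one_lt (by norm_num)
    _ ≤ Nat.card A := hA3

end CfsgLib.Signalizer
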